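import Cfsg.Agent.H1.Sz
import Cfsg.Agent.H1.L2F
import Cfsg.Agent.H9.Qd
import Cfsg.Agent.H7.FStar

/-! Groups whose non-abelian composition factors are Suzuki groups or `PSL₂(3 ^ (2 n + 1))`. -/

set_option autoImplicit false
set_option linter.unusedSectionVars false

namespace CfH1

open Cfsg Subgroup CfH9 CfH7 CfH8
open scoped Pointwise commutatorElement

universe u

def Nice (L : Type*) [Group L] : Prop := (∃ q r, SzF L q r) ∨ L2F L

/-- The non-abelian composition factors of even order are nice. -/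
def CK (G : Type u) [Group G] : Prop :=
  ∀ H : Subgroup G, H.IsSubnormal → ∀ (X : Type u) [Group X] (f : H →* X), Function.Surjective f →
    IsSimpleGroup X → ¬ IsMulCommutative X → 2 ∣ Nat.card X → Nice X

variable {G G' : Type u} [Group G] [Group G']

theorem nice_of {X : Type*} [Group X] [Finite X] [IsSimpleGroup X] (h : IsSuzukiOrPSL2OddPowerThree X) :
    Nice X := by
  rcases h with h | ⟨F, _, _, n, hF, ⟨e⟩⟩
  · exact Or.inl (exists_szF h)
  · haveI := e.symm.isSimpleGroup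
    exact Or.inr ((l2F_psl hF).of_equiv e.symm)

theorem ck_of [Finite G] (h : IsCompositionKGroupWith IsSuzukiOrPSL2OddPowerThree G) : CK G := by
  intro H hH X _ f hf hs hc _
  haveI := Finite.of_surjective f hf
  have e := QuotientGroup.quotientKerEquivOfSurjective f hf
  have h1 := h H hH f.ker e.isSimpleGroup fun h2 => hc ⟨⟨fun a b => by
    obtain ⟨a, rfl⟩ := e.surjective a
    obtain ⟨b, rfl⟩ := e.surjective b
    rw [← map_mul, ← map_mul, h2.is_comm.comm]⟩⟩
  refine nice_of ?_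
  rcases h1 with ⟨F, _, _, m, hm, hF, ⟨e'⟩⟩ | ⟨F, _, _, n, hF, ⟨e'⟩⟩
  · exact Or.inl ⟨F, _, _, m, hm, hF, ⟨e.symm.trans e'⟩⟩
  · exact Or.inr ⟨F, _, _, n, hF, ⟨e.symm.trans e'⟩⟩

theorem CK.of_surj (h : CK G) (φ : G →* G') (hφ : Function.Surjective φ) : CK G' :=
  fun H hH X _ f hf => h _ (hH.comap φ) X (f.comp (φ.subgroupComap H))
    (hf.comp (φ.subgroupComap_surjective_of_surjective H hφ))

theorem CK.quot (h : CK G) (N : Subgroup G) [N.Normal] : CK (G ⧸ N) := h.of_surj _ (QuotientGroup.mk'_surjective N)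

theorem CK.sub (h : CK G) {H : Subgroup G} (hH : H.IsSubnormal) : CK H :=
  fun K hK X _ f hf => h _ (hK.trans' hH) X (f.comp (K.equivMapOfInjective _ H.subtype_injective).symm.toMonoidHom)
    (hf.comp (MulEquiv.surjective _))

theorem CK.ext (φ : G →* G') (hφ : Function.Surjective φ) (h1 : CK φ.ker) (h2 : CK G') : CK G := by
  intro H hH X _ f hf hs
  rcases ((inferInstance : (φ.ker.subgroupOf H).Normal).map f hf).eq_bot_or_eq_top with h | h
  · have h3 : (φ.subgroupMap H).ker ≤ f.ker := fun x hx =>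
      (Subgroup.map_eq_bot_iff _).1 h (congrArg Subtype.val hx)
    refine h2 _ (hH.map hφ) X ((φ.subgroupMap H).liftOfSurjective (φ.subgroupMap_surjective H) ⟨f, h3⟩) ?_ hs
    intro x
    obtain ⟨y, rfl⟩ := hf x
    exact ⟨φ.subgroupMap H y, by simp⟩
  · refine h1 _ hH.subgroupOf X (f.comp (φ.ker.subtype.subgroupComap H)) ?_ hs
    intro x
    obtain ⟨y, hy, rfl⟩ := h.ge (mem_top x)
    exact ⟨⟨⟨y, hy⟩, y.2⟩, rfl⟩

theorem ck_of_odd [Finite G] (h : ¬ 2 ∣ Nat.card G) : CK G := fun H _ _ _ f hf _ _ h2 =>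
  absurd (h2.trans ((card_dvd_of_surjective f hf).trans (card_subgroup_dvd_card H))) h

theorem ck_of_pgroup [Finite G] (h : IsPGroup 2 G) : CK G := fun H _ X _ f hf _ hc _ => by
  haveI := Finite.of_surjective f hf
  haveI := ((h.to_subgroup H).of_surjective f hf).isNilpotent
  exact absurd (IsSimpleGroup.comm_iff_isSolvable.2 inferInstance) fun h => hc ⟨⟨h⟩⟩

theorem CK.of_subgroupOf {N H : Subgroup G} (h : CK N) (hle : N ≤ H) : CK (N.subgroupOf H) :=
  h.of_surj (subgroupOfEquivOfLe hle).symm.toMonoidHom (MulEquiv.surjective _)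

/-- `N P` for a normal subgroup `N` and a `2`-subgroup `P`. -/
theorem CK.sup [Finite G] (h : CK G) (N : Subgroup G) [hN : N.Normal] {P : Subgroup G} (hP : IsPGroup 2 P) :
    CK (N ⊔ P : Subgroup G) := by
  refine CK.ext (QuotientGroup.mk' (N.subgroupOf (N ⊔ P))) (QuotientGroup.mk'_surjective _) ?_ (ck_of_pgroup ?_)
  · rw [QuotientGroup.ker_mk']; exact (h.sub hN.isSubnormal).of_subgroupOf le_sup_left
  · refine hP.of_surjective ((QuotientGroup.mk' _).comp (inclusion le_sup_right)) fun x => ?_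
    obtain ⟨⟨x, hx⟩, rfl⟩ := QuotientGroup.mk_surjective x
    obtain ⟨n, hn, a, ha, rfl⟩ := mem_sup_of_normal_left.1 hx
    refine ⟨⟨a, ha⟩, QuotientGroup.eq.2 ?_⟩
    change a⁻¹ * (n * a) ∈ N
    simpa [mul_assoc] using hN.conj_mem n hn a⁻¹

/-- The Frattini normalizer. -/
theorem CK.Nm [Finite G] (h : CK G) {M T : Subgroup G} [M.Normal] (hT : SylIn 2 T M) : CK Nm(T) := by
  refine CK.ext ((QuotientGroup.mk' M).comp Nm(T).subtype) (fun x => ?_) ?_ (h.quot M)
  · obtain ⟨g, rfl⟩ := QuotientGroup.mk_surjective x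
    obtain ⟨y, hy, n, hn, rfl⟩ := hT.frattini' (mem_Nm_of_normal g M)
    exact ⟨⟨y, hy⟩, QuotientGroup.eq.2 (by simpa using hn)⟩
  · have e : ((QuotientGroup.mk' M).comp Nm(T).subtype).ker = (M ⊓ Nm(T)).subgroupOf Nm(T) := by
      ext x; simp [mem_subgroupOf]
    rw [e]
    refine CK.of_subgroupOf ?_ inf_le_right
    haveI : (T.subgroupOf (M ⊓ Nm(T))).Normal := normal_subgroupOf_of_le_normalizer inf_le_right
    refine CK.ext (QuotientGroup.mk' (T.subgroupOf (M ⊓ Nm(T)))) (QuotientGroup.mk'_surjective _) ?_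
      (ck_of_odd ?_)
    · rw [QuotientGroup.ker_mk']; exact ck_of_pgroup (isPGroup_subgroupOf hT.pgrp _)
    · exact (hT.mono (le_inf hT.le le_normalizer) inf_le_left).not_dvd_relIndex

theorem CK.nice [Finite G] (h : CK G) {L : Subgroup G} (hL : L.IsSubnormal) [hs : IsSimpleGroup L]
    (hc : ¬ IsMulCommutative L) (h2 : 2 ∣ Nat.card L) : Nice L :=
  h L hL L (MonoidHom.id _) Function.surjective_id hs hc h2

end CfH1
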