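import Cfsg.Agent.H1.CK
import Cfsg.Agent.H8.FF2a
import Cfsg.Agent.H8.Gaschuetz
import Cfsg.Agent.H7.PIrr

/-! Elements of odd prime power order inverted by an elementary abelian `2`-group. -/

set_option autoImplicit false
set_option linter.unusedSectionVars false

namespace CfH1

open Cfsg Subgroup CfH9 CfH7 CfH8
open scoped Pointwise commutatorElement

universe u

variable {G : Type*} [Group G]

/-- Modulo `N`, the `r`-element `x` is centralized by `A₁` and inverted by `s`, and `r` is large compared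
to `|A : A₁|`. -/
structure Dat (N A A₁ : Subgroup G) (s x : G) (r : ℕ) : Prop where
  prime : r.Prime
  ne_two : r ≠ 2
  s_mem : s ∈ A
  le : A₁ ≤ A
  inf_le : A ⊓ N ≤ A₁
  not_mem : x ∉ N
  pow : ∃ k, x ^ r ^ k = 1
  inv : s * x * s⁻¹ = x⁻¹
  cent : ∀ a ∈ A₁, ⁅a, x⁆ ∈ N
  big : ∀ m, 0 < m → r ∣ 2 ^ m - 1 → A₁.relIndex A ^ 4 ≤ 2 ^ (m + 1)

theorem mem_zpowers_pow_of_pelt {x : G} {r k n : ℕ} (hx : x ^ r ^ k = 1) (hn : n.Coprime r) :
    x ∈ zpowers (x ^ n) :=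
  mem_zpowers_pow_iff.2 ((hn.pow_right k).coprime_dvd_right (orderOf_dvd_of_pow_eq_one hx))

theorem mul_self_of_elem {A : Subgroup G} (hA : IsElementaryAbelian 2 A) {a : G} (ha : a ∈ A) : a * a = 1 := by
  rw [← pow_two, hA.2 a ha]

theorem inv_of_elem {A : Subgroup G} (hA : IsElementaryAbelian 2 A) {a : G} (ha : a ∈ A) : a⁻¹ = a :=
  inv_eq_of_mul_eq_one_right (mul_self_of_elem hA ha)

namespace Dat

variable {N A A₁ : Subgroup G} {s x : G} {r : ℕ} (h : Dat N A A₁ s x r)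
include h

theorem coprime : (2 : ℕ).Coprime r := (Nat.coprime_primes Nat.prime_two h.prime).2 h.ne_two.symm

theorem mem_sq : x ∈ zpowers (x ^ 2) := by
  obtain ⟨k, hk⟩ := h.pow
  exact mem_zpowers_pow_of_pelt hk h.coprime

theorem s_not_mem : s ∉ A₁ := fun hs => by
  have h1 := h.cent s hs
  rw [commutatorElement_def, h.inv, ← mul_inv_rev, inv_mem_iff, ← pow_two] at h1
  exact h.not_mem (zpowers_le.2 h1 h.mem_sq)

theorem one_lt [Finite G] : 1 < A₁.relIndex A := by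
  have h1 := relIndex_pos' A₁ A
  have h2 : A₁.relIndex A ≠ 1 := fun e => h.s_not_mem (relIndex_eq_one.1 e h.s_mem)
  omega

theorem ne_one : x ≠ 1 := fun e => h.not_mem (e ▸ one_mem N)

theorem card_coprime : (Nat.card (zpowers x)).Coprime 2 := by
  obtain ⟨k, hk⟩ := h.pow
  rw [Nat.card_zpowers]
  exact (h.coprime.symm.pow_left k).coprime_dvd_left (orderOf_dvd_of_pow_eq_one hk)

theorem mem_sup : x ∈ zpowers s ⊔ zpowers (x * s * x⁻¹) := by
  refine zpowers_le.2 ?_ h.mem_sq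
  have : x ^ 2 = (x * s * x⁻¹) * s⁻¹ := by
    rw [pow_two]
    calc x * x = x * (s * x * s⁻¹)⁻¹ := by rw [h.inv, inv_inv]
      _ = _ := by group
  rw [this]
  exact mul_mem (mem_sup_right (mem_zpowers _)) (mem_sup_left (inv_mem (mem_zpowers _)))

theorem conj {g : G} [hN : N.Normal] (hg : g ∈ Cz(A)) : Dat N A A₁ s (g * x * g⁻¹) r := by
  have e : ∀ a ∈ A, g * a * g⁻¹ = a := fun a ha => conj_eq_of_mem_centralizer hg ha
  refine ⟨h.prime, h.ne_two, h.s_mem, h.le, h.inf_le, fun hx => h.not_mem ?_, ?_, ?_, fun a ha => ?_, h.big⟩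
  · simpa [mul_assoc] using hN.conj_mem _ hx g⁻¹
  · obtain ⟨k, hk⟩ := h.pow
    exact ⟨k, by rw [conj_pow, hk]; simp⟩
  · rw [← e s h.s_mem, conj_inv, conj_inv, conj_mul, conj_mul, h.inv]
  · rw [← e a (h.le ha), ← conjugate_commutatorElement]
    exact hN.conj_mem _ (h.cent a ha) g

end Dat

theorem Dat.mem_Cz {A A₁ : Subgroup G} {s x : G} {r : ℕ} (h : Dat ⊥ A A₁ s x r) : x ∈ Cz(A₁) := fun a ha =>
  (commutatorElement_eq_one_iff_mul_comm.1 (mem_bot.1 (h.cent a ha)))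

theorem three_le_of_dvd {r m : ℕ} (hr : r.Prime) (h3 : r ≠ 3) (hm : 0 < m) (h : r ∣ 2 ^ m - 1) : 3 ≤ m := by
  by_contra h1
  have : m = 1 ∨ m = 2 := by omega
  rcases this with rfl | rfl
  · exact hr.one_lt.ne' (by simpa using h)
  · exact h3 ((Nat.prime_dvd_prime_iff_eq hr Nat.prime_three).1 (by simpa using h))

theorem Dat.mk2 [Finite G] (h3 : ¬ Involves (DihedralGroup 3) G) {A B : Subgroup G} (hA : IsElementaryAbelian 2 A)
    (hB : B ≤ A) {s x : G} (hs : s ∈ A) (hAB : A ≤ B ⊔ zpowers s) (hx : x ∈ Cz(B)) (h1 : x ≠ 1) {r k : ℕ}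
    (hr : r.Prime) (h2 : r ≠ 2) (hk : x ^ r ^ k = 1) (hi : s * x * s⁻¹ = x⁻¹) : Dat ⊥ A B s x r := by
  refine ⟨hr, h2, hs, hB, by simp, by simpa using h1, ⟨k, hk⟩, hi,
    fun a ha => mem_bot.2 (commutatorElement_eq_one_iff_mul_comm.2 (hx a ha)), fun m hm hd => ?_⟩
  have hr3 : r ≠ 3 := by
    rintro rfl
    haveI := Fact.mk hr
    exact h3 (involves_dihedral_of_inverts h2 (k := 1) (hA.2 s hs) hk h1 hi)
  have e : B.relIndex A ≤ 2 := by
    refine Nat.le_of_dvd two_pos (relIndex_dvd_two_iff.2 ⟨s, hs, fun b hb => ?_⟩)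
    obtain ⟨c, hc, y, hy, rfl⟩ := (mem_sup_of_le_Nm' (zpowers_le.2 (Cz_le_Nm _ (Cz_anti hB (elemAb_le_Cz hA hs))))).1
      (hAB hb)
    rcases eq_one_or_eq_of_mem_zpowers (hA.2 s hs) hy with rfl | rfl
    · exact Or.inr (by simpa using hc)
    · exact Or.inl (by rw [mul_assoc, mul_self_of_elem hA hs]; simpa using hc)
  calc _ ≤ 2 ^ 4 := Nat.pow_le_pow_left e 4
    _ ≤ _ := Nat.pow_le_pow_right two_pos (by have := three_le_of_dvd hr hr3 hm hd; omega)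

/-- An element of odd order is generated by its parts of prime power order. -/
theorem mem_of_parts [Finite G] {z : G} (hz : Odd (orderOf z)) {W : Subgroup G}
    (h : ∀ y ∈ zpowers z, y ≠ 1 → ∀ r k : ℕ, r.Prime → r ≠ 2 → y ^ r ^ k = 1 → y ∈ W) : z ∈ W := by
  refine zpowers_le.1 (le_of_forall_sylIn fun q hq hd => ?_)
  haveI := Fact.mk hq
  obtain ⟨S, hS⟩ := exists_sylIn q (zpowers z)
  refine ⟨S, hS, fun y hy => ?_⟩
  by_cases h1 : y = 1
  · exact h1 ▸ one_mem W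
  obtain ⟨k, hk⟩ := isPGroup_iff_mem.1 hS.pgrp y hy
  refine h y (hS.le hy) h1 q k hq ?_ hk
  rintro rfl
  rw [Nat.card_zpowers] at hd
  exact (Nat.not_even_iff_odd.2 hz) (even_iff_two_dvd.2 hd)

theorem inverts_zpowers {s z y : G} (h : s * z * s⁻¹ = z⁻¹) (hy : y ∈ zpowers z) : s * y * s⁻¹ = y⁻¹ := by
  obtain ⟨n, rfl⟩ := hy
  simp only
  rw [← conj_zpow, h, inv_zpow]

theorem odd_gen [Finite G] (h3 : ¬ Involves (DihedralGroup 3) G) {A X W : Subgroup G}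
    (hA : IsElementaryAbelian 2 A) (hX : (Nat.card X).Coprime 2) (hn : A ≤ Nm(X))
    (hW : ∀ A₁ s x r, Dat ⊥ A A₁ s x r → x ∈ X → x ∈ W) : ⁅X, A⁆ ≤ W := by
  set D : Set G := {x | x ∈ X ∧ ∃ A₁ s r, Dat ⊥ A A₁ s x r} with hD
  have h1 : closure D ≤ W := (closure_le _).2 fun x ⟨hx, _, _, _, h⟩ => hW _ _ _ _ h hx
  have h2 : Nm(X) ⊓ Cz(A) ≤ Nm(closure D) := fun g hg => mem_normalizer_of_cj_le (by
    rw [cj_closure]
    refine closure_mono ?_
    rintro _ ⟨x, ⟨hx, A₁, s, r, h⟩, rfl⟩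
    exact ⟨conj_mem_of_mem_normalizer hg.1 hx, A₁, s, r, h.conj hg.2⟩)
  have h4 : X ⊓ Cz(A) ≤ Nm(closure D) := (inf_le_inf_right _ le_normalizer).trans h2
  have h5 : X ≤ closure D ⊔ X ⊓ Cz(A) := by
    obtain ⟨n, hn'⟩ := IsPGroup.iff_card.1 (elemAb_isPGroup hA)
    refine le_of_cocyclic hA.1 hn (hn' ▸ hX.symm.pow_left n) ?_
    rintro B hB ⟨s, hs, hAB⟩ g ⟨hg, hgB⟩
    have hs2 := mul_self_of_elem hA hs
    have hsB : s ∈ Cz(B) := Cz_anti hB (elemAb_le_Cz hA hs)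
    set y := g⁻¹ * (s * g * s⁻¹) with hy
    have hyX : y ∈ X := mul_mem (inv_mem hg) (conj_mem_of_mem_normalizer (hn hs) hg)
    have hyB : y ∈ Cz(B) := mul_mem (inv_mem hgB) (mul_mem (mul_mem hsB hgB) (inv_mem hsB))
    have hi : s * y * s⁻¹ = y⁻¹ := by
      rw [hy, inv_of_elem hA hs]
      calc _ = s * g⁻¹ * (s * g) * (s * s) := by group
        _ = _ := by rw [hs2, mul_inv_rev, mul_inv_rev, mul_inv_rev, inv_of_elem hA hs]; group
    have ho : Odd (orderOf y) := Nat.coprime_two_right.1 (hX.coprime_dvd_left (orderOf_dvd_natCard _ hyX))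
    have hyD : y ∈ closure D := mem_of_parts ho fun z hz z1 r k hr h2 hk => subset_closure
      ⟨zpowers_le.2 hyX hz, B, s, r, Dat.mk2 h3 hA hB hs hAB (zpowers_le.2 hyB hz) z1 hr h2 hk
        (inverts_zpowers hi hz)⟩
    obtain ⟨k, hk⟩ := ho
    have hc : g * y ^ (k + 1) ∈ X ⊓ Cz(A) := by
      refine ⟨mul_mem hg (pow_mem hyX _), Cz_anti hAB ?_⟩
      rw [Cz_sup, Cz_zpowers]
      refine ⟨mul_mem hgB (pow_mem hyB _), mem_Cx.2 (mem_Cx.1 (mem_Cx'.2 ?_)).symm⟩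
      have e : y ^ (k + 1) * y ^ (k + 1) = y := by
        rw [← pow_add, show k + 1 + (k + 1) = orderOf y + 1 by omega, pow_succ, pow_orderOf_eq_one, one_mul]
      calc _ = (s * g * s⁻¹) * (s * y ^ (k + 1) * s⁻¹) := by group
        _ = g * y * (y ^ (k + 1))⁻¹ := by rw [inverts_pow hi, hy]; group
        _ = _ := by nth_rw 1 [← e]; group
    have : g = g * y ^ (k + 1) * (y ^ (k + 1))⁻¹ := by group
    rw [this]
    exact mul_mem (mem_sup_right hc) (mem_sup_left (inv_mem (pow_mem hyD _)))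
  refine (commutator_mono h5 le_rfl).trans (le_trans ?_ h1)
  exact commutator_sup_left_le le_normalizer h4 (comm_le_left ((le_inf hn (elemAb_le_Cz hA)).trans h2))
    ((comm_eq_bot_left.2 inf_le_right).le.trans bot_le)

theorem commutator_pow_mem {N : Subgroup G} [N.Normal] {a x : G} (h : ⁅a, x⁆ ∈ N) (n : ℕ) : ⁅a, x ^ n⁆ ∈ N := by
  rw [← QuotientGroup.eq_one_iff, ← QuotientGroup.mk'_apply, map_commutatorElement,
    commutatorElement_eq_one_iff_commute] at h ⊢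
  rw [map_pow]; exact h.pow_right n

section lift

variable {G' : Type*} [Group G'] [Finite G] {φ : G →* G'} {A : Subgroup G} {N A₁ : Subgroup G'} {s x : G'} {r : ℕ}

theorem Dat.lift_aux [N.Normal] (hA : IsElementaryAbelian 2 A) (h : Dat N (A.map φ) A₁ s x r) {x₀ : G}
    (hx : φ x₀ = x) : ∃ s' x', Dat (N.comap φ) A (A ⊓ A₁.comap φ) s' x' r ∧ x ∈ zpowers (φ x') ∧
      ∀ W : Subgroup G, x₀ ∈ W → A ≤ Nm(W) → x' ∈ W := by
  haveI := Fact.mk h.prime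
  obtain ⟨s', hs, rfl⟩ := h.s_mem
  subst hx
  set y := x₀ * (s' * x₀ * s'⁻¹)⁻¹ with hy
  have e : φ y = φ x₀ ^ 2 := by rw [hy, map_mul, map_inv, map_mul, map_mul, map_inv, h.inv, inv_inv, pow_two]
  obtain ⟨m, k, hm, hk⟩ := exists_pow_pelt r y
  obtain ⟨j, hj⟩ := h.pow
  have e2 : φ (y ^ m) = φ x₀ ^ (2 * m) := by rw [map_pow, e, pow_mul]
  have h1 : φ x₀ ∈ zpowers (φ (y ^ m)) := by
    rw [e2]
    exact mem_zpowers_pow_of_pelt hj (Nat.Coprime.mul_left h.coprime ((h.prime.coprime_iff_not_dvd.2 hm).symm))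
  refine ⟨s', y ^ m, ⟨h.prime, h.ne_two, hs, inf_le_left,
    fun a ha => ⟨ha.1, h.inf_le ⟨mem_map_of_mem φ ha.1, ha.2⟩⟩,
    fun hx => h.not_mem (zpowers_le.2 (mem_comap.1 hx) h1),
    ⟨k, hk⟩, inverts_pow ?_ m, fun a ha => ?_, fun n hn hd => ?_⟩, h1, fun W hW hn =>
    pow_mem (mul_mem hW (inv_mem (conj_mem_of_mem_normalizer (hn hs) hW))) m⟩
  · rw [hy, inv_of_elem hA hs]
    simp only [mul_inv_rev, inv_inv, inv_of_elem hA hs]
    calc _ = s' * x₀ * s' * x₀⁻¹ * (s' * s') := by group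
      _ = _ := by rw [mul_self_of_elem hA hs]; group
  · rw [mem_comap, map_commutatorElement, e2]
    exact commutator_pow_mem (h.cent _ ha.2) _
  · rw [inf_relIndex_left, relIndex_comap]; exact h.big n hn hd

theorem Dat.lift [N.Normal] (hφ : Function.Surjective φ) (hA : IsElementaryAbelian 2 A)
    (h : Dat N (A.map φ) A₁ s x r) :
    ∃ s' x', Dat (N.comap φ) A (A ⊓ A₁.comap φ) s' x' r ∧ x ∈ zpowers (φ x') := by
  obtain ⟨x₀, hx⟩ := hφ x
  obtain ⟨s', x', h1, h2, -⟩ := h.lift_aux hA hx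
  exact ⟨s', x', h1, h2⟩

theorem Dat.lift_odd {K : Subgroup G} [K.Normal] (hK : (Nat.card K).Coprime 2) (hA : IsElementaryAbelian 2 A)
    {A₁ : Subgroup (G ⧸ K)} {s x : G ⧸ K} (h : Dat ⊥ (A.map (QuotientGroup.mk' K)) A₁ s x r) :
    ∃ A₂ s' x', Dat ⊥ A A₂ s' x' r ∧ x ∈ zpowers (QuotientGroup.mk' K x') := by
  haveI : Fact (Nat.Prime 2) := ⟨Nat.prime_two⟩
  set B := A ⊓ A₁.comap (QuotientGroup.mk' K)
  have hB : IsPGroup 2 B := (elemAb_isPGroup hA).to_le inf_le_left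
  obtain ⟨n, hn⟩ := IsPGroup.iff_card.1 hB
  haveI := hB.isNilpotent
  have h1 : x ∈ (Cz(B)).map (QuotientGroup.mk' K) := by
    rw [map_centralizer_quotient (hn ▸ hK.symm.pow_left n) (Or.inl inferInstance)]
    exact Cz_anti (map_le_iff_le_comap.2 inf_le_right) h.mem_Cz
  obtain ⟨x₀, h2, hx⟩ := h1
  obtain ⟨s', x', h3, h4, h5⟩ := h.lift_aux hA hx
  have h6 := h5 _ h2 (((elemAb_le_Cz hA).trans (Cz_anti inf_le_left)).trans (Cz_le_Nm _) |>.trans (Nm_le_Nm_Cz B))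
  exact ⟨B, s', x', ⟨h3.prime, h3.ne_two, h3.s_mem, h3.le, by simp, by simpa using h3.ne_one, h3.pow, h3.inv,
    fun a ha => mem_bot.2 (commutatorElement_eq_one_iff_mul_comm.2 (h6 a ha)), h3.big⟩, h4⟩

end lift

/-- The product of the commuting conjugates of `y` under `C`. -/
theorem exists_trace [Finite G] {C L : Subgroup G} {y : G} (h1 : ∀ c ∈ C, c ≠ 1 → c * y * c⁻¹ ∈ Cz(L))
    (h2 : ∀ c ∈ C, y * (c * y * c⁻¹) = (c * y * c⁻¹) * y) :
    ∃ x ∈ nclo (zpowers y) C, x ∈ Cz(C) ∧ y⁻¹ * x ∈ Cz(L) ∧ (∀ n : ℕ, y ^ n = 1 → x ^ n = 1) ∧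
      ∀ g ∈ Cz(C), g * y * g⁻¹ = y⁻¹ → g * x * g⁻¹ = x⁻¹ := by
  classical
  haveI := Fintype.ofFinite C
  set M := nclo (zpowers y) C
  have hM : IsMulCommutative M := by
    have e : ∀ c ∈ C, cj c (zpowers y) ≤ Cz(zpowers y) := fun c hc => by
      rw [cj_zpowers, zpowers_le, Cz_zpowers, mem_Cx]; exact (h2 c hc).symm
    exact le_centralizer_iff_isMulCommutative.1 (nclo_le_Cz (right_le_Nm_nclo _ _)
      (le_Cz_comm (nclo_le_iff'.2 e)))
  letI : CommGroup M := { mul_comm := hM.is_comm.comm }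
  let f : C → M := fun c => ⟨c * y * (c : G)⁻¹, cj_le_nclo c.2 (conj_mem_cj _ (mem_zpowers y))⟩
  have key : ∀ (g : G) (hg : g ∈ Nm(M)), g * (∏ c, f c : M) * g⁻¹ =
      (∏ c, cjAct (le_refl Nm(M)) ⟨g, hg⟩ (f c) : M) := fun g hg => by
    rw [← map_prod, coe_cjAct]
  refine ⟨(∏ c, f c : M), (∏ c, f c).2, le_Cx_iff.1 fun g hg => mem_Cx'.2 ?_, ?_, fun n hn => ?_,
    fun g hg e => ?_⟩
  · rw [key g (right_le_Nm_nclo _ _ hg), ← Equiv.prod_comp (Equiv.mulLeft (⟨g, hg⟩ : C)) f]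
    congr 1
    refine Finset.prod_congr rfl fun c _ => Subtype.ext ?_
    simp [coe_cjAct, f, mul_assoc]
  · rw [← Finset.mul_prod_erase _ _ (Finset.mem_univ 1)]
    have : ∏ c ∈ Finset.univ.erase 1, f c ∈ (Cz(L)).subgroupOf M := Subgroup.prod_mem _ fun c hc =>
      h1 c c.2 (by simpa using hc)
    have e : (f 1 : G) = y := by simp [f]
    rw [Subgroup.coe_mul, e, inv_mul_cancel_left]
    exact this
  · rw [← Subgroup.coe_pow, ← Finset.prod_pow, Finset.prod_eq_one, Subgroup.coe_one]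
    intro c _
    refine Subtype.ext ?_
    simp [f, conj_pow, hn]
  · have hg' : g ∈ Nm(M) := zpowers_le.1 (le_Nm_nclo (zpowers_le.2 (mem_normalizer_of_cj_le (by
      rw [cj_zpowers, e, zpowers_inv]))) (zpowers_le.2 (Cz_le_Nm _ hg)))
    rw [key g hg', ← Subgroup.coe_inv, ← Finset.prod_inv_distrib]
    congr 1
    refine Finset.prod_congr rfl fun c _ => Subtype.ext ?_
    simp only [coe_cjAct, f, Subgroup.coe_inv, conj_inv, ← e]
    have := hg c c.2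
    calc _ = (g * c) * y * (g * c)⁻¹ := by group
      _ = _ := by rw [← this]; group

section comp

variable [Finite G] {A L : Subgroup G}

theorem exists_innerHom (hZ : L ⊓ Cz(L) = ⊥) (h : ∀ a ∈ A, ∃ g ∈ L, g⁻¹ * a ∈ Cz(L)) :
    ∃ f : A →* L, ∀ a : A, (f a : G)⁻¹ * a ∈ Cz(L) := by
  choose g hg hg' using h
  have hN : ∀ a ∈ A, a ∈ Nm(L) := fun a ha => by
    have := mul_mem (le_normalizer (hg a ha)) (Cz_le_Nm _ (hg' a ha))
    simpa using this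
  refine ⟨MonoidHom.mk' (fun a => ⟨g a a.2, hg a a.2⟩) fun a b => Subtype.ext ?_, fun a => hg' a a.2⟩
  have h1 : (g _ (a * b).2)⁻¹ * (g a a.2 * g b b.2) ∈ L ⊓ Cz(L) := by
    refine mi (mul_mem (inv_mem (hg _ _)) (mul_mem (hg _ _) (hg _ _))) ?_
    have h2 := conj_mem_of_mem_normalizer' (mem_Nm_Cz (hN b b.2)) (hg' a a.2)
    have := mul_mem (hg' _ (a * b).2) (inv_mem (mul_mem (hg' b b.2) h2))
    convert this using 1
    simp only [Subgroup.coe_mul]; group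
  rw [hZ, mem_bot, inv_mul_eq_one] at h1
  exact h1

theorem innerHom_conj {f : A →* L} (hf : ∀ a : A, (f a : G)⁻¹ * a ∈ Cz(L)) (a : A) (y : L) :
    (a : G) * y * (a : G)⁻¹ = (f a * y * (f a)⁻¹ : L) := by
  have := conj_eq_of_mem_centralizer (hf a) y.2
  calc _ = f a * ((f a : G)⁻¹ * a * y * ((f a : G)⁻¹ * a)⁻¹) * (f a : G)⁻¹ := by group
    _ = _ := by rw [this]; simp

theorem exists_inner_of_aut {a b : G} (ha : a ∈ Nm(L)) (hb : b⁻¹ * a ∈ L) (hb' : b ∈ Nm(L))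
    (h : ∃ g, L.normalizerMonoidHom ⟨b, hb'⟩ = MulAut.conj g) : ∃ g ∈ L, g⁻¹ * a ∈ Cz(L) := by
  obtain ⟨g, hg⟩ := h
  have h1 : (g : G)⁻¹ * b ∈ Cz(L) := mem_centralizer_of_conj_eq fun y hy => by
    have := congrArg Subtype.val (DFunLike.congr_fun hg ⟨y, hy⟩)
    change b * y * b⁻¹ = g * y * (g : G)⁻¹ at this
    calc _ = (g : G)⁻¹ * (b * y * b⁻¹) * g := by group
      _ = y := by rw [this]; group
  refine ⟨g * (b⁻¹ * a), mul_mem g.2 hb, ?_⟩
  have := conj_mem_of_mem_normalizer' (mem_Nm_Cz (le_normalizer hb)) h1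
  convert this using 1; group

theorem inf_Cz_of_simple [hs : IsSimpleGroup L] (hc : ¬ IsMulCommutative L) : L ⊓ Cz(L) = ⊥ := by
  rw [← map_center_eq]
  rcases (inferInstance : (center L).Normal).eq_bot_or_eq_top with h | h
  · rw [h, Subgroup.map_bot]
  · exact absurd ⟨⟨fun a b => mem_center_iff.1 (h ▸ mem_top b) a⟩⟩ hc

theorem conj_mem_Cz (hL : IsComponent L) {c y : G} (hc : c ∉ Nm(L)) (hy : y ∈ L) : c * y * c⁻¹ ∈ Cz(L) := by
  rcases component_eq_or_commutator_eq_bot (component_conj hL c) hL with h | h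
  · exact absurd (mem_normalizer_iff_cj.2 h) hc
  · exact comm_eq_bot_left.1 h (conj_mem_cj c hy)

/-- The datum from an element of `A` not normalizing the component. -/
theorem dat_of_not_mem (h3 : ¬ Involves (DihedralGroup 3) G) (hL : IsComponent L) (hZ : L ⊓ Cz(L) = ⊥)
    (hA : IsElementaryAbelian 2 A) {B : Subgroup G} (hB : B = A ⊓ Nm(L)) {s y : G} (hs : s ∈ A) (hsL : s ∉ Nm(L))
    (hy : y ∈ L) (hBy : B ≤ Cx(y)) {r : ℕ} (hr : r.Prime) (h2 : r ≠ 2) (ho : orderOf y = r) :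
    ∃ A₁ x, Dat ⊥ A A₁ s x r ∧ x ∈ nclo L A ∧ y⁻¹ * x ∈ Cz(L) := by
  haveI : Fact (Nat.Prime 2) := ⟨Nat.prime_two⟩
  haveI := Fact.mk hr
  have hBA : B ≤ A := hB ▸ inf_le_left
  obtain ⟨C, hC1, hC2⟩ := exists_complement_of_elementary hA (sup_le hBA (zpowers_le.2 hs))
  have hCA : C ≤ A := hC2 ▸ le_sup_right
  have hs2 := mul_self_of_elem hA hs
  have hcm : ∀ a ∈ A, ∀ b ∈ A, a * b = b * a := comm_iff.1 hA.1
  have k1 : ∀ c ∈ C, c ≠ 1 → c ∉ Nm(L) ∧ c * s ∉ Nm(L) := fun c hc c1 => by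
    have : ∀ h : c ∈ B ⊔ zpowers s, False := fun h => c1 (mem_bot.1 (hC1 ▸ mi h hc))
    refine ⟨fun h => this (mem_sup_left (hB ▸ mi (hCA hc) h)), fun h => this ?_⟩
    have := mul_mem (mem_sup_left (T := zpowers s) (hB ▸ mi (mul_mem (hCA hc) hs) h))
      (mem_sup_right (inv_mem (mem_zpowers s)))
    simpa using this
  have hys := conj_mem_Cz hL hsL hy
  set z := y * (s * y * s⁻¹)⁻¹ with hz
  have k2 : ∀ c ∈ C, c ≠ 1 → c * z * c⁻¹ ∈ Cz(L) := fun c hc c1 => by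
    have := mul_mem (conj_mem_Cz hL (k1 c hc c1).1 hy) (inv_mem (conj_mem_Cz hL (k1 c hc c1).2 hy))
    convert this using 1
    rw [hz]; group
  have hi : s * z * s⁻¹ = z⁻¹ := by
    rw [hz, inv_of_elem hA hs]
    simp only [mul_inv_rev, inv_inv, inv_of_elem hA hs]
    calc _ = s * y * s * y⁻¹ * (s * s) := by group
      _ = _ := by rw [hs2]; group
  obtain ⟨x, x1, x2, x3, x4, x5⟩ := exists_trace k2 fun c hc => by
    by_cases c1 : c = 1
    · simp [c1]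
    have e1 : Commute y (c * z * c⁻¹) := k2 c hc c1 y hy
    have e2 : Commute (s * y * s⁻¹) (c * z * c⁻¹) := by
      have := (e1.map (MulAut.conj s)).inv_right
      simp only [MulAut.conj_apply] at this
      convert this using 1
      have e := hcm s hs c (hCA hc)
      calc _ = c * (s * z * s⁻¹)⁻¹ * c⁻¹ := by rw [hi, inv_inv]
        _ = (c * s) * z⁻¹ * (c * s)⁻¹ := by group
        _ = _ := by rw [← e]; group
    exact (e1.mul_left e2.inv_left).eq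
  have x6 : y⁻¹ * x ∈ Cz(L) := by
    have := mul_mem (inv_mem hys) x3
    convert this using 1
    rw [hz]; group
  have hzr : z ^ r = 1 := by
    rw [hz, (Commute.inv_right (hys y hy)).mul_pow, inv_pow, conj_pow, pow_eq_one_of_orderOf ho]; simp
  have hzL : z ∈ nclo L A := mul_mem (le_nclo _ _ hy) (inv_mem (cj_le_nclo hs (conj_mem_cj s hy)))
  refine ⟨B ⊔ C, x, Dat.mk2 h3 hA (sup_le hBA hCA) hs (by rw [sup_right_comm, hC2]) ?_ ?_ hr h2 (k := 1)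
    (by simpa using x4 r hzr) (x5 s (Cz_anti hCA (elemAb_le_Cz hA hs)) hi),
    nclo_le (hCA.trans (right_le_Nm_nclo _ _)) (zpowers_le.2 hzL) x1, x6⟩
  · rw [Cz_sup]
    refine ⟨nclo_le_Cz ((hCA.trans ((elemAb_le_Cz hA).trans (Cz_anti hBA))).trans (Cz_le_Nm _))
      (zpowers_le.2 ?_) x1, x2⟩
    have e1 := le_Cx_iff.1 hBy
    have e2 : s ∈ Cz(B) := Cz_anti hBA (elemAb_le_Cz hA hs)
    exact mul_mem e1 (inv_mem (mul_mem (mul_mem e2 e1) (inv_mem e2)))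
  · rintro rfl
    have : y ∈ L ⊓ Cz(L) := ⟨hy, by simpa using x6⟩
    rw [hZ] at this
    exact ne_one_of_orderOf_eq_prime ho this

theorem sz_dat (h3 : ¬ Involves (DihedralGroup 3) G) (hL : IsComponent L) (hZ : L ⊓ Cz(L) = ⊥) {q r : ℕ}
    (hS : SzF L q r) (h2 : 2 ∣ Nat.card L) (hA : IsElementaryAbelian 2 A) (hn : ¬ A ≤ Cz(L)) :
    ∃ A₁ s x, Dat ⊥ A A₁ s x r ∧ x ∈ nclo L A ∧ ∃ y : L, orderOf y = r ∧ (y : G)⁻¹ * x ∈ Cz(L) := by
  haveI : Fact (Nat.Prime 2) := ⟨Nat.prime_two⟩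
  haveI := Fact.mk hS.prime
  by_cases hB : A ⊓ Nm(L) ≤ Cz(L)
  · obtain ⟨s, hs, hs'⟩ := SetLike.not_le_iff_exists.1 hn
    obtain ⟨t, ht⟩ := exists_prime_orderOf_dvd_card' 2 h2
    obtain ⟨y, hy, -⟩ := hS.inv t (ne_one_of_orderOf_eq_prime ht) (by rw [← pow_two, pow_eq_one_of_orderOf ht])
    obtain ⟨A₁, x, h1, h2, h4⟩ := dat_of_not_mem h3 hL hZ hA rfl hs (fun h => hs' (hB ⟨hs, h⟩)) y.2
      (hB.trans (Cz_le_Cx y.2)) hS.prime hS.ne_two (by rwa [orderOf_coe])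
    exact ⟨A₁, s, x, h1, h2, y, hy, h4⟩
  set B := A ⊓ Nm(L) with hBd
  have hBA : B ≤ A := inf_le_left
  obtain ⟨C, hC1, hC2⟩ := exists_complement_of_elementary hA hBA
  have hCA : C ≤ A := hC2 ▸ le_sup_right
  obtain ⟨f, hf⟩ := exists_innerHom (A := B) hZ fun a ha => exists_inner_of_aut ha.2 (by simp) ha.2
    (hS.inner _ (by rw [← map_mul, ← map_one L.normalizerMonoidHom]; congr 1
                    exact Subtype.ext (mul_self_of_elem hA ha.1)))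
  obtain ⟨s, hs, hs'⟩ := SetLike.not_le_iff_exists.1 hB
  obtain ⟨y, hy, hi⟩ := hS.inv (f ⟨s, hs⟩) (fun h => hs' (by simpa [h] using hf ⟨s, hs⟩)) (by
    rw [← map_mul, ← map_one f]; congr 1; exact Subtype.ext (mul_self_of_elem hA hs.1))
  have hi' : s * y * s⁻¹ = (y : G)⁻¹ := by rw [innerHom_conj hf ⟨s, hs⟩ y, hi]; rfl
  have k : ∀ c ∈ C, c ≠ 1 → c * y * c⁻¹ ∈ Cz(L) := fun c hc c1 =>
    conj_mem_Cz hL (fun h => c1 (mem_bot.1 (hC1 ▸ mi (mi (hCA hc) h) hc))) y.2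
  obtain ⟨x, x1, x2, x3, x4, x5⟩ := exists_trace k fun c hc => by
    by_cases c1 : c = 1
    · simp [c1]
    · exact k c hc c1 y y.2
  have hx : x ∈ Cz((B ⊓ Cz(L)) ⊔ C) := by
    rw [Cz_sup]
    exact ⟨nclo_le_Cz ((hCA.trans ((elemAb_le_Cz hA).trans (Cz_anti (inf_le_left.trans hBA)))).trans (Cz_le_Nm _))
      (zpowers_le.2 (le_Cz_comm inf_le_right y.2)) x1, x2⟩
  refine ⟨(B ⊓ Cz(L)) ⊔ C, s, x, ⟨hS.prime, hS.ne_two, hs.1, sup_le (inf_le_left.trans hBA) hCA, by simp, ?_,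
    ⟨1, by simpa using x4 r (by rw [← Subgroup.coe_pow, pow_eq_one_of_orderOf hy]; rfl)⟩,
    x5 s (Cz_anti hCA (elemAb_le_Cz hA hs.1)) hi',
    fun a ha => mem_bot.2 (commutatorElement_eq_one_iff_mul_comm.2 (hx a ha)), fun m hm hd => ?_⟩,
    nclo_mono (zpowers_le.2 y.2) hCA x1, y, hy, x3⟩
  · rintro rfl
    have : (y : G) ∈ L ⊓ Cz(L) := ⟨y.2, by simpa using x3⟩
    rw [hZ] at this
    exact ne_one_of_orderOf_eq_prime hy (Subtype.ext this)
  · have e1 : (B ⊓ Cz(L)) ⊔ C ⊔ B = A := by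
      rw [← hC2]; exact le_antisymm (sup_le (sup_le (inf_le_left.trans le_sup_left) le_sup_right) le_sup_left)
        (sup_le le_sup_right (le_sup_right.trans le_sup_left))
    have e2 : ((B ⊓ Cz(L)) ⊔ C).relIndex A ≤ (B ⊓ Cz(L)).relIndex B := by
      conv_lhs => rw [← e1, relIndex_sup_eq_relIndex ((sup_le (inf_le_left.trans hBA) hCA).trans
        (((elemAb_le_Cz hA).trans (Cz_anti hBA)).trans (Cz_le_Nm _)))]
      exact relIndex_anti' le_sup_left B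
    have e3 : (B ⊓ Cz(L)).relIndex B ≤ Nat.card f.range := by
      rw [← index_ker, relIndex]
      refine index_antitone fun a ha => ⟨a.2, ?_⟩
      simpa [MonoidHom.mem_ker.1 ha] using hf a
    have e4 := hS.card_le f.range (by
      rw [MonoidHom.range_eq_map, ← subgroupOf_self]; exact elemAb_map (elemAb_subgroupOf (elemAb_of_le hBA hA) _) f)
    calc _ ≤ q ^ 4 := Nat.pow_le_pow_left (e2.trans (e3.trans e4)) 4
      _ ≤ 2 ^ m := hS.big m hm hd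
      _ ≤ _ := Nat.pow_le_pow_right two_pos (by omega)

theorem l2_mem_Nm (h3 : ¬ Involves (DihedralGroup 3) G) (hL : IsComponent L) (hZ : L ⊓ Cz(L) = ⊥)
    (hS : L2F L) {a : G} (ha : a ^ 2 = 1) : a ∈ Nm(L) := by
  haveI : Fact (Nat.Prime 3) := ⟨Nat.prime_three⟩
  by_contra h
  obtain ⟨y, hy, ho⟩ := exists_orderOf_eq_prime hS.three
  obtain ⟨A₁, x, h1, -⟩ := dat_of_not_mem h3 hL hZ (CfH8.elemAb_zpowers ha) rfl (mem_zpowers a) h hy (by
    rintro b ⟨hb, hb'⟩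
    rcases eq_one_or_eq_of_mem_zpowers ha hb with rfl | rfl
    · exact one_mem _
    · exact absurd hb' h) Nat.prime_three (by norm_num) ho
  obtain ⟨k, hk⟩ := h1.pow
  exact h3 (involves_dihedral_of_inverts (by norm_num) (k := 1) ha hk h1.ne_one h1.inv)

theorem l2_inner (h3 : ¬ Involves (DihedralGroup 3) G) (hS : L2F L) {a : G} (ha : a ^ 2 = 1) (hn : a ∈ Nm(L)) :
    ∃ g ∈ L, g⁻¹ * a ∈ Cz(L) := by
  haveI : Fact (Nat.Prime 3) := ⟨Nat.prime_three⟩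
  haveI : Fact (Nat.Prime 2) := ⟨Nat.prime_two⟩
  obtain ⟨P, hP⟩ := exists_sylIn 3 L
  obtain ⟨x, hx, l, hl, e⟩ := hP.frattini' hn
  obtain ⟨m, k, hm, hk⟩ := exists_pow_pelt 2 x
  have hxL : x ∈ Nm(L) := by
    have := mul_mem hn (inv_mem (le_normalizer hl)); rwa [e, mul_inv_cancel_right] at this
  have h1 : x ^ m ∈ Cz(P) := by
    by_contra h
    exact h3 (involves_dihedral_of_Nm (by norm_num) hP.pgrp hk (pow_mem hx m) h)
  have h2 : ∀ n : ℕ, (x ^ n)⁻¹ * a ^ n ∈ L := fun n => by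
    induction n with
    | zero => simp
    | succ n ih =>
      have := mul_mem (conj_mem_of_mem_normalizer' hxL ih) hl
      convert this using 1
      rw [pow_succ, pow_succ]
      nth_rw 2 [e]
      group
  have h4 : a ^ m = a := by
    obtain ⟨j, rfl⟩ := Nat.odd_iff.2 (Nat.two_dvd_ne_zero.1 hm)
    rw [pow_succ, pow_mul, ha, one_pow, one_mul]
  refine exists_inner_of_aut hn (h4 ▸ h2 m) (pow_mem hxL m) (hS.inner _ hP.subgroupOf_top _ fun y hy => ?_)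
  exact Subtype.ext (conj_eq_of_mem_centralizer h1 hy)

theorem l2_dat_of (h3 : ¬ Involves (DihedralGroup 3) G) (hA : IsElementaryAbelian 2 A) {d s : G} (hs : s ∈ A)
    (hi : s * d * s⁻¹ = d⁻¹) (h : ∀ a ∈ A, a ∈ Cx(d) ∨ a * d * a⁻¹ = d⁻¹) {y : G} (hy : y ∈ zpowers d)
    (h1 : y ≠ 1) {r k : ℕ} (hr : r.Prime) (h2 : r ≠ 2) (hk : y ^ r ^ k = 1) : Dat ⊥ A (A ⊓ Cx(d)) s y r := by
  refine Dat.mk2 h3 hA inf_le_left hs (fun a ha => ?_) ?_ h1 hr h2 hk (inverts_zpowers hi hy)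
  · rcases h a ha with h | h
    · exact mem_sup_left ⟨ha, h⟩
    · have : a * s ∈ A ⊓ Cx(d) := ⟨mul_mem ha hs, mem_Cx'.2 (by
        calc _ = a * (s * d * s⁻¹) * a⁻¹ := by group
          _ = (a * d * a⁻¹)⁻¹ := by rw [hi]; group
          _ = d := by rw [h, inv_inv])⟩
      simpa using mul_mem (mem_sup_left (T := zpowers s) this) (mem_sup_right (inv_mem (mem_zpowers s)))
  · exact zpowers_le.2 (le_Cx_iff.1 inf_le_right) hy

theorem l2_dat (h3 : ¬ Involves (DihedralGroup 3) G) (hL : IsComponent L) (hZ : L ⊓ Cz(L) = ⊥)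
    (hS : L2F L) (hA : IsElementaryAbelian 2 A) (hn : ¬ A ≤ Cz(L)) : ∃ A₁ s x r, Dat ⊥ A A₁ s x r := by
  obtain ⟨f, hf⟩ := exists_innerHom (A := A) hZ fun a ha =>
    l2_inner h3 hS (hA.2 a ha) (l2_mem_Nm h3 hL hZ hS (hA.2 a ha))
  obtain ⟨s, hs, hs'⟩ := SetLike.not_le_iff_exists.1 hn
  have h2 : ∀ a, f a * f a = 1 := fun a => by
    rw [← map_mul, ← map_one f]; congr 1; exact Subtype.ext (mul_self_of_elem hA a.2)
  have hc : ∀ a b, f a * f b = f b * f a := fun a b => by rw [← map_mul, ← map_mul, hA.1.is_comm.comm]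
  have s1 : f ⟨s, hs⟩ ≠ 1 := fun h => hs' (by simpa [h] using hf ⟨s, hs⟩)
  obtain ⟨t, t1, t2, t3, t4⟩ : ∃ t : L, t ≠ 1 ∧ t * t = 1 ∧ (∀ a, f a ∈ Cx(t)) ∧ f ⟨s, hs⟩ ∉ zpowers t := by
    have key : ∀ t : L, t * t = 1 → t ∉ zpowers (f ⟨s, hs⟩) → t ≠ 1 ∧ f ⟨s, hs⟩ ∉ zpowers t := fun t t2 ht =>
      ⟨fun h => ht (h ▸ one_mem _), fun h => by
        rcases eq_one_or_eq_of_mem_zpowers (by rwa [pow_two]) h with h | h
        · exact s1 h
        · exact ht (h ▸ mem_zpowers _)⟩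
    by_cases h : ∀ a, f a ∈ zpowers (f ⟨s, hs⟩)
    · obtain ⟨-, ⟨t, t1, t2, t3⟩, -⟩ := hS.cent _ s1 (h2 _)
      exact ⟨t, (key t t2 t3).1, t2, fun a => zpowers_le.2 (mem_Cx.2 (mem_Cx.1 t1).symm) (h a), (key t t2 t3).2⟩
    · push Not at h
      obtain ⟨a, ha⟩ := h
      exact ⟨f a, (key _ (h2 a) ha).1, h2 a, fun b => mem_Cx.2 (hc b a), (key _ (h2 a) ha).2⟩
  obtain ⟨-, -, d, d1, d2, d3, d4⟩ := hS.cent t t1 t2
  have k : ∀ a (ha : a ∈ A), f ⟨a, ha⟩ ∉ zpowers t → a * d * a⁻¹ = (d : G)⁻¹ := fun a ha h => by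
    rw [innerHom_conj hf ⟨a, ha⟩ d, (d4 _ (t3 _) (h2 _) h).1]; rfl
  by_contra hne
  refine d2 (Subtype.ext (mem_bot.1 (mem_of_parts (by rwa [orderOf_coe]) fun y hy y1 r j hr r2 hj => ?_)))
  refine absurd ⟨_, s, y, r, l2_dat_of h3 hA hs (k s hs t4) (fun a ha => ?_) hy y1 hr r2 hj⟩ hne
  by_cases h : f ⟨a, ha⟩ ∈ zpowers t
  · refine Or.inl (mem_Cx'.2 ?_)
    rw [innerHom_conj hf ⟨a, ha⟩ d, mem_Cx'.1 (zpowers_le.2 (mem_Cx.2 (mem_Cx.1 d1).symm) h)]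
  · exact Or.inr (k a ha h)

end comp

theorem exists_component_not_le [Finite G] (hO : pCore 2 G = ⊥) {A : Subgroup G} (hA : IsPGroup 2 A) (h1 : A ≠ ⊥)
    (h2 : A ≤ Cz(pPrimeCore 2 G)) : ∃ K, IsComponent K ∧ ¬ A ≤ Cz(K) := by
  haveI : Fact (Nat.Prime 2) := ⟨Nat.prime_two⟩
  by_contra! h
  refine h1 (eq_bot_iff.2 (hO ▸ le_pCore_of_le_fitting hA (le_trans ?_ centralizer_fstar_le_fitting)))
  refine le_Cz_comm (sup_le (layer_le_iff.2 fun K hK => le_Cz_comm (h K hK)) ?_)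
  exact (fitting_le_pPrimeCore_of_pCore_eq_bot hO).trans (le_Cz_comm h2)

theorem simple_of_component [Finite G] {K : Subgroup G} (hK : IsQuasisimple K) (hZ : K ⊓ Cz(K) = ⊥) :
    IsSimpleGroup K ∧ ¬ IsMulCommutative K := by
  have h : center K = ⊥ := by
    rwa [← map_center_eq, map_eq_bot_iff_of_injective _ K.subtype_injective] at hZ
  haveI := hK.2
  exact ⟨((QuotientGroup.quotientBot.symm.trans (QuotientGroup.quotientMulEquivOfEq h.symm))).isSimpleGroup,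
    fun hc => qs_not_le_centralizer hK (le_Cz_of_comm hc)⟩

theorem two_dvd_of_subnormal [Finite G] (hO : pPrimeCore 2 G = ⊥) {K : Subgroup G} (hK : K.IsSubnormal)
    (h : K ≠ ⊥) : 2 ∣ Nat.card K := by
  haveI : Fact (Nat.Prime 2) := ⟨Nat.prime_two⟩
  by_contra h2
  exact h (eq_bot_iff.2 (hO ▸ le_pPrimeCore_of_subnormal hK
    ((Nat.Prime.coprime_iff_not_dvd Nat.prime_two).2 h2).symm))

theorem center_le_fitting_of_subnormal [Finite G] {K : Subgroup G} (hK : K.IsSubnormal) :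
    K ⊓ Cz(K) ≤ fittingSubgroup G :=
  le_fitting_of_subnormal ((subnIn_of_normal inf_le_left (CfH7.le_normalizer_inf le_normalizer
    (le_normalizer.trans (Nm_le_Nm_Cz K)))).isSubnormal hK) (isNilpotent_of_isMulCommutative (CfH9.comm_inf_Cz K))

theorem exists_dat {G : Type u} [Group G] [Finite G] (hO : pCore 2 G = ⊥) (h3 : ¬ Involves (DihedralGroup 3) G)
    (hK : CK G) {A : Subgroup G} (hA : IsElementaryAbelian 2 A) (h1 : A ≠ ⊥) : ∃ A₁ s x r, Dat ⊥ A A₁ s x r := by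
  haveI : Fact (Nat.Prime 2) := ⟨Nat.prime_two⟩
  by_contra hne
  have h2 : A ≤ Cz(pPrimeCore 2 G) := comm_eq_bot_right.1 (eq_bot_iff.2 (odd_gen h3 hA
    (coprime_card_pPrimeCore 2 G) (le_Nm_normal _ _) fun A₁ s x r h _ => absurd ⟨A₁, s, x, r, h⟩ hne))
  obtain ⟨K, hK1, hK2⟩ := exists_component_not_le hO (elemAb_isPGroup hA) h1 h2
  set O := pPrimeCore 2 G
  set φ := QuotientGroup.mk' O
  have hKO : ¬ K ≤ O := fun h => hK2 (h2.trans (Cz_anti h))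
  have hKO' : ⁅O, K⁆ = ⊥ := (component_le_or_commutator_eq_bot hK1 (Normal.isSubnormal inferInstance)).resolve_left hKO
  have hne' : K.map φ ≠ ⊥ := by rwa [Ne, Subgroup.map_eq_bot_iff, QuotientGroup.ker_mk']
  have hL := component_map hK1 (QuotientGroup.mk'_surjective O) hne'
  have key : ∀ X : Subgroup G, X.map φ ≤ Cz(K.map φ) → X ≤ Cz(K) := fun X hX => by
    refine comm_eq_bot_left.1 (commutator_eq_bot_of_perfect (qs_perfect hK1.2) (eq_bot_iff.2 ?_))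
    rw [← hKO']
    refine commutator_mono ?_ le_rfl
    rw [← QuotientGroup.ker_mk' O, ← Subgroup.map_eq_bot_iff, map_commutator]
    exact comm_eq_bot_left.2 hX
  have hZ : K.map φ ⊓ Cz(K.map φ) = ⊥ := by
    rw [eq_bot_iff]
    rintro _ ⟨⟨k, hk, rfl⟩, hk'⟩
    have h4 : zpowers k ≤ K ⊓ Cz(K) := le_inf (zpowers_le.2 hk) (key _ (by simpa using hk'))
    have h5 : K ⊓ Cz(K) ≤ O := le_trans (center_le_fitting_of_subnormal hK1.1)
      (fitting_le_pPrimeCore_of_pCore_eq_bot hO)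
    exact (QuotientGroup.eq_one_iff k).2 (h5 (h4 (mem_zpowers k)))
  obtain ⟨hs, hc⟩ := simple_of_component hL.2 hZ
  have h4 := two_dvd_of_subnormal (pPrimeCore_quotient_pPrimeCore 2 G) hL.1 hne'
  have h5 : ¬ Involves (DihedralGroup 3) (G ⧸ O) := fun h => h3 (Involves.of_quotient h)
  have h6 : ∃ A₁ s x r, Dat ⊥ (A.map φ) A₁ s x r := by
    rcases (hK.quot O).nice hL.1 hc h4 with ⟨q, r, h⟩ | h
    · obtain ⟨A₁, s, x, h7, -⟩ := sz_dat h5 hL hZ h h4 (elemAb_map hA φ) fun h => hK2 (key A h)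
      exact ⟨A₁, s, x, r, h7⟩
    · exact l2_dat h5 hL hZ h (elemAb_map hA φ) fun h => hK2 (key A h)
  obtain ⟨A₁, s, x, r, h⟩ := h6
  obtain ⟨A₂, s', x', h7, -⟩ := h.lift_odd (coprime_card_pPrimeCore 2 G) hA
  exact hne ⟨A₂, s', x', r, h7⟩

end CfH1
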