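import Cfsg.Agent.H1.Dat
import Cfsg.Agent.H8.Thompson
import Cfsg.Agent.H8.Misc

/-! The action of a datum on `2`-groups. -/

set_option autoImplicit false
set_option linter.unusedSectionVars false

namespace CfH1

open Cfsg Subgroup CfH9 CfH7 CfH8
open scoped Pointwise commutatorElement

universe u

variable {G : Type*} [Group G] [Finite G]

theorem exists_relIndex_pow {X : Subgroup G} (hX : IsPGroup 2 X) (Y : Subgroup G) : ∃ m, Y.relIndex X = 2 ^ m := by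
  haveI : Fact (Nat.Prime 2) := ⟨Nat.prime_two⟩
  obtain ⟨k, hk⟩ := IsPGroup.iff_card.1 hX
  obtain ⟨j, -, hj⟩ := (Nat.dvd_prime_pow Nat.prime_two).1 (hk ▸ relIndex_dvd_card Y X)
  exact ⟨j, hj⟩

theorem dvd_relIndex_sub {X Y : Subgroup G} (hX : IsPGroup 2 X) (h : Y ≤ X) {r : ℕ} (hr : Nat.Coprime 2 r)
    (e : Nat.card X ≡ Nat.card Y [MOD r]) : r ∣ Y.relIndex X - 1 := by
  haveI : Fact (Nat.Prime 2) := ⟨Nat.prime_two⟩
  obtain ⟨i, hi⟩ := IsPGroup.iff_card.1 (hX.to_le h)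
  have h1 := (Nat.modEq_iff_dvd' (card_le_of_le h)).1 e.symm
  rw [← CfH9.card_mul_relIndex h, ← Nat.mul_sub_one, hi] at h1
  exact (hr.symm.pow_right i).dvd_of_dvd_mul_left h1

theorem relIndex_sup_le {D E F : Subgroup G} (hE : D ≤ E) (h : E ≤ Nm(F)) :
    D.relIndex (E ⊔ F) ≤ D.relIndex E * D.relIndex F := by
  rw [← relIndex_mul_relIndex D E (E ⊔ F) hE le_sup_left, relIndex_sup_eq_relIndex h]
  exact Nat.mul_le_mul_left _ (relIndex_anti' hE F)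

theorem eq_of_relIndex_le {K X Y : Subgroup G} (h1 : K ≤ X) (h2 : X ≤ Y) (h : K.relIndex Y ≤ K.relIndex X) :
    Y ≤ X := by
  rw [← relIndex_mul_relIndex K X Y h1 h2] at h
  have := relIndex_pos' X Y
  have := relIndex_pos' K X
  exact relIndex_eq_one.1 (by nlinarith)

namespace Dat

variable {N A A₁ : Subgroup G} {s x : G} {r : ℕ} (h : Dat N A A₁ s x r)
include h

theorem isPGroup : IsPGroup r (zpowers x) := by
  obtain ⟨k, hk⟩ := h.pow
  exact isPGroup_zpowers hk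

theorem cop {W : Subgroup G} (hW : IsPGroup 2 W) : (Nat.card (zpowers x)).Coprime (Nat.card W) :=
  haveI : Fact (Nat.Prime 2) := ⟨Nat.prime_two⟩
  coprime_card_of_isPGroup' hW h.card_coprime

theorem dvd_cix {W : Subgroup G} (hW : IsPGroup 2 W) (hx : x ∈ Nm(W)) : r ∣ cix W x - 1 := by
  haveI := Fact.mk h.prime
  have := card_modEq_card_inf_Cz h.isPGroup (zpowers_le.2 hx)
  rw [Cz_zpowers] at this
  exact dvd_relIndex_sub hW inf_le_left h.coprime this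

theorem big' {n : ℕ} (h1 : ∃ m, n = 2 ^ m) (h2 : n ≠ 1) (h3 : r ∣ n - 1) : A₁.relIndex A ^ 4 ≤ 2 * n := by
  obtain ⟨m, rfl⟩ := h1
  rw [← pow_succ']
  exact h.big m (Nat.pos_of_ne_zero (by rintro rfl; simp at h2)) h3

theorem big_cix {W : Subgroup G} (hW : IsPGroup 2 W) (hx : x ∈ Nm(W)) (hx' : x ∉ Cz(W)) :
    A₁.relIndex A ^ 4 ≤ 2 * cix W x :=
  h.big' (exists_relIndex_pow hW _) (fun e => hx' (le_Cx_iff.1 ((relIndex_eq_one.1 e).trans inf_le_right)))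
    (h.dvd_cix hW hx)

omit h in
theorem sq_le_of {a c : ℕ} (ha : ∃ j, a = 2 ^ j) (hc : ∃ i, c = 2 ^ i) (h : a ^ 4 ≤ 2 * c ^ 2) : a ^ 2 ≤ c := by
  obtain ⟨j, rfl⟩ := ha
  obtain ⟨i, rfl⟩ := hc
  rw [← pow_mul, ← pow_mul, ← pow_succ', Nat.pow_le_pow_iff_right (by norm_num)] at h
  rw [← pow_mul, Nat.pow_le_pow_iff_right (by norm_num)]
  omega

theorem cix_le {W : Subgroup G} (hx : x ∈ Nm(W)) : cix W x ≤ cix W s ^ 2 := by
  rw [sq]
  nth_rw 2 [← cix_conj hx s]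
  refine le_trans (relIndex_anti' ?_ W) relIndex_inf_le
  rintro v ⟨⟨h1, h2⟩, -, h3⟩
  refine ⟨h1, Cz_le_Cx h.mem_sup ?_⟩
  rw [Cz_sup, Cz_zpowers, Cz_zpowers]
  exact ⟨h2, h3⟩

theorem sq_le (hA : IsPGroup 2 A) {W : Subgroup G} (hW : IsPGroup 2 W) (hx : x ∈ Nm(W)) (hx' : x ∉ Cz(W)) :
    A₁.relIndex A ^ 2 ≤ cix W s :=
  sq_le_of (exists_relIndex_pow hA _) (exists_relIndex_pow hW _)
    ((h.big_cix hW hx hx').trans (Nat.mul_le_mul_left _ (h.cix_le hx)))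

theorem one_factor {Y Y' : Subgroup G} (hY : IsPGroup 2 Y) (hc : IsMulCommutative Y) (hx : x ∈ Nm(Y))
    (hle : Y' ≤ Y) (hx' : x ∈ Nm(Y')) (hlt : cix Y x < A₁.relIndex A ^ 6) :
    x ∈ Cz(Y') ∨ ⁅Y, zpowers x⁆ ≤ Y' := by
  by_contra! hne
  have h1 := h.big_cix (hY.to_le hle) hx' hne.1
  have hn : Y ⊓ Cx(x) ≤ Nm(Y') := inf_le_left.trans ((le_Cz_of_comm hc).trans ((Cz_anti hle).trans (Cz_le_Nm _)))
  have e1 : cix Y' x = (Y ⊓ Cx(x)).relIndex (Y ⊓ Cx(x) ⊔ Y') := by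
    rw [relIndex_sup_eq_relIndex hn, ← inf_relIndex_left, ← inf_assoc, inf_of_le_left hle]
  have e2 := relIndex_mul_relIndex (Y ⊓ Cx(x)) (Y ⊓ Cx(x) ⊔ Y') Y le_sup_left (sup_le inf_le_left hle)
  rw [← e1] at e2
  set n := (Y ⊓ Cx(x) ⊔ Y').relIndex Y
  have h2 : A₁.relIndex A ^ 4 ≤ 2 * n := by
    refine h.big' (exists_relIndex_pow hY _) (fun e => hne.2 ?_) ?_
    · refine (commutator_mono (relIndex_eq_one.1 e) le_rfl).trans ?_
      refine commutator_sup_left_le hn le_normalizer ?_ (comm_le_left (zpowers_le.2 hx'))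
      exact (comm_eq_bot_left.2 (Cz_zpowers x ▸ inf_le_right)).le.trans bot_le
    · have d1 := h.dvd_cix hY hx
      have d2 := h.dvd_cix (hY.to_le hle) hx'
      have p1 := relIndex_pos' (Y' ⊓ Cx(x)) Y'
      have p2 : 0 < n := relIndex_pos' _ _
      change r ∣ (Y ⊓ Cx(x)).relIndex Y - 1 at d1
      rw [← e2] at d1
      have e3 : cix Y' x * n - 1 = (cix Y' x - 1) * n + (n - 1) := by
        zify [p1, p2, Nat.mul_pos p1 p2]; ring
      rw [e3] at d1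
      exact (Nat.dvd_add_right (d2.mul_right n)).1 d1
  have h3 := h.one_lt
  change (Y ⊓ Cx(x)).relIndex Y < _ at hlt
  rw [← e2] at hlt
  have h4 := Nat.mul_le_mul h1 h2
  generalize A₁.relIndex A = a at *
  have : 4 * a ^ 6 ≤ a ^ 4 * a ^ 4 := by
    calc 4 * a ^ 6 ≤ a ^ 2 * a ^ 6 := Nat.mul_le_mul_right _ (by nlinarith)
      _ = _ := by ring
  nlinarith

omit h in
theorem commutator_le {M B : Subgroup G} (hx : x ∈ Nm(M)) (hc : ∀ a ∈ B, ⁅a, x⁆ ∈ M) : ⁅B, zpowers x⁆ ≤ M :=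
  commutator_le_of_le_secCz (zpowers_le.2 (mem_secCz.2 ⟨hx, hc⟩))

omit h in
theorem mem_Nm_inf {U B : Subgroup G} (hB : B ≤ Nm(U)) (hx : x ∈ Nm(U)) (hc : ∀ a ∈ B, ⁅a, x⁆ ∈ Cz(U)) :
    x ∈ Nm(U ⊓ Cz(B)) := by
  refine mem_normalizer_of_conj_mem fun w hw => mi (conj_mem_of_mem_normalizer hx hw.1) ?_
  refine mem_centralizer_of_conj_eq fun a ha => ?_
  have h1 := conj_eq_of_mem_centralizer (inv_mem (hc a ha)) (conj_mem_of_mem_normalizer (hB ha)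
    (conj_mem_of_mem_normalizer hx hw.1))
  have h2 : a * w * a⁻¹ = w := by rw [hw.2 a ha]; simp
  have h3 : a * (x * w * x⁻¹) * a⁻¹ = x * w * x⁻¹ := by
    rw [← h1, commutatorElement_def]
    calc _ = x * (a * w * a⁻¹) * x⁻¹ := by group
      _ = _ := by rw [h2]
  calc _ = a * (a⁻¹ * (x * w * x⁻¹) * a) * (x * w * x⁻¹)⁻¹ := by group
    _ = a := by nth_rw 1 [← h3]; group

theorem not_mem_Cz_inf (hA : IsPGroup 2 A) {U : Subgroup G} (hU : IsPGroup 2 U) (hAU : A ≤ Nm(U)) (hx : x ∈ Nm(U))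
    (hc : ∀ a ∈ A₁, ⁅a, x⁆ ∈ Cz(U)) (hx' : x ∉ Cz(U)) : x ∉ Cz(U ⊓ Cz(A₁)) := fun e => by
  haveI : Fact (Nat.Prime 2) := ⟨Nat.prime_two⟩
  have := AxB_mod hU (h.le.trans hAU) (zpowers_le.2 hx)
    (by rw [pResidualOf_eq_bot_of_isPGroup (hA.to_le h.le)]; exact bot_le)
    (commutator_le (mem_Nm_Cz hx) hc) (zpowers_le.2 e)
  rw [pResidualOf_eq_self_of_coprime h.card_coprime] at this
  exact hx' (zpowers_le.1 this)

/-- A datum for a member of `𝒜(S)` centralizes the elementary abelian subgroups it acts on. -/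
theorem ff {S U : Subgroup G} (hA : MaxEl 2 A S) (hU : IsElementaryAbelian 2 U) (hUS : U ≤ S) (hAU : A ≤ Nm(U))
    (hx : x ∈ Nm(U)) (hc : ∀ a ∈ A₁, ⁅a, x⁆ ∈ Cz(U)) : x ∈ Cz(U) := by
  by_contra hx'
  have hAp := elemAb_isPGroup hA.el
  have hUp := elemAb_isPGroup hU
  have h1 := h.sq_le hAp (hUp.to_le inf_le_left) (mem_Nm_inf (h.le.trans hAU) hx hc)
    (h.not_mem_Cz_inf hAp hUp hAU hx hc hx')
  set W := U ⊓ Cz(A₁)
  have h2 : A₁ ≤ Cz(W) := le_Cz_comm inf_le_right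
  have h3 := hA.max (A₁ ⊔ W) (sup_le (h.le.trans hA.le) (inf_le_left.trans hUS))
    (elemAb_sup (elemAb_of_le h.le hA.el) (elemAb_of_le inf_le_left hU) h2)
  have h4 := card_sup_mul_card_inf (h2.trans (Cz_le_Nm _))
  rw [sup_comm, inf_comm, mul_comm (Nat.card W)] at h4
  have h5 : Nat.card (A₁ ⊓ W : Subgroup G) ≤ Nat.card (W ⊓ Cx(s) : Subgroup G) := card_le_of_le
    (le_inf inf_le_right (inf_le_left.trans (h.le.trans ((elemAb_le_Cz hA.el).trans (Cz_le_Cx h.s_mem)))))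
  have h6 := CfH9.card_mul_relIndex (inf_le_left : W ⊓ Cx(s) ≤ W)
  have h7 := CfH9.card_mul_relIndex h.le
  have h8 := h.one_lt
  have h9 : Nat.card A₁ * Nat.card (W ⊓ Cx(s) : Subgroup G) * A₁.relIndex A ^ 2 ≤
      Nat.card A₁ * Nat.card (W ⊓ Cx(s) : Subgroup G) * A₁.relIndex A := by
    calc _ ≤ Nat.card A₁ * Nat.card W := by
          rw [← h6, mul_assoc]; exact Nat.mul_le_mul_left _ (Nat.mul_le_mul_left _ h1)
      _ ≤ Nat.card A * Nat.card (W ⊓ Cx(s) : Subgroup G) := h4 ▸ Nat.mul_le_mul h3 h5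
      _ = _ := by rw [← h7]; ring
  have := Nat.le_of_mul_le_mul_left h9 (Nat.mul_pos Nat.card_pos Nat.card_pos)
  nlinarith

omit [Finite G] in
theorem map_inj {G' : Type*} [Group G'] {f : G →* G'} (hf : Function.Injective f) :
    Dat (N.map f) (A.map f) (A₁.map f) (f s) (f x) r := by
  refine ⟨h.prime, h.ne_two, mem_map_of_mem f h.s_mem, map_mono h.le, ?_, fun e => h.not_mem ?_, ?_, ?_, ?_, ?_⟩
  · rw [← Subgroup.map_inf _ _ _ hf]; exact map_mono h.inf_le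
  · exact (mem_map_iff_mem hf).1 e
  · obtain ⟨k, hk⟩ := h.pow
    exact ⟨k, by rw [← map_pow, hk, map_one]⟩
  · simpa using congrArg f h.inv
  · rintro _ ⟨a, ha, rfl⟩
    rw [← map_commutatorElement]; exact mem_map_of_mem f (h.cent a ha)
  · rw [relIndex_map_map_of_injective _ _ hf]; exact h.big

end Dat

theorem Dat.sq_le_commutator {A A₁ M : Subgroup G} {s x : G} {r : ℕ} (h : Dat ⊥ A A₁ s x r) (hA : IsPGroup 2 A)
    (hM : IsPGroup 2 M) (hc : IsMulCommutative M) (hAM : A ≤ Nm(M)) (hx : x ∈ Nm(M)) (hx' : x ∉ Cz(M)) :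
    A₁.relIndex A ^ 2 ≤ (⁅M, A₁⁆).relIndex ⁅M, A⁆ := by
  haveI : Fact (Nat.Prime 2) := ⟨Nat.prime_two⟩
  haveI := Fact.mk h.prime
  set D := ⁅M, A₁⁆
  set E := ⁅M, A⁆
  set X := ⁅M, zpowers x⁆
  have hxM := zpowers_le.2 hx
  have hEM : E ≤ M := comm_le_left hAM
  have hXM : X ≤ M := comm_le_left hxM
  have hDE : D ≤ E := commutator_mono le_rfl h.le
  have hxD : x ∈ Nm(D) := mem_Nm_commutator hx (Cz_le_Nm _ h.mem_Cz)
  have hab : ∀ {U V : Subgroup G}, U ≤ M → V ≤ M → U ≤ Nm(V) := fun h1 h2 =>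
    h1.trans ((le_Cz_of_comm hc).trans ((Cz_anti h2).trans (Cz_le_Nm _)))
  have hEx : cj x E ≤ M := cj_eq_of_mem_normalizer hx ▸ cj_mono x hEM
  have h1 : ¬ X ≤ D := fun e => hx' (zpowers_le.1 (comm_eq_bot_right.1 (dual_AxB hM (hA.to_le h.le)
    h.card_coprime (h.le.trans hAM) hxM (comm_eq_bot_right.2 (zpowers_le.2 h.mem_Cz)) e)))
  have h2 : X ≤ E ⊔ cj x E := by
    have hs : zpowers s ≤ Nm(E ⊔ cj x E) ∧ zpowers (x * s * x⁻¹) ≤ Nm(E ⊔ cj x E) := by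
      refine ⟨le_Nm_of_comm_le (sup_le hEM hEx) (le_sup_of_le_left (commutator_mono le_rfl (zpowers_le.2 h.s_mem))),
        le_Nm_of_comm_le (sup_le hEM hEx) (le_sup_of_le_right ?_)⟩
      rw [cj_commutator, cj_eq_of_mem_normalizer hx]
      exact commutator_mono le_rfl (zpowers_le.2 (conj_mem_cj x h.s_mem))
    refine (commutator_mono le_rfl (zpowers_le.2 h.mem_sup)).trans (commutator_sup_right_le hs.1 hs.2
      (le_sup_of_le_left (commutator_mono le_rfl (zpowers_le.2 h.s_mem))) (le_sup_of_le_right ?_))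
    rw [cj_commutator, cj_eq_of_mem_normalizer hx]
    exact commutator_mono le_rfl (zpowers_le.2 (conj_mem_cj x h.s_mem))
  have h3 : D.relIndex X ≤ D.relIndex E ^ 2 := by
    refine (relIndex_le_of_le_right h2 (relIndex_pos' _ _).ne').trans ((relIndex_sup_le hDE (hab hEM hEx)).trans ?_)
    nth_rw 2 [← cj_eq_of_mem_normalizer hxD]
    rw [relIndex_cj, sq]
  have h4 := commutator_inf_centralizer_eq_bot hc hxM (h.cop hM)
  have h5 : ∀ U, U ≤ X → x ∈ Nm(U) → Nat.card U ≡ 1 [MOD r] := fun U h1 h2 => by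
    have := card_modEq_card_inf_Cz h.isPGroup (zpowers_le.2 h2)
    rwa [eq_bot_iff.2 ((inf_le_inf_right _ h1).trans h4.le), card_bot] at this
  have hxX : x ∈ Nm(X) := right_le_Nm_comm _ _ (mem_zpowers x)
  have h6 := dvd_relIndex_sub (hM.to_le hXM) (inf_le_right : D ⊓ X ≤ X) h.coprime
    ((h5 X le_rfl hxX).trans (h5 _ inf_le_right (CfH9.mem_Nm_inf hxD hxX)).symm)
  rw [inf_relIndex_right] at h6
  exact Dat.sq_le_of (exists_relIndex_pow hA _) (exists_relIndex_pow (hM.to_le hEM) _)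
    ((h.big' (exists_relIndex_pow (hM.to_le hXM) _) (fun e => h1 (relIndex_eq_one.1 e)) h6).trans
      (Nat.mul_le_mul_left _ h3))

theorem exists_dat_in {L : Type u} [Group L] [Finite L] {H : Subgroup L} (hO : pCore 2 H = ⊥)
    (h3 : ¬ Involves (DihedralGroup 3) H) (hK : CK H) {A : Subgroup L} (hAH : A ≤ H)
    (hA : IsElementaryAbelian 2 A) (h1 : A ≠ ⊥) : ∃ A₁ s x r, Dat ⊥ A A₁ s x r ∧ x ∈ H := by
  obtain ⟨A₁, s, x, r, h⟩ := exists_dat hO h3 hK (elemAb_subgroupOf hA H) (by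
    rwa [Ne, subgroupOf_eq_bot, disjoint_iff, inf_of_le_left hAH])
  have := h.map_inj H.subtype_injective
  rw [Subgroup.map_bot, map_subgroupOf_eq_of_le hAH] at this
  exact ⟨_, _, _, r, this, x.2⟩

theorem offender_bound {L : Type u} [Group L] [Finite L] {M H : Subgroup L} (hM : IsElementaryAbelian 2 M)
    (hHM : H ≤ Nm(M)) (hf : H ⊓ Cz(M) = ⊥) (hO : pCore 2 H = ⊥) (h3 : ¬ Involves (DihedralGroup 3) H)
    (hK : CK H) (A : Subgroup L) : A ≤ H → IsElementaryAbelian 2 A →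
      Nat.card A ^ 2 ≤ (M ⊓ Cz(A)).relIndex M ∧ Nat.card A ^ 2 ≤ Nat.card (⁅M, A⁆ : Subgroup L) := by
  induction A using subgroup_induction with
  | h A ih =>
  intro hAH hA
  by_cases h1 : A = ⊥
  · subst h1
    rw [card_bot, one_pow]
    exact ⟨relIndex_pos' _ _, Nat.card_pos⟩
  obtain ⟨A₁, s, x, r, h, hx⟩ := exists_dat_in hO h3 hK hAH hA h1
  obtain ⟨i1, i2⟩ := ih A₁ (CfH9.card_lt_of_lt (lt_of_le_of_ne h.le fun e => h.s_not_mem (e ▸ h.s_mem)))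
    (h.le.trans hAH) (elemAb_of_le h.le hA)
  have hAp := elemAb_isPGroup hA
  have hMp := elemAb_isPGroup hM
  have hx' : x ∉ Cz(M) := fun e => h.ne_one (mem_bot.1 (hf ▸ mi hx e))
  have hc : ∀ a ∈ A₁, ⁅a, x⁆ ∈ Cz(M) := fun a ha => by rw [mem_bot.1 (h.cent a ha)]; exact one_mem _
  rw [← CfH9.card_mul_relIndex h.le, mul_pow]
  constructor
  · have h2 := h.sq_le hAp (hMp.to_le inf_le_left) (Dat.mem_Nm_inf (h.le.trans (hAH.trans hHM)) (hHM hx) hc)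
      (h.not_mem_Cz_inf hAp hMp (hAH.trans hHM) (hHM hx) hc hx')
    rw [← relIndex_mul_relIndex (M ⊓ Cz(A)) (M ⊓ Cz(A₁)) M (inf_le_inf_left _ (Cz_anti h.le)) inf_le_left, mul_comm]
    refine Nat.mul_le_mul (h2.trans (relIndex_anti' ?_ _)) i1
    exact le_inf (inf_le_inf_left _ (Cz_anti h.le)) (inf_le_right.trans (Cz_le_Cx h.s_mem))
  · rw [← CfH9.card_mul_relIndex (commutator_mono (le_refl M) h.le)]
    exact Nat.mul_le_mul i2 (h.sq_le_commutator hAp hMp hM.1 (hAH.trans hHM) (hHM hx) hx')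

end CfH1
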