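import Cfsg.Agent.H1.DatV
import Cfsg.Agent.H8.Quot
import Cfsg.Agent.H8.Invol
import Cfsg.Agent.H7.PRed
import Cfsg.Agent.H9.ZJFree
import Cfsg.Agent.H9.NPC2

/-! E-groups and the subgroup `Ĵ`, for subgroups of an ambient group. -/

set_option autoImplicit false
set_option linter.unusedSectionVars false

namespace CfH1

open Cfsg Subgroup CfH9 CfH7 CfH8
open scoped Pointwise commutatorElement

universe u

variable {G : Type*} [Group G] {G' : Type*} [Group G']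

def PP (V R : Subgroup G) : Prop :=
  ⁅R, R⁆ ≤ Cz(V) → (∀ r ∈ R, r ^ 2 ∈ Cz(V)) → ¬ R ≤ Cz(V) →
    (Cz(V)).relIndex R ^ 3 < (Cz(R)).relIndex V ^ 2 ∧ (Cz(V)).relIndex R < Nat.card (⁅V, R⁆ : Subgroup G)

def EG (U : Subgroup G) : Prop :=
  ∀ V, V ≤ U → U ≤ Nm(V) → IsElementaryAbelian 2 V → (∀ R, R ≤ U → PP V R) → U ≤ Cz(V)

def JH (T : Subgroup G) : Subgroup G := sSup {U | U ≤ T ∧ EG U ∧ JJ 2 T ≤ U}

theorem comap_Cz_map {f : G →* G'} (hf : Function.Injective f) (V : Subgroup G) :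
    (Cz(V.map f)).comap f = Cz(V) :=
  le_antisymm ((map_Cz_of_injective hf).1 (map_comap_le f _)) (map_le_iff_le_comap.1 (map_Cz_le V f))

theorem pp_map_iff {f : G →* G'} (hf : Function.Injective f) {V R : Subgroup G} :
    PP (V.map f) (R.map f) ↔ PP V R := by
  unfold PP
  rw [← relIndex_comap, ← relIndex_comap, ← map_commutator, ← map_commutator, map_le_iff_le_comap,
    map_le_iff_le_comap, comap_Cz_map hf, comap_Cz_map hf, card_map_of_injective hf]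
  refine imp_congr_right fun _ => imp_congr_left ⟨fun h r hr => ?_, ?_⟩
  · rw [← comap_Cz_map hf, mem_comap, map_pow]; exact h _ (mem_map_of_mem f hr)
  · rintro h _ ⟨r, hr, rfl⟩
    rw [← map_pow, ← mem_comap, comap_Cz_map hf]; exact h r hr

theorem exists_map_eq {f : G →* G'} (hf : Function.Injective f) {U : Subgroup G} {V : Subgroup G'}
    (h : V ≤ U.map f) : ∃ W, W ≤ U ∧ W.map f = V :=
  ⟨V.comap f, (comap_mono h).trans (comap_map_eq_self_of_injective hf U).le,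
    map_comap_eq_self (h.trans (map_le_range f U))⟩

theorem eg_map_iff {f : G →* G'} (hf : Function.Injective f) {U : Subgroup G} : EG (U.map f) ↔ EG U := by
  refine ⟨fun h V h1 h2 h3 h4 => (map_Cz_of_injective hf).1 (h _ (map_mono h1) ((map_Nm_of_injective hf).2 h2)
    (elemAb_map h3 f) fun R hR => ?_), fun h V h1 h2 h3 h4 => ?_⟩
  · obtain ⟨R, hR', rfl⟩ := exists_map_eq hf hR
    exact (pp_map_iff hf).2 (h4 R hR')
  · obtain ⟨V, hV, rfl⟩ := exists_map_eq hf h1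
    exact (map_Cz_of_injective hf).2 (h V hV ((map_Nm_of_injective hf).1 h2) ((elemAb_map_iff hf).1 h3)
      fun R hR => (pp_map_iff hf).1 (h4 _ (map_mono hR)))

theorem eg_top_iff [Finite G] : EG (⊤ : Subgroup G) ↔ IsEGroup G := by
  have key : ∀ V R : Subgroup G, ((Cz(V)).relIndex R ^ 3 < (Cz(R)).relIndex V ^ 2 ∧
      (Cz(V)).relIndex R < Nat.card (⁅V, R⁆ : Subgroup G)) ↔
      (Nat.card V ^ 2 * Nat.card (R ⊓ Cz(V) : Subgroup G) ^ 3 > Nat.card R ^ 3 * Nat.card (V ⊓ Cz(R) : Subgroup G) ^ 2 ∧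
        Nat.card (⁅V, R⁆ : Subgroup G) * Nat.card (R ⊓ Cz(V) : Subgroup G) > Nat.card R) := fun V R => by
    rw [← CfH9.card_mul_relIndex (inf_le_left : V ⊓ Cz(R) ≤ V), ← CfH9.card_mul_relIndex (inf_le_left : R ⊓ Cz(V) ≤ R),
      inf_relIndex_left, inf_relIndex_left]
    have h1 : 0 < Nat.card (R ⊓ Cz(V) : Subgroup G) := Nat.card_pos
    have h2 : 0 < Nat.card (V ⊓ Cz(R) : Subgroup G) := Nat.card_pos
    generalize Nat.card (R ⊓ Cz(V) : Subgroup G) = a at *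
    generalize Nat.card (V ⊓ Cz(R) : Subgroup G) = b at *
    refine and_congr ?_ ?_
    · rw [← Nat.mul_lt_mul_left (a := a ^ 3 * b ^ 2) (by positivity)]
      constructor <;> intro h <;> nlinarith
    · rw [gt_iff_lt, mul_comm _ a, Nat.mul_lt_mul_left h1]
  refine ⟨fun h V hn he hp => ?_, fun h V _ hn he hp => ?_⟩
  · rw [← Cz_top]
    exact le_Cz_comm (h V le_top le_normalizer_of_normal he fun R _ a b c => (key V R).2 (hp R a b c))
  · refine le_Cz_comm ?_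
    rw [Cz_top]
    exact h V (normal_iff_top_le_Nm.2 hn) he fun R a b c => (key V R).1 (hp R le_top a b c)

theorem isEGroup_iff [Finite G] {f : G →* G'} (hf : Function.Injective f) : IsEGroup G ↔ EG f.range := by
  rw [MonoidHom.range_eq_map, eg_map_iff hf, eg_top_iff]

theorem le_JH {T U : Subgroup G} (h1 : U ≤ T) (h2 : EG U) (h3 : JJ 2 T ≤ U) : U ≤ JH T := le_sSup ⟨h1, h2, h3⟩

theorem JH_le_iff {T X : Subgroup G} : JH T ≤ X ↔ ∀ U, U ≤ T → EG U → JJ 2 T ≤ U → U ≤ X :=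
  sSup_le_iff.trans ⟨fun h U h1 h2 h3 => h U ⟨h1, h2, h3⟩, fun h U hU => h U hU.1 hU.2.1 hU.2.2⟩

theorem JH_le (T : Subgroup G) : JH T ≤ T := JH_le_iff.2 fun _ h _ _ => h

theorem map_JH {f : G →* G'} (hf : Function.Injective f) (T : Subgroup G) : (JH T).map f = JH (T.map f) := by
  refine le_antisymm (map_le_iff_le_comap.2 (JH_le_iff.2 fun U h1 h2 h3 => map_le_iff_le_comap.1
    (le_JH (map_mono h1) ((eg_map_iff hf).2 h2) ?_))) (JH_le_iff.2 fun U h1 h2 h3 => ?_)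
  · rw [← map_J_of_injective T hf]; exact map_mono h3
  · obtain ⟨U, hU, rfl⟩ := exists_map_eq hf h1
    rw [← map_J_of_injective T hf, map_le_map_iff_of_injective hf] at h3
    exact map_mono (le_JH hU ((eg_map_iff hf).1 h2) h3)

theorem JH_top [Finite G] : JH (⊤ : Subgroup G) = jHat G := by
  unfold JH jHat
  congr 1
  ext U
  simp [J_top, isEGroup_iff U.subtype_injective]

theorem map_jHat [Finite G] (T : Subgroup G) : (jHat T).map T.subtype = JH T := by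
  rw [← JH_top, map_JH T.subtype_injective, map_subtype_top]

theorem map_JH_of_disjoint {f : G →* G'} {T : Subgroup G} (h : T ⊓ f.ker = ⊥) : (JH T).map f = JH (T.map f) := by
  have := map_JH (map_functor_of_disjoint h) ⊤
  rwa [← map_map, ← map_map, map_JH T.subtype_injective, map_subtype_top] at this

theorem cj_JH (g : G) (T : Subgroup G) : cj g (JH T) = JH (cj g T) := map_JH (MulAut.conj g).injective T

theorem Nm_le_Nm_JH (T : Subgroup G) : Nm(T) ≤ Nm(JH T) := fun g hg => by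
  rw [mem_normalizer_iff_cj, cj_JH, cj_eq_of_mem_normalizer hg]

theorem pp_cj {V R : Subgroup G} (h : PP V R) (g : G) : PP (cj g V) (cj g R) :=
  (pp_map_iff (MulAut.conj g).injective).2 h

variable [Finite G]

theorem PP.elem {V R : Subgroup G} (h : PP V R) (hR : IsElementaryAbelian 2 R) (hn : ¬ R ≤ Cz(V)) :
    (Cz(V)).relIndex R ^ 3 < (Cz(R)).relIndex V ^ 2 :=
  (h ((comm_eq_bot_left.2 (elemAb_le_Cz hR)).le.trans bot_le) (fun r hr => by rw [hR.2 r hr]; exact one_mem _) hn).1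

theorem MaxEl.relIndex_le {A T V : Subgroup G} (hA : MaxEl 2 A T) (hV : IsElementaryAbelian 2 V) (hVT : V ≤ T) :
    A.relIndex V ≤ (Cz(V)).relIndex A := by
  have h1 : A ⊓ Cz(V) ≤ Cz(V) := inf_le_right
  have h2 := hA.max (A ⊓ Cz(V) ⊔ V) (sup_le (inf_le_left.trans hA.le) hVT)
    (elemAb_sup (elemAb_of_le inf_le_left hA.el) hV h1)
  rw [← CfH9.card_mul_relIndex (le_sup_left : A ⊓ Cz(V) ≤ _), relIndex_sup_eq_relIndex (h1.trans (Cz_le_Nm _)),
    ← CfH9.card_mul_relIndex (inf_le_left : A ⊓ Cz(V) ≤ A), inf_relIndex_left] at h2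
  exact (relIndex_anti' inf_le_left V).trans (Nat.le_of_mul_le_mul_left h2 Nat.card_pos)

theorem J_le_Cz_of_pp {T V : Subgroup G} (hV : IsElementaryAbelian 2 V) (hVT : V ≤ T)
    (h : ∀ R, R ≤ JJ 2 T → PP V R) : JJ 2 T ≤ Cz(V) := J_le_iff.2 fun A hA => by
  by_contra hn
  have h1 := (h A hA.le_J).elem hA.el hn
  have h2 := (relIndex_anti' (elemAb_le_Cz hA.el) V).trans (MaxEl.relIndex_le hA hV hVT)
  have h3 := relIndex_pos' (Cz(V)) A
  have := Nat.pow_le_pow_left h2 2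
  nlinarith [Nat.pow_le_pow_right h3 (by norm_num : 2 ≤ 3)]

theorem eg_J (T : Subgroup G) : EG (JJ 2 T) := fun _ h1 _ h3 h4 => J_le_Cz_of_pp h3 (h1.trans (J_le T)) h4

theorem J_le_JH (T : Subgroup G) : JJ 2 T ≤ JH T := le_JH (J_le T) (eg_J T) le_rfl

theorem JH_le_JH {T U : Subgroup G} (h1 : JJ 2 T ≤ U) (h2 : U ≤ T) : JH U ≤ JH T :=
  JH_le_iff.2 fun _ a b c => le_JH (a.trans h2) b (J_eq_of_J_le h1 h2 ▸ c)

theorem JH_eq {T U : Subgroup G} (h1 : JH T ≤ U) (h2 : U ≤ T) : JH U = JH T :=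
  le_antisymm (JH_le_JH ((J_le_JH T).trans h1) h2) (JH_le_iff.2 fun _ a b c => le_JH ((le_JH a b c).trans h1) b
    (J_eq_of_J_le ((J_le_JH T).trans h1) h2 ▸ c))

theorem OZ_JH_le_J (T : Subgroup G) : OZ 2 (JH T) ≤ OZ 2 (JJ 2 T) :=
  le_OZ_J ((OZ_le _).trans (JH_le T)) (elemAb_OZ _) ((OZ_le_Cz _).trans (Cz_anti (J_le_JH T)))

theorem OZ_JH_mono {T U : Subgroup G} (h1 : JJ 2 T ≤ U) (h2 : U ≤ T) : OZ 2 (JH T) ≤ OZ 2 (JH U) :=
  OZ_le_OZ (JH_le_JH h1 h2) ((OZ_JH_le_J T).trans ((OZ_le _).trans (J_eq_of_J_le h1 h2 ▸ J_le_JH U)))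

theorem le_OZ_JH {T V : Subgroup G} (hV : IsElementaryAbelian 2 V) (hVT : V ≤ T) (hn : T ≤ Nm(V))
    (h : ∀ R, R ≤ T → PP V R) : V ≤ OZ 2 (JH T) := by
  have h1 := (le_OZ_J hVT hV (le_Cz_comm (J_le_Cz_of_pp hV hVT fun R hR => h R (hR.trans (J_le T))))).trans (OZ_le _)
  exact CfH7.le_OZ hV (h1.trans (J_le_JH T)) (le_Cz_comm (JH_le_iff.2 fun U a b c =>
    b V (h1.trans c) (a.trans hn) hV fun R hR => h R (hR.trans a)))

theorem not_involves_hb (h4 : ¬ Involves (Equiv.Perm (Fin 4)) G) {V : Subgroup G} (hV : IsPGroup 2 V)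
    (H : Subgroup G) : ¬ Involves (DihedralGroup 3) (hb V H) := fun h => by
  refine h4 (involves_S4_of_automizer hV (involves_S3_iff.2 ?_))
  have e := (QuotientGroup.quotientMulEquivOfEq holA_ker.symm).trans (QuotientGroup.quotientKerEquivRange (holA V))
  exact Involves.of_injective (Involves.of_le h (map_le_range _ _)) e.symm.toMonoidHom e.symm.injective

/-- A `2`-reduced elementary abelian subgroup has the property from the definition of E-groups. -/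
theorem pp_of_red {G : Type u} [Group G] [Finite G] (h4 : ¬ Involves (Equiv.Perm (Fin 4)) G) {V H : Subgroup G}
    (hV : IsElementaryAbelian 2 V) (hn : H ≤ Nm(V)) (hr : RedOn 2 H V) (hK : CK (hb V H)) {R : Subgroup G}
    (hR : R ≤ H) : PP V R := fun h1 h2 h3 => by
  haveI : Fact (Nat.Prime 2) := ⟨Nat.prime_two⟩
  have hRV := hR.trans hn
  have he : IsElementaryAbelian 2 (hb V R) := by
    refine ⟨comm_iff.2 fun a ha b hb' => ?_, fun a ha => ?_⟩
    · have := comm_eq_bot_left.1 (hb_commutator hRV hRV ▸ (hb_eq_bot_iff ((commutator_le_self' le_rfl le_rfl).trans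
        hRV)).2 h1)
      exact (this hb' a ha)
    · obtain ⟨g, hg, rfl⟩ := mem_hb.1 ha
      rw [← map_pow, holA_eq_one_iff]; exact h2 g hg
  obtain ⟨h5, h6⟩ := offender_bound (elemAb_hv hV) (hb_le_Nm_hv_self H) (hb_faithful H)
    (pCoreOf_eq_bot_iff.1 (pCoreOf_hb_eq_bot hn hr)) (not_involves_hb h4 (elemAb_isPGroup hV) H) hK (hb V R)
    (hb_mono hR) he
  rw [← hv_commutator le_rfl hRV, card_hv (comm_le_left hRV), card_hb hRV] at h6
  have h7 := CfH9.card_mul_relIndex (inf_le_left : hv V V ⊓ Cz(hb V R) ≤ _)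
  have h8 := CfH9.card_mul_relIndex (inf_le_left : V ⊓ Cz(R) ≤ _)
  rw [← card_hv (le_refl V), ← h7, ← card_hv (inf_le_left : V ⊓ Cz(R) ≤ V), hv_inf_Cz hRV, inf_relIndex_left] at h8
  rw [← Nat.eq_of_mul_eq_mul_left Nat.card_pos h8, card_hb hRV] at h5
  have h9 : (Cz(V)).relIndex R ≠ 1 := fun e => h3 (relIndex_eq_one.1 e)
  have := relIndex_pos' (Cz(V)) R
  generalize (Cz(V)).relIndex R = a at *
  have h10 : 2 ≤ a := by omega
  refine ⟨lt_of_lt_of_le ?_ (Nat.pow_le_pow_left h5 2), lt_of_lt_of_le ?_ h6⟩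
  · rw [← pow_mul]; exact Nat.pow_lt_pow_right h10 (by norm_num)
  · nlinarith

theorem CK.hb {G : Type u} [Group G] {V H : Subgroup G} (h : CK H) (hn : H ≤ Nm(V)) : CK (hb V H) :=
  (h.of_subgroupOf hn).of_surj _ ((holA V).subgroupMap_surjective _)

theorem JH_le_Cz_nclo {G : Type u} [Group G] [Finite G] (hc : Cz(pCore 2 G) ≤ pCore 2 G)
    (h4 : ¬ Involves (Equiv.Perm (Fin 4)) G) (hK : CK G) {S : Subgroup G} (hS : SylIn 2 S ⊤) :
    JH S ≤ Cz(nclo (S ⊓ Cz(S)) ⊤) := by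
  haveI : Fact (Nat.Prime 2) := ⟨Nat.prime_two⟩
  set V₀ := nclo (S ⊓ Cz(S)) ⊤
  have hQ : pCore 2 G ≤ S := hS.le_of_le_Nm (isPGroup_pCore 2 G) le_top le_normalizer_of_normal
  have h1 : V₀ ≤ pCore 2 G ⊓ Cz(pCore 2 G) := nclo_le le_normalizer_of_normal
    (le_inf (inf_le_right.trans ((Cz_anti hQ).trans hc)) (inf_le_right.trans (Cz_anti hQ)))
  have h2 : RedOn 2 ⊤ V₀ := (redOn_of_le_Cz (le_Cz_comm inf_le_right)).nclo hS le_rfl le_top
  have hc0 := comm_of_le h1 (CfH9.comm_inf_Cz _)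
  have hp0 := (isPGroup_pCore 2 G).to_le (h1.trans inf_le_left)
  have hn : (⊤ : Subgroup G) ≤ Nm(omegaOne 2 V₀) := le_normalizer_of_normal.trans (CfH7.Nm_le_Nm_omegaOne V₀)
  have h3 : Cz(omegaOne 2 V₀) ≤ Cz(V₀) := h2 _ le_top (hn.trans (Nm_le_Nm_Cz _)) (pResidualOf_le_iff.2
    fun g hg ho => mem_Cz_of_omegaOne hc0 hp0 (mem_Nm_of_normal g _) ho hg)
  have h5 : RedOn 2 ⊤ (omegaOne 2 V₀) := h2.of_Cz_eq (by rw [le_antisymm h3 (Cz_anti (CfH7.omegaOne_le _))])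
  exact (le_Cz_comm ((le_OZ_JH (elemAb_omegaOne hc0) ((CfH7.omegaOne_le _).trans (h1.trans (inf_le_left.trans hQ)))
    (le_top.trans hn) fun R _ => pp_of_red h4 (elemAb_omegaOne hc0) hn h5 ((hK.sub (by simp)).hb hn) le_top).trans
    (OZ_le_Cz _))).trans h3

theorem fact_ab {G : Type u} [Group G] [Finite G] (hc : Cz(pCore 2 G) ≤ pCore 2 G)
    (h4 : ¬ Involves (Equiv.Perm (Fin 4)) G) (hK : CK G) {S : Subgroup G} (hS : SylIn 2 S ⊤) (g : G) :
    ∃ c ∈ Cz(S ⊓ Cz(S)), ∃ n ∈ Nm(JJ 2 S) ⊓ Nm(JH S), g = c * n := by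
  haveI : Fact (Nat.Prime 2) := ⟨Nat.prime_two⟩
  have h1 := le_inf (JH_le S) (JH_le_Cz_nclo hc h4 hK hS)
  obtain ⟨c, hc, n, hn, e⟩ := (hS.inf_normal' le_normalizer_of_normal le_top :
    SylIn 2 _ Cz(nclo (S ⊓ Cz(S)) ⊤)).frattini (mem_Nm_of_normal g _)
  refine ⟨c, Cz_anti (le_nclo _ _) hc, n, mi ?_ ?_, e⟩
  · rw [← J_eq_of_J_le ((J_le_JH S).trans h1) inf_le_left]; exact Nm_le_Nm_J _ hn
  · rw [← JH_eq h1 inf_le_left]; exact Nm_le_Nm_JH _ hn

end CfH1
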