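import Cfsg.Agent.H1.EG
import Cfsg.Agent.H1.PGrp
import Cfsg.Agent.OD.Helper1x8c6a29a6ca

/-! The action of data on the elementary abelian subgroups tested in the definition of E-groups. -/

set_option autoImplicit false
set_option linter.unusedSectionVars false

namespace CfH1

open Cfsg Subgroup CfH9 CfH7 CfH8
open scoped Pointwise commutatorElement

variable {G : Type*} [Group G] [Finite G]

theorem relIndex_sup_le_of_le {K B C : Subgroup G} (hB : B ≤ K) (h : C ≤ Nm(K)) :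
    K.relIndex (B ⊔ C) ≤ K.relIndex C := by
  refine (relIndex_le_of_le_right (sup_le_sup_right hB C) (relIndex_pos' _ _).ne').trans ?_
  have h1 := card_sup_mul_card_inf h
  rw [← CfH9.card_mul_relIndex (le_sup_left : K ≤ K ⊔ C), ← CfH9.card_mul_relIndex (inf_le_right : K ⊓ C ≤ C),
    inf_relIndex_right] at h1
  have h2 : 0 < Nat.card K * Nat.card (K ⊓ C : Subgroup G) := Nat.mul_pos Nat.card_pos Nat.card_pos
  exact Nat.le_of_mul_le_mul_left (by nlinarith) h2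

theorem relIndex_le_mul (K B A : Subgroup G) (h : B ≤ A) : K.relIndex A ≤ K.relIndex B * B.relIndex A := by
  have := relIndex_inf_mul_relIndex K B A
  rw [inf_of_le_left h] at this
  exact this ▸ relIndex_anti' inf_le_left A

theorem le_Nm_nclo_of_cj {X A H : Subgroup G} (h : ∀ g ∈ H, X ≤ Nm(cj g A)) : X ≤ Nm(nclo A H) := fun x hx =>
  mem_normalizer_of_cj_le (cj_le_iff.2 (nclo_le_iff'.2 fun g hg => cj_le_iff.1
    ((cj_eq_of_mem_normalizer (h g hg hx)).le.trans (cj_le_nclo hg))))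

theorem pp_symm {T V : Subgroup G} (hV : IsElementaryAbelian 2 V) (hP : ∀ R, R ≤ T → PP V R) {g : G}
    (h1 : cj g V ≤ T) (h2 : cj g⁻¹ V ≤ T) : cj g V ≤ Cz(V) := by
  by_contra hn
  have h3 := (hP _ h1).elem (elemAb_map hV _) hn
  have h4 := (pp_cj (hP _ h2) g).elem (elemAb_map (elemAb_map hV _) _)
  rw [cj_cj_inv] at h4
  have h5 := h4 fun e => hn (le_Cz_comm e)
  have h6 := relIndex_pos' (Cz(V)) (cj g V)
  generalize (Cz(V)).relIndex (cj g V) = a at *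
  generalize (Cz(cj g V)).relIndex V = b at *
  have h7 : a < b := lt_of_pow_lt_pow_left₀ 2 (by omega) (lt_of_le_of_lt (Nat.pow_le_pow_right h6 (by norm_num)) h3)
  have h8 := Nat.pow_le_pow_right (h6.trans h7) (by norm_num : 2 ≤ 3)
  have := Nat.pow_lt_pow_left h7 (by norm_num : 2 ≠ 0)
  omega

theorem pp_chain {Y B₀ : Subgroup G} (h : ∀ B, B ≤ B₀ → ¬ B ≤ Cz(Y) → ∃ V, V ≤ Y ∧ ¬ B ≤ Cz(V) ∧
    (Cz(V)).relIndex B ^ 3 < (Cz(B)).relIndex V ^ 2) (B : Subgroup G) :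
    B ≤ B₀ → ¬ B ≤ Cz(Y) → (Cz(Y)).relIndex B ^ 3 < (Cz(B)).relIndex Y ^ 2 := by
  induction B using subgroup_induction with
  | h B ih =>
  intro hB hn
  obtain ⟨V, h1, h2, h3⟩ := h B hB hn
  have h4 : (Cz(Y)).relIndex (Cz(V) ⊓ B) ^ 3 ≤ (Cz(Cz(V) ⊓ B)).relIndex Y ^ 2 := by
    by_cases e : Cz(V) ⊓ B ≤ Cz(Y)
    · rw [relIndex_eq_one.2 e, one_pow]; exact Nat.one_le_pow _ _ (relIndex_pos' _ _)
    · exact (ih _ (CfH9.card_lt_of_lt (lt_of_le_not_ge inf_le_right fun e => h2 (e.trans inf_le_left)))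
        (inf_le_right.trans hB) e).le
  have e1 := relIndex_inf_mul_relIndex (Cz(Y)) (Cz(V)) B
  have e2 := relIndex_inf_mul_relIndex (Cz(B)) (Cz(Cz(V) ⊓ B)) Y
  rw [inf_of_le_left (Cz_anti h1)] at e1
  rw [inf_of_le_left (Cz_anti inf_le_right)] at e2
  have h5 : (Cz(B)).relIndex V ≤ (Cz(B)).relIndex (Cz(Cz(V) ⊓ B) ⊓ Y) :=
    relIndex_le_of_le_right (le_inf (le_Cz_comm inf_le_left) h1) (relIndex_pos' _ _).ne'
  rw [← e1, ← e2, mul_pow, mul_pow, mul_comm]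
  exact Nat.mul_lt_mul_of_lt_of_le (h3.trans_le (Nat.pow_le_pow_left h5 2)) h4 (Nat.pow_pos (relIndex_pos' _ _))

theorem exists_pairing_one {V Z Z₀ : Subgroup G} {q : G} (h : ∀ v ∈ V, ⁅q, v⁆ ∈ Z) (hV : V ≤ Cz(Z))
    (hq : q ∈ Nm(Z₀)) : ∃ W, W ≤ V ∧ W.relIndex V ≤ Z₀.relIndex Z ∧ ⁅W, zpowers q⁆ ≤ Z₀ := by
  let f : V →* Z := MonoidHom.mk' (fun v => ⟨⁅q, (v : G)⁆, h v v.2⟩) fun a b => Subtype.ext (by
    change ⁅q, (a * b : G)⁆ = ⁅q, (a : G)⁆ * ⁅q, (b : G)⁆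
    rw [commutatorElement_mul_right_eq_mul_conj, mul_assoc, mul_assoc, ← mul_assoc (a : G),
      conj_eq_of_mem_centralizer (hV a.2) (h b b.2)])
  refine ⟨((Z₀.subgroupOf Z).comap f).map V.subtype, map_subtype_le _, ?_, Dat.commutator_le hq ?_⟩
  · rw [relIndex, subgroupOf_map_subtype_self, index_comap]
    exact (relIndex_le_of_le_right le_top (relIndex_pos' _ ⊤).ne').trans (relIndex_top_right _).le
  · rintro _ ⟨v, hv, rfl⟩
    rw [← commutatorElement_inv]; exact inv_mem hv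

theorem exists_pairing {V Z Z₀ : Subgroup G} (hV : V ≤ Cz(Z)) (h2 : Z₀.relIndex Z ≤ 2) (R : Subgroup G) :
    ⁅R, V⁆ ≤ Z → R ≤ Nm(Z₀) → ∃ W, W ≤ V ∧ W.relIndex V ≤ (Cz(V)).relIndex R ∧ ⁅W, R⁆ ≤ Z₀ := by
  induction R using subgroup_induction with
  | h R ih =>
  intro h1 h3
  by_cases hc : R ≤ Cz(V)
  · exact ⟨V, le_rfl, by rw [relIndex_self]; exact relIndex_pos' _ _, (comm_eq_bot_right.2 hc).le.trans bot_le⟩
  obtain ⟨R', h4, h5, h6⟩ := exists_maximal_ge (fun X => X < R) (A := R ⊓ Cz(V))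
    (lt_of_le_not_ge inf_le_left fun e => hc (e.trans inf_le_right))
  obtain ⟨q, hq, hq'⟩ := SetLike.exists_of_lt h4
  have h7 : R ≤ R' ⊔ zpowers q := by
    by_contra e
    exact hq' (h6 _ (lt_of_le_not_ge (sup_le h4.le (zpowers_le.2 hq)) e) le_sup_left ▸ mem_sup_right (mem_zpowers q))
  obtain ⟨W, w1, w2, w3⟩ := ih R' (CfH9.card_lt_of_lt h4) ((commutator_mono h4.le le_rfl).trans h1) (h4.le.trans h3)
  obtain ⟨U, u1, u2, u3⟩ := exists_pairing_one (fun v hv => h1 (commutator_mem_commutator hq hv)) hV (h3 hq)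
  refine ⟨W ⊓ U, inf_le_left.trans w1, relIndex_inf_le.trans ?_, (commutator_mono le_rfl h7).trans
    (commutator_sup_right_le (h4.le.trans h3) (zpowers_le.2 (h3 hq)) ((commutator_mono inf_le_left le_rfl).trans w3)
      ((commutator_mono inf_le_right le_rfl).trans u3))⟩
  have e := relIndex_inf_mul_relIndex (Cz(V)) R' R
  rw [inf_of_le_left h4.le, ← inf_relIndex_right (Cz(V) ⊓ R'), inf_right_comm,
    inf_of_le_left (inf_comm R _ ▸ h5), inf_relIndex_right] at e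
  have h8 : R'.relIndex R ≠ 1 := fun e => h4.not_ge (relIndex_eq_one.1 e)
  have := relIndex_pos' R' R
  rw [← e]
  exact Nat.mul_le_mul w2 (by omega)

namespace Dat

variable {N A A₁ : Subgroup G} {s x : G} {r : ℕ} (h : Dat N A A₁ s x r)
include h

theorem order_coprime : (orderOf x).Coprime 2 := Nat.card_zpowers x ▸ h.card_coprime

theorem inf_pResidual : Dat (pResidual 2 G ⊓ N) A A₁ s x r :=
  ⟨h.prime, h.ne_two, h.s_mem, h.le, (inf_le_inf_left _ inf_le_right).trans h.inf_le, fun e => h.not_mem e.2, h.pow,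
    h.inv, fun a ha => mi (commutator_mem_right (mem_pResidual h.order_coprime) (mem_Nm_of_normal _ _)) (h.cent a ha),
    h.big⟩

theorem ff' {S U : Subgroup G} (hA : MaxEl 2 A S) (hU : IsElementaryAbelian 2 U) (hUS : U ≤ S) (hAU : A₁ ≤ Nm(U))
    (hx : x ∈ Nm(U)) (hc : ∀ a ∈ A₁, ⁅a, x⁆ ∈ Cz(U)) : x ∈ Cz(U) := by
  haveI : Fact (Nat.Prime 2) := ⟨Nat.prime_two⟩
  by_contra hx'
  have hAp := elemAb_isPGroup hA.el
  have hUp := elemAb_isPGroup hU
  have h1 := h.sq_le hAp (hUp.to_le inf_le_left) (mem_Nm_inf hAU hx hc) fun e => by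
    have := AxB_mod hUp hAU (zpowers_le.2 hx) (by rw [pResidualOf_eq_bot_of_isPGroup (hAp.to_le h.le)]; exact bot_le)
      (commutator_le (mem_Nm_Cz hx) hc) (zpowers_le.2 e)
    rw [pResidualOf_eq_self_of_coprime h.card_coprime] at this
    exact hx' (zpowers_le.1 this)
  set W := U ⊓ Cz(A₁)
  have h2 := MaxEl.relIndex_le hA (elemAb_of_le (inf_le_left : W ≤ U) hU) (inf_le_left.trans hUS)
  have h3 : cix W s ≤ A.relIndex W := by
    rw [cix, inf_relIndex_left]; exact relIndex_anti' ((elemAb_le_Cz hA.el).trans (Cz_le_Cx h.s_mem)) W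
  have h4 := relIndex_anti' (le_Cz_comm (inf_le_right : W ≤ Cz(A₁))) A
  have := h.one_lt
  nlinarith

/-- Step 1. -/
theorem mem_Cz_of_pp [hN : N.Normal] (hNp : IsPGroup 2 N) {T : Subgroup G} (hNT : N ≤ T) (hAT : A ≤ T)
    (hn : T ≤ Nm(A)) (hA : IsElementaryAbelian 2 A) (hP : ∀ R, R ≤ T → PP A R) : x ∈ Cz(N) := by
  haveI : Fact (Nat.Prime 2) := ⟨Nat.prime_two⟩
  have hAp := elemAb_isPGroup hA
  have hC : A₁ ≤ Cz(A) := h.le.trans (elemAb_le_Cz hA)
  have hs : s ∈ Cz(A) := elemAb_le_Cz hA h.s_mem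
  have e0 : x * s * x = s := by
    calc _ = x * (s * x * s⁻¹) * s := by group
      _ = _ := by rw [h.inv]; group
  have e1 : cj (x * s) A₁ = cj x A₁ := by rw [cj_mul, cj_eq_of_mem_centralizer (Cz_anti h.le hs)]
  have e2 : cj (x * s) (cj x A₁) = A₁ := by rw [← cj_mul, e0, cj_eq_of_mem_centralizer (Cz_anti h.le hs)]
  have e3 : cj (x * s) A = cj x A := by rw [cj_mul, cj_eq_of_mem h.s_mem]
  have e4 : cj (x * s) (cj x A) = A := by rw [← cj_mul, e0, cj_eq_of_mem h.s_mem]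
  have h1 : cj x A₁ ≤ A₁ ⊔ N := cj_le_iff_forall.2 fun a ha => by
    simpa [commutatorElement_def, mul_assoc] using mul_mem (mem_sup_left ha) (mem_sup_right (h.cent _ (inv_mem ha)))
  have h2 : ⁅N, A⁆ ≤ A₁ :=
    (le_inf (comm_le_right (hNT.trans hn)) (comm_le_left (le_Nm_normal _ _))).trans h.inf_le
  set E := A₁ ⊔ cj x A₁
  have hE : E ≤ A₁ ⊔ N := sup_le le_sup_left h1
  have h3 : ⁅E, A⁆ ≤ E := (commutator_mono hE le_rfl).trans ((commutator_sup_left_le le_normalizer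
    (le_Nm_of_comm_le_right ((commutator_mono le_rfl h.le).trans h2))
    ((comm_eq_bot_left.2 hC).le.trans bot_le) h2).trans le_sup_left)
  have h4 : A ≤ secCz N E := le_secCz (le_Nm_of_comm_le_left h3) (h2.trans le_sup_left)
  have h5 : x * s ∈ Nm(secCz N E) := zpowers_le.1 (le_Nm_secCz (le_Nm_normal _ _) (zpowers_le.2 (by
    rw [mem_normalizer_iff_cj, cj_sup, e1, e2, sup_comm])))
  have h6 : x ∈ secCz N E := by
    refine (sup_le (zpowers_le.2 (h4 h.s_mem)) (zpowers_le.2 ?_)) h.mem_sup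
    simpa [mul_assoc] using conj_mem_of_mem_normalizer h5 (h4 h.s_mem)
  have hEp : IsPGroup 2 E := (isPGroup_sup (hAp.to_le h.le) hNp (le_Nm_normal _ _)).to_le hE
  by_contra hx
  have h7 := h.sq_le hAp hEp (secCz_le_Nm _ _ h6) fun e => hx (mem_Cz_of_coprime hNp (mem_Nm_of_normal _ _)
    h.order_coprime (commutator_le_of_le_secCz (zpowers_le.2 h6)) e)
  have hT : cj x A₁ ≤ T := h1.trans (sup_le (h.le.trans hAT) hNT)
  have h8 : cix E s ≤ (Cz(A)).relIndex (cj x A₁) := by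
    rw [cix, inf_relIndex_left]
    exact (relIndex_anti' (Cz_le_Cx h.s_mem) E).trans
      (relIndex_sup_le_of_le hC (hT.trans (hn.trans (Nm_le_Nm_Cz A))))
  have h9 := h.one_lt
  have h10 := (hP _ hT).elem (elemAb_map (elemAb_of_le h.le hA) _) fun e => by
    rw [relIndex_eq_one.2 e] at h8; nlinarith
  have h11 := relIndex_le_mul (Cz(cj x A₁)) A₁ A h.le
  have h12 := relIndex_anti' (Cz_anti (cj_mono x h.le)) A₁
  rw [← relIndex_cj (x * s) (Cz(cj x A)), cj_centralizer, e4, e1] at h12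
  have h13 := Nat.pow_le_pow_left (h11.trans (Nat.mul_le_mul_right _ h12)) 2
  generalize (Cz(A)).relIndex (cj x A₁) = ρ at *
  generalize A₁.relIndex A = v at *
  have : ρ ^ 2 * v ^ 2 ≤ ρ ^ 2 * ρ := Nat.mul_le_mul_left _ (h7.trans h8)
  nlinarith

theorem cix_lt {S Y : Subgroup G} (hA : MaxEl 2 A S) (hY : IsElementaryAbelian 2 Y) (hYS : Y ≤ S) (hx : x ∈ Nm(Y))
    (hc : ¬ A₁ ≤ Cz(Y) → (Cz(Y)).relIndex A₁ ^ 3 < (Cz(A₁)).relIndex Y ^ 2) : cix Y x < A₁.relIndex A ^ 6 := by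
  have h1 := (MaxEl.relIndex_le hA hY hYS).trans (relIndex_le_mul _ A₁ A h.le)
  have h2 : cix Y s ≤ A.relIndex Y := by
    rw [cix, inf_relIndex_left]; exact relIndex_anti' ((elemAb_le_Cz hA.el).trans (Cz_le_Cx h.s_mem)) Y
  have h3 := relIndex_anti' ((elemAb_le_Cz hA.el).trans (Cz_anti h.le)) Y
  have h4 := h.one_lt
  have h5 : (Cz(Y)).relIndex A₁ < A₁.relIndex A ^ 2 := by
    by_cases e : A₁ ≤ Cz(Y)
    · rw [relIndex_eq_one.2 e]; nlinarith
    · have := (hc e).trans_le (Nat.pow_le_pow_left (h3.trans h1) 2)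
      rw [mul_pow, pow_succ] at this
      exact lt_of_mul_lt_mul_left this (Nat.zero_le _)
  have h6 : cix Y s < A₁.relIndex A ^ 3 := (h2.trans h1).trans_lt (by
    rw [pow_succ]; exact Nat.mul_lt_mul_of_lt_of_le h5 le_rfl (by omega))
  exact (h.cix_le hx).trans_lt ((Nat.pow_lt_pow_left h6 two_ne_zero).trans_eq (by ring))

/-- Step 3. -/
theorem mem_Cz_of_pp' [hN : N.Normal] (hNp : IsPGroup 2 N) {S T V : Subgroup G} (hA : MaxEl 2 A S) (hNT : N ≤ T)
    (hAT : A ≤ T) (hAV : A ≤ Cz(V)) (hn : T ≤ Nm(V)) (hP : ∀ R, R ≤ T → PP V R)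
    (hY : IsElementaryAbelian 2 (nclo V (zpowers x))) (hYS : nclo V (zpowers x) ≤ S) : x ∈ Cz(V) := by
  haveI : Fact (Nat.Prime 2) := ⟨Nat.prime_two⟩
  set X := zpowers x
  set Y := nclo V X
  have hVY : V ≤ Y := le_nclo _ _
  have hXY : X ≤ Nm(Y) := right_le_Nm_nclo _ _
  have hx := hXY (mem_zpowers x)
  have hYp := elemAb_isPGroup hY
  have hYC := elemAb_le_Cz hY
  have hAX : ⁅A₁, X⁆ ≤ N := commutator_le (mem_Nm_of_normal _ _) h.cent
  have hXM : X ≤ Nm(A₁ ⊔ N) := le_Nm_sup_of_comm_le (le_Nm_normal _ _) (hAX.trans le_sup_right)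
  have hMT : A₁ ⊔ N ≤ T := sup_le (h.le.trans hAT) hNT
  have hMY : A₁ ⊔ N ≤ Nm(Y) := le_Nm_nclo_of_cj fun k hk => by
    rw [← cj_normalizer, ← cj_eq_of_mem_normalizer (hXM hk)]; exact cj_mono k (hMT.trans hn)
  have hlt := h.cix_lt hA hY hYS hx (pp_chain (B₀ := A₁) (fun B hB hBY => by
    obtain ⟨k, hk, hkB⟩ : ∃ k ∈ X, ¬ B ≤ Cz(cj k V) := by
      by_contra! e
      exact hBY (le_Cz_comm (nclo_le_iff'.2 fun k hk => le_Cz_comm (e k hk)))
    have := pp_cj (hP (cj k⁻¹ B) ((cj_le_iff.2 ((hB.trans le_sup_left).trans (by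
      rw [inv_inv, cj_eq_of_mem_normalizer (hXM hk)]))).trans hMT)) k
    rw [cj_cj_inv] at this
    exact ⟨_, cj_le_nclo hk, hkB, this.elem (elemAb_of_le (hB.trans h.le) hA.el) hkB⟩) A₁ le_rfl)
  set Q := ⁅N, X⁆
  have hQN : Q ≤ N := comm_le_left (le_Nm_normal _ _)
  have hXQ : X ≤ Nm(Q) := right_le_Nm_comm _ _
  have hQY : Q ≤ Nm(Y) := hQN.trans (le_sup_right.trans hMY)
  have hQQ : ⁅Q, X⁆ = Q := commutator_commutator_eq (le_Nm_normal _ _) (h.cop hNp) (Or.inl (isSolvable_zpowers x))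
  set Z := ⁅Y, Q⁆
  have hZY : Z ≤ Y := comm_le_left hQY
  rcases h.one_factor hYp hY.1 hx hZY (mem_Nm_commutator hx (hXQ (mem_zpowers x))) hlt with h1 | h1
  swap
  · have h2 : Y ≤ V := le_of_le_sup_commutator hYp (hNp.to_le hQN) hQY (hQN.trans (hNT.trans hn))
      (hYC.trans ((Cz_anti hVY).trans (Cz_le_Nm _)))
      ((nclo_eq_sup V X).le.trans (sup_le_sup_left ((commutator_mono hVY le_rfl).trans h1) V))
    rw [le_antisymm h2 hVY] at hx
    exact sup_le (zpowers_le.2 (hAV h.s_mem))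
      (zpowers_le.2 (conj_mem_of_mem_normalizer (mem_Nm_Cz hx) (hAV h.s_mem))) h.mem_sup
  have h2 : Q ≤ Cz(Z) := hQQ.ge.trans ((commutator_mono le_rfl (zpowers_le.2 h1)).trans
    (comm_le_right ((right_le_Nm_comm _ _).trans (Nm_le_Nm_Cz _))))
  by_cases hZ : Z = ⊥
  · have hMp := isPGroup_sup ((elemAb_isPGroup hA.el).to_le h.le) hNp (le_Nm_normal _ _)
    have h3 : ⁅A₁ ⊔ N, X⁆ ≤ Q := by
      rw [← commutator_commutator_eq hXM (h.cop hMp) (Or.inl (isSolvable_zpowers x))]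
      exact commutator_mono (commutator_sup_left_le (le_Nm_normal _ _) le_normalizer hAX hQN) le_rfl
    exact Cz_anti hVY (h.ff' hA hY hYS (le_sup_left.trans hMY) hx fun a ha =>
      comm_eq_bot_right.1 hZ (h3 (commutator_mem_commutator (mem_sup_left ha) (mem_zpowers x))))
  exfalso
  have h3 : Y ⊓ Cx(x) ≤ Cz(Q) := by
    rw [← hQQ]
    refine comm_eq_bot_right.1 (eq_bot_iff.2 (three_subgroups_normal ?_ ?_))
    · rw [comm_eq_bot_right.2 (Cz_zpowers x ▸ inf_le_right : Y ⊓ Cx(x) ≤ Cz(X)), commutator_bot_left]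
    · exact (commutator_mono (commutator_mono inf_le_left le_rfl) le_rfl).trans
        (comm_eq_bot_right.2 (zpowers_le.2 h1)).le
  obtain ⟨Z₀, -, z1, z2⟩ := exists_relIndex_prime_ge (hYp.to_le hZY) (bot_lt_iff_ne_bot.2 hZ)
  have z3 : Cz(Z) ≤ Nm(Z₀) := (Cz_anti z1).trans (Cz_le_Nm _)
  have hYZ : Y ≤ Cz(Z) := hYC.trans (Cz_anti hZY)
  have h4 : Y ⊓ secCz Q Z₀ ≤ Cz(Q) := by
    rcases h.one_factor hYp hY.1 hx inf_le_left (CfH9.mem_Nm_inf hx
      (le_Nm_secCz hXQ (zpowers_le.2 (z3 h1)) (mem_zpowers x))) hlt with h4 | h4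
    · exact (le_inf inf_le_left (le_Cx_iff.2 h4)).trans h3
    · have h5 : Y ≤ secCz Q Z₀ := by
        rw [← commutator_sup_centralizer_eq hXY (h.cop hYp) (Or.inl (isSolvable_zpowers x)), Cz_zpowers]
        exact sup_le (h4.trans inf_le_right) (le_secCz (inf_le_left.trans (hYZ.trans z3))
          ((comm_eq_bot_right.2 h3).le.trans bot_le))
      have := commutator_le_of_le_secCz h5
      rw [commutator_comm, ← relIndex_eq_one, z2] at this
      omega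
  obtain ⟨W, w1, w2, w3⟩ := exists_pairing (hVY.trans hYZ) z2.le Q
    ((commutator_comm _ _).le.trans (commutator_mono hVY le_rfl)) (h2.trans z3)
  have w4 : W ≤ Cz(Q) := (le_inf (w1.trans hVY) (le_secCz (w1.trans (hVY.trans (hYZ.trans z3)))
    ((commutator_comm _ _).le.trans w3))).trans h4
  have h5 := (hP Q (hQN.trans hNT) ((comm_eq_bot_right.1 (eq_bot_iff.2 (commutator_commutator_self_le
    (le_Nm_normal _ _) (le_Nm_normal _ _) (comm_eq_bot_right.2 h2).le))).trans (Cz_anti hVY)) (fun q hq v hv => ?_)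
    fun e => hZ (comm_eq_bot_left.2 (nclo_le_Cz hXQ (le_Cz_comm e)))).1
  · have h6 := Nat.pow_le_pow_left ((relIndex_anti' w4 V).trans w2) 2
    have := Nat.pow_le_pow_right (relIndex_pos' (Cz(V)) Q) (by norm_num : 2 ≤ 3)
    omega
  · have h6 : ⁅v, q⁆ ∈ Z := commutator_mem_commutator (hVY hv) hq
    rw [← commutatorElement_eq_one_iff_mul_comm, pow_two, commutatorElement_mul_right_eq_mul_conj, mul_assoc, mul_assoc,
      ← mul_assoc q, conj_eq_of_mem_centralizer (h2 hq) h6, mul_self_of_elem hY (hZY h6)]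

end Dat

end CfH1
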