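import Cfsg.Agent.H1.DatV

/-! A weakly closed family of elementary abelian subgroups and its data generate the group. -/

set_option autoImplicit false
set_option linter.unusedSectionVars false

namespace CfH1

open Cfsg Subgroup CfH9 CfH7 CfH8
open scoped Pointwise commutatorElement

universe u

variable {G : Type*} [Group G] [Finite G] {G' : Type*} [Group G']

structure WC (S : Subgroup G) (𝒜 : Set (Subgroup G)) : Prop where
  syl : SylIn 2 S ⊤
  le : ∀ A ∈ 𝒜, A ≤ S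
  el : ∀ A ∈ 𝒜, IsElementaryAbelian 2 A
  wc : ∀ A ∈ 𝒜, ∀ g, cj g A ≤ S → cj g A ∈ 𝒜

def Nor (G : Type*) [Group G] : Prop := ∀ M : Subgroup G, M.Normal → pResidual 2 G ≤ M ∨ ¬ 2 ∣ Nat.card M

/-- the subgroup generated by the family and its data -/
def DG (𝒜 : Set (Subgroup G)) : Subgroup G := sSup 𝒜 ⊔ closure {x | ∃ A ∈ 𝒜, ∃ A₁ s r, Dat ⊥ A A₁ s x r}

theorem mem_DG {𝒜 : Set (Subgroup G)} {A A₁ : Subgroup G} {s x : G} {r : ℕ} (hA : A ∈ 𝒜) (h : Dat ⊥ A A₁ s x r) :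
    x ∈ DG 𝒜 := mem_sup_right (subset_closure ⟨A, hA, A₁, s, r, h⟩)

theorem Nor.map (h : Nor G) {φ : G →* G'} (hφ : Function.Surjective φ) : Nor G' := fun M hM => by
  haveI : Fact (Nat.Prime 2) := ⟨Nat.prime_two⟩
  refine (h _ (hM.comap φ)).imp (fun h => ?_) fun h h2 => h (h2.trans ?_)
  · rw [← map_pResidual_of_surjective hφ]; exact map_le_iff_le_comap.2 h
  · exact card_dvd_of_surjective _ (φ.subgroupComap_surjective_of_surjective M hφ)

theorem map_sSup' (φ : G →* G') (𝒜 : Set (Subgroup G)) : (sSup 𝒜).map φ = sSup (map φ '' 𝒜) := by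
  rw [(gc_map_comap φ).l_sSup, sSup_image]

namespace WC

variable {S : Subgroup G} {𝒜 : Set (Subgroup G)} (h : WC S 𝒜)
include h

theorem cj_mem {A : Subgroup G} (hA : A ∈ 𝒜) {g : G} (hg : g ∈ S) : cj g A ∈ 𝒜 :=
  h.wc A hA g ((cj_mono g (h.le A hA)).trans (cj_eq_of_mem hg).le)

theorem map {φ : G →* G'} (hφ : Function.Surjective φ) : WC (S.map φ) (map φ '' 𝒜) := by
  haveI : Fact (Nat.Prime 2) := ⟨Nat.prime_two⟩
  refine ⟨h.syl.map_surj hφ, ?_, ?_, ?_⟩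
  · rintro _ ⟨A, hA, rfl⟩; exact map_mono (h.le A hA)
  · rintro _ ⟨A, hA, rfl⟩; exact elemAb_map (h.el A hA) φ
  · rintro _ ⟨A, hA, rfl⟩ g hg
    obtain ⟨g, rfl⟩ := hφ g
    rw [← map_cj] at hg ⊢
    obtain ⟨y, hy, h1⟩ := (h.syl.mono (le_comap_map φ S) le_top).exists_cj_le
      (isPGroup_cj (elemAb_isPGroup (h.el A hA)) g) (map_le_iff_le_comap.1 hg)
    obtain ⟨s, hs, e⟩ := hy
    rw [← cj_mul] at h1
    refine ⟨_, h.cj_mem (h.wc A hA _ h1) (inv_mem hs), ?_⟩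
    rw [map_cj, cj_mul, map_cj, map_inv, e, cj_inv_cj]

theorem le_Nm : S ≤ Nm(sSup 𝒜) := fun _ hg =>
  mem_normalizer_of_cj_le (cj_le_iff.2 (sSup_le fun _ hA => cj_le_iff.1 (le_sSup (h.cj_mem hA hg))))

theorem le_Nm_DG : S ≤ Nm(DG 𝒜) := fun g hg => mem_Nm_sup (h.le_Nm hg) (mem_normalizer_of_cj_le (by
  rw [cj_closure]
  refine closure_mono ?_
  rintro _ ⟨x, ⟨A, hA, A₁, s, r, hd⟩, rfl⟩
  have := hd.map_inj (f := (MulAut.conj g).toMonoidHom) (MulAut.conj g).injective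
  rw [Subgroup.map_bot] at this
  exact ⟨_, h.cj_mem hA hg, _, _, r, this⟩))

theorem eq_top (hg : nclo (sSup 𝒜) ⊤ = ⊤) {H X : Subgroup G} (hX : pResidual 2 G ≤ X)
    (hH : ∀ k ∈ X, cj k (sSup 𝒜) ≤ H) : H = ⊤ := by
  haveI : Fact (Nat.Prime 2) := ⟨Nat.prime_two⟩
  refine top_le_iff.1 (hg.ge.trans (nclo_le_iff'.2 fun g hg => ?_))
  rw [← sylIn_pResidualOf_sup h.syl, pResidualOf_top] at hg
  obtain ⟨k, hk, s, hs, rfl⟩ := mem_sup_of_normal_left.1 hg
  rw [cj_mul, cj_eq_of_mem_normalizer (h.le_Nm hs)]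
  exact hH k (hX hk)

theorem gen_l2 (h3 : ¬ Involves (DihedralGroup 3) G) (hL : L2F G) (h1 : sSup 𝒜 ≠ ⊥) : DG 𝒜 = ⊤ := by
  haveI : Fact (Nat.Prime 2) := ⟨Nat.prime_two⟩
  have hS : IsMulCommutative S := by
    obtain ⟨n, hn⟩ := IsPGroup.iff_card.1 h.syl.pgrp
    have h2 : n < 3 := by
      by_contra! h2
      exact hL.four ((pow_dvd_pow 2 h2).trans (hn ▸ card_subgroup_dvd_card S))
    interval_cases n
    · rw [card_eq_one.1 hn]; infer_instance
    · haveI := isCyclic_of_prime_card (p := 2) hn; infer_instance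
    · exact IsPGroup.isMulCommutative_of_card_eq_prime_sq hn
  have hC : ∀ t ∈ S, S ≤ Cx(t) := fun t ht => (le_Cz_of_comm hS).trans (Cz_le_Cx ht)
  have key : ∀ t s, t ≠ 1 → t * t = 1 → t ∈ S → t ∈ DG 𝒜 → ∀ A ∈ 𝒜, s ∈ A → s ∉ zpowers t →
      Cx(t) ≤ DG 𝒜 ∧ ¬ Cx(t) ≤ Cx(s) := fun t s t1 t2 tS tD A hA hs hst => by
    obtain ⟨-, -, d, d1, d2, d3, d4⟩ := hL.cent t t1 t2
    have k : ∀ a ∈ A, a ∉ zpowers t → _ := fun a ha => d4 a (hC t tS (h.le A hA ha)) (mul_self_of_elem (h.el A hA) ha)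
    refine ⟨(k s hs hst).2.trans (sup_le (sup_le (zpowers_le.2 (mem_of_parts d3 fun y hy y1 r j hr r2 hj =>
      mem_DG hA (l2_dat_of h3 (h.el A hA) hs (k s hs hst).1 (fun a ha => ?_) hy y1 hr r2 hj))) (zpowers_le.2 tD))
      (zpowers_le.2 (mem_sup_left (le_sSup hA hs)))), fun e => d2 ?_⟩
    · by_cases ha' : a ∈ zpowers t
      · exact Or.inl (zpowers_le.2 (mem_Cx.2 (mem_Cx.1 d1).symm) ha')
      · exact Or.inr (k a ha ha').1
    · have e1 := (k s hs hst).1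
      rw [mem_Cx'.1 (mem_Cx.2 (mem_Cx.1 (e d1)).symm)] at e1
      exact eq_one_of_pow_pow_of_coprime (p := 2) (k := 1) (by rw [pow_one, pow_two]; nth_rw 1 [e1]; simp)
        (Nat.coprime_two_right.2 d3)
  obtain ⟨A, hA, t, ht, t1⟩ : ∃ A ∈ 𝒜, ∃ t ∈ A, t ≠ 1 := by
    by_contra! e
    exact h1 (eq_bot_iff.2 (sSup_le fun A hA t ht => mem_bot.2 (e A hA t ht)))
  have t2 := mul_self_of_elem (h.el A hA) ht
  obtain ⟨B, hB, s, hs, hst⟩ : ∃ B ∈ 𝒜, ∃ s ∈ B, s ∉ zpowers t := by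
    by_cases e : A ≤ zpowers t
    swap
    · exact ⟨A, hA, SetLike.not_le_iff_exists.1 e⟩
    obtain ⟨-, ⟨s, s1, s2, s3⟩, -⟩ := hL.cent t t1 t2
    obtain ⟨c, hc, hcs⟩ := (h.syl.mono (hC t (h.le A hA ht)) le_top).exists_conj_mem s1 (k := 1)
      (by rwa [pow_one, pow_two])
    obtain ⟨g, hg⟩ := hL.conj t s t1 t2 (fun e => s3 (e ▸ one_mem _)) s2
    have e1 : (c * g) * t * (c * g)⁻¹ = c * s * c⁻¹ := by rw [← hg]; group
    refine ⟨_, h.wc A hA (c * g) ((cj_mono _ e).trans ?_), _, conj_mem_cj _ ht, fun e2 => s3 ?_⟩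
    · rwa [cj_zpowers, e1, zpowers_le]
    · rwa [e1, ← mem_Cx'.1 hc, ← cj_zpowers, conj_mem_cj_iff] at e2
  have s2 := mul_self_of_elem (h.el B hB) hs
  have s1 : s ≠ 1 := fun e => hst (e ▸ one_mem _)
  have k1 := key t s t1 t2 (h.le A hA ht) (mem_sup_left (le_sSup hA ht)) B hB hs hst
  have k2 := key s t s1 s2 (h.le B hB hs) (mem_sup_left (le_sSup hB hs)) A hA ht fun e => by
    rcases eq_one_or_eq_of_mem_zpowers (by rwa [pow_two]) e with e | e
    · exact t1 e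
    · exact hst (e ▸ mem_zpowers _)
  by_contra e
  exact k1.2 (k1.1.trans (((hL.cent s s1 s2).1.le_iff.1 k2.1).resolve_left e).le)

end WC

theorem WC.gen_simple {G : Type u} [Group G] [Finite G] {S : Subgroup G} {𝒜 : Set (Subgroup G)} (h : WC S 𝒜)
    (hO : pCore 2 G = ⊥) (hO' : pPrimeCore 2 G = ⊥) (h3 : ¬ Involves (DihedralGroup 3) G) (hK : CK G)
    (hN : Nor G) (hg : nclo (sSup 𝒜) ⊤ = ⊤) : DG 𝒜 = ⊤ := by
  haveI : Fact (Nat.Prime 2) := ⟨Nat.prime_two⟩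
  by_cases h1 : sSup 𝒜 = ⊥
  · rw [h1, nclo_eq_self (le_Nm_normal _ _)] at hg
    exact top_le_iff.1 (hg.ge.trans bot_le)
  obtain ⟨L, hL, -⟩ := exists_component_not_le hO (h.syl.pgrp.to_le (sSup_le h.le)) h1
    (hO' ▸ le_Cz_comm bot_le)
  have hZ : L ⊓ Cz(L) = ⊥ := eq_bot_iff.2 ((center_le_fitting_of_subnormal hL.1).trans
    ((fitting_le_pPrimeCore_of_pCore_eq_bot hO).trans hO'.le))
  obtain ⟨hs, hc⟩ := simple_of_component hL.2 hZ
  have hL1 : L ≠ ⊥ := fun e => qs_not_le_centralizer hL.2 (e ▸ bot_le)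
  have h2 := two_dvd_of_subnormal hO' hL.1 hL1
  have hM : pResidual 2 G ≤ nclo L ⊤ :=
    (hN _ inferInstance).resolve_right fun e => e (h2.trans (card_dvd_of_le (le_nclo _ _)))
  have hML : nclo L ⊤ ≤ Nm(L) :=
    (nclo_le le_normalizer_of_normal (le_layer hL)).trans (layer_le_normalizer_component hL)
  have hJ : ∃ A ∈ 𝒜, ¬ A ≤ Cz(L) := by
    by_contra! e
    exact qs_not_le_centralizer hL.2 (le_top.trans (h.eq_top hg (hM.trans hML) fun k hk =>
      (cj_mono k (sSup_le e)).trans (cj_eq_of_mem_normalizer (mem_Nm_Cz hk)).le).ge)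
  rcases hK.nice hL.1 hc h2 with ⟨q, r, hS⟩ | hS
  · obtain ⟨A, hA, hAL⟩ := hJ
    obtain ⟨A₁, s, x, hd, hx, y, hy, hyx⟩ := sz_dat h3 hL hZ hS h2 (h.el A hA) hAL
    set H := DG 𝒜 ⊔ S
    have hT : SylIn 2 (S ⊓ L) L := (subnIn_top_iff.2 hL.1).sylIn_inf h.syl
    have hTH : S ⊓ L ≤ H ⊓ Nm(L) := le_inf (inf_le_left.trans le_sup_right) (inf_le_right.trans le_normalizer)
    have h4 := hS.gen _ (((H ⊓ Nm(L)) ⊔ Cz(L)).subgroupOf L) hT.subgroupOf_top
      (comap_mono (hTH.trans le_sup_left)) y (by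
        have := mul_mem (mem_sup_left (mi (mem_sup_left (T := S) (mem_DG hA hd)) (hML (nclo_mono le_rfl le_top hx))))
          (mem_sup_right (inv_mem hyx))
        simpa [mem_subgroupOf] using this) hy
    have h5 : L ≤ Nm(L ⊓ H) := (subgroupOf_eq_top.1 h4).trans (sup_le (CfH7.le_normalizer_inf inf_le_right
      (inf_le_left.trans le_normalizer)) ((Cz_anti inf_le_left).trans (Cz_le_Nm _)))
    have h6 : L ≤ H := ((qs_normal hL.2 h5).resolve_left fun e => (hT.ne_bot_iff.2 h2) (eq_bot_iff.2 (hZ ▸ le_inf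
      inf_le_right ((le_inf inf_le_right (le_inf inf_le_right (hTH.trans inf_le_left))).trans e)))).trans inf_le_right
    have h7 : nclo L ⊤ ≤ H := nclo_le_iff'.2 fun g hg => by
      rw [← sylIn_pResidualOf_sup h.syl, pResidualOf_top, sup_comm] at hg
      obtain ⟨s, hs, k, hk, rfl⟩ := mem_sup_of_normal_right.1 hg
      rw [cj_mul, cj_eq_of_mem_normalizer (hML (hM hk))]
      exact (cj_mono s h6).trans (cj_eq_of_mem (mem_sup_right hs)).le
    exact h.eq_top hg ((hM.trans h7).trans (sup_le le_normalizer h.le_Nm_DG)) fun k hk =>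
      (cj_mono k le_sup_left).trans (cj_eq_of_mem_normalizer hk).le
  · have h4 : L ⊔ Cz(L) = ⊤ := h.eq_top hg le_top fun k _ => cj_le_iff.2 (sSup_le fun A hA a ha => by
      have h5 : (k * a * k⁻¹) ^ 2 = 1 := by rw [conj_pow, (h.el A hA).2 a ha]; simp
      obtain ⟨g, hg, h6⟩ := l2_inner h3 hS h5 (l2_mem_Nm h3 hL hZ hS h5)
      simpa [mem_cj_inv] using mul_mem (mem_sup_left hg) (mem_sup_right h6))
    have h5 : (Cz(L)).Normal := normal_iff_top_le_Nm.2 (h4.ge.trans (sup_le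
      (le_normalizer.trans (Nm_le_Nm_Cz L)) le_normalizer))
    have h6 : Cz(L) = ⊥ := by
      rcases hN _ h5 with e | e
      · exact absurd ((le_layer hL).trans (layer_le_pResidual.trans e)) (qs_not_le_centralizer hL.2)
      · exact eq_bot_iff.2 (hO' ▸ le_pPrimeCore h5 ((Nat.Prime.coprime_iff_not_dvd Nat.prime_two).2 e).symm)
    rw [h6, sup_bot_eq] at h4
    subst h4
    exact h.gen_l2 h3 (hS.of_equiv topEquiv) h1

theorem WC.gen {G : Type u} [Group G] [Finite G] {S : Subgroup G} {𝒜 : Set (Subgroup G)} (h : WC S 𝒜)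
    (hO : pCore 2 G = ⊥) (h3 : ¬ Involves (DihedralGroup 3) G) (hK : CK G)
    (hN : Nor G) (hg : nclo (sSup 𝒜) ⊤ = ⊤) : DG 𝒜 = ⊤ := by
  haveI : Fact (Nat.Prime 2) := ⟨Nat.prime_two⟩
  set O := pPrimeCore 2 G
  have hc := coprime_card_pPrimeCore 2 G
  have h1 : ⁅O, sSup 𝒜⁆ ≤ DG 𝒜 := (commutator_le_of_le_secCz (M := O ⊓ DG 𝒜) (sSup_le fun A hA => le_secCz
    (CfH7.le_normalizer_inf (le_Nm_normal _ _) (((le_sSup hA).trans le_sup_left).trans le_normalizer))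
    (le_inf (comm_le_left (le_Nm_normal _ _)) (odd_gen h3 (h.el A hA) hc (le_Nm_normal _ _)
      fun _ _ _ _ hd _ => mem_DG hA hd)))).trans inf_le_right
  have hJ := h.syl.pgrp.to_le (sSup_le h.le)
  have h2 : ∀ k ∈ DG 𝒜 ⊔ O, cj k (sSup 𝒜) ≤ DG 𝒜 := fun k hk => by
    obtain ⟨a, ha, o, ho, rfl⟩ := mem_sup_of_normal_right.1 hk
    obtain ⟨m, hm, c, hc, rfl⟩ := exists_commutator_mul_centralizer (le_Nm_normal (sSup 𝒜) O)
      (coprime_card_of_isPGroup' hJ hc).symm (Or.inl (isSolvable_of_isPGroup hJ)) ho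
    rw [cj_mul, cj_mul, cj_eq_of_mem_centralizer hc.2, ← cj_mul]
    exact (cj_mono _ le_sup_left).trans (cj_eq_of_mem (mul_mem ha (h1 hm))).le
  by_cases hKO : pResidual 2 G ≤ O
  · exact h.eq_top hg (hKO.trans le_sup_right) h2
  set φ := QuotientGroup.mk' O
  have hφ := QuotientGroup.mk'_surjective O
  have h4 := (h.map hφ).gen_simple ?_ (pPrimeCore_quotient_pPrimeCore 2 G) (fun e => h3 (Involves.of_quotient e))
    (hK.quot O) (hN.map hφ) (by rw [← map_sSup', ← map_top_of_surjective φ hφ, ← map_nclo, hg])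
  · refine h.eq_top hg (le_top.trans ?_) h2
    rw [← QuotientGroup.ker_mk' O, ← comap_map_eq, ← comap_top φ, ← h4]
    refine comap_mono (sup_le ?_ ((closure_le _).2 ?_))
    · rw [← map_sSup']; exact map_mono le_sup_left
    · rintro x ⟨_, ⟨A, hA, rfl⟩, A₁, s, r, hd⟩
      obtain ⟨A₂, s', x', h5, h6⟩ := hd.lift_odd hc (h.el A hA)
      exact zpowers_le.2 (mem_map_of_mem φ (mem_DG hA h5)) h6
  · rcases hN ((pCore 2 (G ⧸ O)).comap φ) inferInstance with e | e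
    · refine absurd ?_ hKO
      rw [← pResidualOf_pResidual, ← QuotientGroup.ker_mk' O, ← Subgroup.map_eq_bot_iff, map_pResidualOf]
      exact pResidualOf_eq_bot_of_isPGroup ((isPGroup_pCore 2 _).to_le (map_le_iff_le_comap.2 e))
    · exact eq_bot_of_not_dvd (isPGroup_pCore 2 _) le_rfl fun e2 =>
        e (e2.trans (card_dvd_of_surjective _ (φ.subgroupComap_surjective_of_surjective _ hφ)))

end CfH1
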