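import Cfsg.Agent.H1.EStep
import Cfsg.Agent.H1.Gen
import Cfsg.Agent.OD.Helper1x7b284bb58a

/-! Glauberman's factorization `G = C(Ω₁ Z Ĵ(S)) N(J(S))` for `S₄`-free groups. -/

set_option autoImplicit false
set_option linter.unusedSectionVars false

namespace CfH1

open Cfsg Subgroup CfH9 CfH7 CfH8
open scoped Pointwise commutatorElement

universe u

variable {G : Type*} [Group G] [Finite G]

theorem exists_fact {H S C : Subgroup G} (hS : SylIn 2 S H) (h : nclo (JJ 2 S) H ≤ C) {g : G} (hg : g ∈ H) :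
    ∃ c ∈ C, ∃ n ∈ Nm(JJ 2 S), g = c * n := by
  haveI : Fact (Nat.Prime 2) := ⟨Nat.prime_two⟩
  obtain ⟨c, hc, n, hn, e⟩ := (hS.inf_normal' (right_le_Nm_nclo _ _) (nclo_le_of_le ((J_le S).trans hS.le))).frattini
    (right_le_Nm_nclo (JJ 2 S) H hg)
  exact ⟨c, h hc, n, J_eq_of_J_le (le_inf (J_le S) (le_nclo _ H)) inf_le_left ▸ Nm_le_Nm_J _ hn, e⟩

theorem elemAb_nclo {V K : Subgroup G} (hV : IsElementaryAbelian 2 V) (h : ∀ k ∈ K, cj k V ≤ Cz(V)) :
    IsElementaryAbelian 2 (nclo V K) := by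
  refine elemAb_iSup (fun k => (elemAb_map hV _).2) fun k l => ?_
  have := cj_mono (l : G) (h _ (mul_mem (inv_mem l.2) k.2))
  rwa [← cj_mul, mul_inv_cancel_left, cj_centralizer] at this

theorem not_involves_quot (hc : Cz(pCore 2 G) ≤ pCore 2 G) (h4 : ¬ Involves (Equiv.Perm (Fin 4)) G) :
    ¬ Involves (DihedralGroup 3) (G ⧸ pCore 2 G) := fun h => by
  refine h4 (involves_S4_of_automizer (isPGroup_pCore 2 G) (involves_S3_iff.2 (Involves.of_surjective h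
    (QuotientGroup.lift _ ((QuotientGroup.mk' _).comp (Nm(pCore 2 G)).subtype) fun x hx => ?_) fun x => ?_)))
  · exact (QuotientGroup.eq_one_iff _).2 (hc hx)
  · obtain ⟨g, rfl⟩ := QuotientGroup.mk_surjective x
    exact ⟨QuotientGroup.mk ⟨g, mem_Nm_of_normal _ _⟩, rfl⟩

theorem wc_maxEl {S : Subgroup G} (hS : SylIn 2 S ⊤) : WC S {A | MaxEl 2 A S} :=
  ⟨hS, fun _ h => h.le, fun _ h => h.el, fun _ h g hg => h.of_card_le hg (elemAb_map h.el _) (card_cj g _).ge⟩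

theorem sSup_maxEl (S : Subgroup G) : sSup {A | MaxEl 2 A S} = JJ 2 S :=
  le_antisymm (sSup_le fun _ h => h.le_J) (J_le_iff.2 fun _ h => le_sSup h)

theorem fact_core {G : Type u} [Group G] [Finite G] (hc : Cz(pCore 2 G) ≤ pCore 2 G)
    (h4 : ¬ Involves (Equiv.Perm (Fin 4)) G) (hK : CK G) {S : Subgroup G} (hS : SylIn 2 S ⊤)
    (h1 : nclo (JJ 2 S) ⊤ ⊔ pCore 2 G = ⊤) (hN : Nor (G ⧸ pCore 2 G)) : nclo (JJ 2 S) ⊤ ≤ Cz(OZ 2 (JH S)) := by
  haveI : Fact (Nat.Prime 2) := ⟨Nat.prime_two⟩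
  have h3 := not_involves_quot hc h4
  have hO := pCore_quotient_pCore 2 G
  have hQ := isPGroup_pCore 2 G
  set Q := pCore 2 G
  set K := pResidual 2 G
  set φ := QuotientGroup.mk' Q
  have hφ := QuotientGroup.mk'_surjective Q
  have hQS : Q ≤ S := hS.le_of_le_Nm hQ le_top (le_Nm_normal _ _)
  have hKS : K ⊔ S = ⊤ := by rw [← sylIn_pResidualOf_sup hS, pResidualOf_top]
  have hQ0 : IsPGroup 2 (K ⊓ Q : Subgroup G) := hQ.to_inf_right
  have hQK : ⁅Q, K⁆ ≤ K ⊓ Q := le_inf (comm_le_right (le_Nm_normal _ _)) (comm_le_left (le_Nm_normal _ _))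
  have lift : ∀ {A A₁ s x r}, IsElementaryAbelian 2 A → Dat ⊥ (A.map φ) A₁ s x r →
      ∃ A₂ s' x', Dat (K ⊓ Q) A A₂ s' x' r ∧ x' ∈ K ∧ x ∈ zpowers (φ x') := fun hA h => by
    obtain ⟨s', x', h5, h6⟩ := h.lift hφ hA
    rw [MonoidHom.comap_bot, QuotientGroup.ker_mk'] at h5
    exact ⟨_, s', x', h5.inf_pResidual, mem_pResidual h5.order_coprime, h6⟩
  have gen : ∀ H, JJ 2 S ≤ H → (∀ A A₁ s x r, MaxEl 2 A S → Dat (K ⊓ Q) A A₁ s x r → x ∈ K → x ∈ H) →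
      H ⊔ Q = ⊤ := fun H hJ hH => by
    have := ((wc_maxEl hS).map hφ).gen hO h3 (hK.quot Q) hN (by
      have := congrArg (map φ) h1
      rwa [Subgroup.map_sup, QuotientGroup.map_mk'_self, sup_bot_eq, map_nclo, map_top_of_surjective φ hφ,
        ← sSup_maxEl, map_sSup'] at this)
    rw [eq_top_iff, ← QuotientGroup.ker_mk' Q, ← comap_map_eq, ← comap_top φ, ← this]
    refine comap_mono (sup_le ?_ ((closure_le _).2 ?_))
    · rw [← map_sSup', sSup_maxEl]; exact map_mono hJ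
    · rintro x ⟨_, ⟨A, hA, rfl⟩, A₁, s, r, hd⟩
      obtain ⟨A₂, s', x', h5, h6, h7⟩ := lift hA.el hd
      exact zpowers_le.2 (mem_map_of_mem φ (hH _ _ _ _ _ hA h5 h6)) h7
  have hTS : JJ 2 S ⊔ K ⊓ Q ≤ S := sup_le (J_le S) (inf_le_right.trans hQS)
  have hE : EG (JJ 2 S ⊔ K ⊓ Q) := fun V hVT hn hV hP => by
    have hJ := J_le_Cz_of_pp hV (hVT.trans hTS) fun R hR => hP R (hR.trans le_sup_left)
    have hVQ : V ≤ Q := by
      by_contra e
      obtain ⟨A₁, s, x, r, h⟩ := exists_dat hO h3 (hK.quot Q) (elemAb_map hV φ) (by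
        rwa [Ne, Subgroup.map_eq_bot_iff, QuotientGroup.ker_mk'])
      obtain ⟨A₂, s', x', h5, h6, -⟩ := lift hV h
      exact h5.not_mem (mi h6 (hc (mem_Cz_of_coprime hQ (mem_Nm_of_normal _ _) h5.order_coprime
        ((commutator_mono le_rfl (zpowers_le.2 h6)).trans hQK) (h5.mem_Cz_of_pp hQ0 le_sup_right hVT hn hV hP))))
    have hU : nclo V K ≤ JJ 2 S ⊔ K ⊓ Q := (nclo_eq_sup V K).le.trans
      (sup_le hVT ((commutator_mono hVQ le_rfl).trans (hQK.trans le_sup_right)))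
    have hUe := elemAb_nclo hV fun k hk => pp_symm hV hP ((cj_le_nclo hk).trans hU) ((cj_le_nclo (inv_mem hk)).trans hU)
    have h5 := gen _ hJ fun A A₁ s x r hA h hx => h.mem_Cz_of_pp' hQ0 hA le_sup_right (hA.le_J.trans le_sup_left)
      (hA.le_J.trans hJ) hn hP (elemAb_of_le (nclo_mono le_rfl (zpowers_le.2 hx)) hUe)
      ((nclo_mono le_rfl (zpowers_le.2 hx)).trans (hU.trans hTS))
    have h6 : K ≤ pResidualOf 2 Cz(V) ⊔ Q := by
      refine le_trans ?_ (pResidualOf_sup_le (le_Nm_normal _ _))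
      rw [h5, pResidualOf_top]
    have h7 : K ≤ Cz(V) ⊔ K ⊓ Q := by
      refine (le_inf h6 le_rfl).trans ?_
      rw [CfH9.inf_sup_dedekind (Or.inl (le_Nm_normal _ _)) (pResidualOf_le_pResidual _), inf_comm]
      exact sup_le_sup_right (pResidualOf_le _) _
    have h8 := pResidualOf_le_of_le_sup hQ0 (le_sup_right.trans (hn.trans (Nm_le_Nm_Cz V))) h7
    rw [pResidualOf_pResidual] at h8
    exact sup_le hJ (inf_le_left.trans h8)
  set W := OZ 2 (JH S)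
  have hW : W ≤ Cz(JJ 2 S ⊔ K ⊓ Q) := (OZ_le_Cz _).trans (Cz_anti (le_JH hTS hE le_sup_left))
  have hW0 : W ≤ Cz(K ⊓ Q) := hW.trans (Cz_anti le_sup_right)
  have hC0 : Cz(K ⊓ Q) ≤ Q := by
    refine le_pCore inferInstance (pResidualOf_eq_bot_iff.1 ?_)
    rw [← pResidualOf_pResidualOf]
    exact pResidualOf_eq_bot_of_isPGroup (hQ.to_le ((pResidualOf_le_Cz_of_le' hQ (le_Nm_normal _ _)
      ((commutator_mono le_rfl (pResidualOf_le_pResidual _)).trans hQK) (pResidualOf_le _)).trans hc))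
  set U := nclo W K
  have hU0 : U ≤ Cz(K ⊓ Q) := nclo_le (le_Nm_normal _ _) hW0
  have hU : U ≤ Cz(W) := (nclo_eq_sup W K).le.trans (sup_le (elemAb_le_Cz (elemAb_OZ _))
    ((commutator_mono (hW0.trans hC0) le_rfl).trans (hQK.trans (le_Cz_comm hW0))))
  have hUe := elemAb_nclo (elemAb_OZ (JH S)) fun k hk => (cj_le_nclo hk).trans hU
  have hSW : S ≤ Nm(W) := le_normalizer.trans ((Nm_le_Nm_JH S).trans (Nm_le_Nm_OZ _))
  haveI : U.Normal := normal_iff_top_le_Nm.2 (hKS.ge.trans (sup_le (right_le_Nm_nclo _ _)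
    (le_Nm_nclo hSW (le_Nm_normal _ _))))
  have h5 := gen (Cz(U) ⊔ JJ 2 S) le_sup_right fun A A₁ s x r hA h _ => mem_sup_left (h.ff hA hUe
    (hU0.trans (hC0.trans hQS)) (le_Nm_normal _ _) (mem_Nm_of_normal _ _) fun a ha => le_Cz_comm hU0 (h.cent a ha))
  have h6 : K ≤ Cz(U) := pResidual_le_of_sup_eq_top hS.pgrp
    (top_le_iff.1 (h5.ge.trans (sup_le (sup_le_sup_left (J_le S) _) (hQS.trans le_sup_right))))
  refine nclo_le_iff'.2 fun g hg => ?_
  obtain ⟨k, hk, s, hs, rfl⟩ := mem_sup_of_normal_left.1 (hKS.ge hg)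
  rw [cj_mul, cj_eq_of_mem_normalizer (le_Nm_J S hs)]
  exact (cj_mono k (le_Cz_comm (hW.trans (Cz_anti le_sup_left)))).trans
    (cj_eq_of_mem (Cz_anti (le_nclo W K) (h6 hk))).le

theorem fact_c (G : Type u) [Group G] [Finite G] : Cz(pCore 2 G) ≤ pCore 2 G → ¬ Involves (Equiv.Perm (Fin 4)) G →
    CK G → ∀ S : Subgroup G, SylIn 2 S ⊤ → nclo (JJ 2 S) ⊤ ≤ Cz(OZ 2 (JH S)) := by
  haveI : Fact (Nat.Prime 2) := ⟨Nat.prime_two⟩
  refine group_induction (P := fun G _ _ => Cz(pCore 2 G) ≤ pCore 2 G → ¬ Involves (Equiv.Perm (Fin 4)) G →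
    CK G → ∀ S : Subgroup G, SylIn 2 S ⊤ → nclo (JJ 2 S) ⊤ ≤ Cz(OZ 2 (JH S))) (fun G _ _ ih hc h4 hK S hS => ?_) G
  have hQ := isPGroup_pCore 2 G
  have hsub : ∀ H T : Subgroup G, H ≠ ⊤ → pCore 2 G ≤ H → CK H → SylIn 2 T H →
      nclo (JJ 2 T) H ≤ Cz(OZ 2 (JH T)) := fun H T h1 h2 h3 hT => by
    have := (map_mono (f := H.subtype) (ih H (card_lt_of_ne_top h1) (chP_of_normal h2 (le_Nm_normal _ _) hQ
      (inf_le_right.trans hc)) (fun e => h4 (Involves.of_subgroup e)) h3 _ hT.subgroupOf_top)).trans (map_Cz_le _ _)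
    rwa [map_nclo, map_J_of_injective _ H.subtype_injective, map_OZ_of_injective H.subtype_injective,
      map_JH H.subtype_injective, map_subgroupOf_eq_of_le hT.le, map_subtype_top] at this
  set Q := pCore 2 G
  have hQS : Q ≤ S := hS.le_of_le_Nm hQ le_top (le_Nm_normal _ _)
  by_cases h1 : nclo (JJ 2 S) ⊤ ⊔ Q = ⊤
  swap
  · have hT := hS.inf_normal' (le_Nm_normal _ (nclo (JJ 2 S) ⊤ ⊔ Q)) le_top
    have h2 : JJ 2 S ≤ S ⊓ (nclo (JJ 2 S) ⊤ ⊔ Q) := le_inf (J_le S) (le_sup_of_le_left (le_nclo _ _))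
    have h3 := (hsub _ _ h1 le_sup_right (hK.sub (Normal.isSubnormal inferInstance)) hT).trans
      (Cz_anti (OZ_JH_mono h2 inf_le_left))
    refine nclo_le_iff'.2 fun g _ => ?_
    obtain ⟨c, hc, n, hn, rfl⟩ := hT.frattini (mem_Nm_of_normal g _)
    rw [← J_eq_of_J_le h2 inf_le_left, cj_mul, cj_eq_of_mem_normalizer (Nm_le_Nm_J _ hn)]
    exact (cj_le_nclo hc).trans h3
  by_cases hN : Nor (G ⧸ Q)
  · exact fact_core hc h4 hK hS h1 hN
  simp only [Nor, not_forall, not_or, not_not] at hN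
  obtain ⟨M', hM', h2, h3⟩ := hN
  set φ := QuotientGroup.mk' Q
  have hφ := QuotientGroup.mk'_surjective Q
  set M := M'.comap φ
  have hT := hS.inf_normal' (le_Nm_normal _ M) le_top
  have hQM : Q ≤ M := (QuotientGroup.ker_mk' Q).ge.trans (ker_le_comap φ M')
  have hST : S ≤ Nm(S ⊓ M) := CfH7.le_normalizer_inf le_normalizer (le_Nm_normal _ _)
  have h5 := hsub Nm(S ⊓ M) S (fun e => ((hS.map_surj hφ).inf_normal' (le_Nm_normal _ M') le_top).ne_bot_iff.2 h3 (by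
    rw [← map_inf_comap', Subgroup.map_eq_bot_iff, QuotientGroup.ker_mk']
    exact le_pCore (normal_iff_top_le_Nm.2 e.ge) hT.pgrp)) (hQS.trans hST) (hK.Nm hT) (hS.mono hST le_top)
  have h6 := hsub (M ⊔ S) S (fun e => h2 (by
    rw [← map_pResidual_of_surjective hφ]; exact map_le_iff_le_comap.2 (pResidual_le_of_sup_eq_top hS.pgrp e)))
    (hQS.trans le_sup_right) (hK.sup M hS.pgrp) (hS.mono le_sup_right le_top)
  refine nclo_le_iff'.2 fun g _ => ?_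
  obtain ⟨m, hm, h, hh, rfl⟩ := hT.frattini (mem_Nm_of_normal g _)
  obtain ⟨c, hc, n, hn, rfl⟩ := exists_fact (hS.mono hST le_top) h5 hh
  rw [← mul_assoc, cj_mul, cj_eq_of_mem_normalizer hn, show m * c = c * (c⁻¹ * m * c) by group, cj_mul]
  exact (cj_mono c ((cj_le_nclo (mem_sup_left (conj_mem_of_mem_normalizer' (mem_Nm_of_normal c M) hm))).trans h6)).trans
    (cj_eq_of_mem hc).le

end CfH1
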