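import Cfsg.Agent.OD.Pre
import Cfsg.Agent.H1.HNY
import Cfsg.Agent.H1.HNA
import Cfsg.Agent.H1.HNX
import Cfsg.Agent.H1.HNC
/-! Named elements of `2.HS.2`, the sign, three centralisers. -/
set_option autoImplicit false
set_option maxRecDepth 100000
open CfH6 CfL CfH9 MulAction Subgroup
namespace CfH1

noncomputable def Tm.sub (ts : List Tm) (w : List ℕ) : Tm := List.rec Tm.one (fun x _ ih => Tm.mul (lget ts Tm.one x) ih) w

theorem Tm.sub_mem {G : Type*} [Group G] {ev : ℕ → G} {K : Subgroup G} {ts : List Tm} (h : ∀ t ∈ ts, t.val ev ∈ K)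
    (w : List ℕ) : (Tm.sub ts w).val ev ∈ K := by
  induction w with
  | nil => exact K.one_mem
  | cons x w ih =>
    refine K.mul_mem ?_ ih
    rcases lget_mem ts Tm.one x with e | e
    · change (lget ts Tm.one x).val ev ∈ K
      rw [e]; exact K.one_mem
    · exact h _ e

noncomputable def Tm.pw (t : Tm) (n : ℕ) : Tm := Nat.rec Tm.one (fun _ ih => Tm.mul ih t) n
noncomputable instance : Pow Tm ℕ := ⟨Tm.pw⟩

theorem Tm.val_pow {G : Type*} [Group G] (ev : ℕ → G) (t : Tm) (n : ℕ) : (t ^ n).val ev = t.val ev ^ n := by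
  induction n with
  | zero => rw [pow_zero]; rfl
  | succ n ih => rw [pow_succ, ← ih]; rfl

theorem Tm.val_mul {G : Type*} [Group G] (ev : ℕ → G) (s t : Tm) : (s * t).val ev = s.val ev * t.val ev := rfl
theorem Tm.val_inv {G : Type*} [Group G] (ev : ℕ → G) (s : Tm) : (s⁻¹).val ev = (s.val ev)⁻¹ := rfl
theorem Tm.val_one {G : Type*} [Group G] (ev : ℕ → G) : (1 : Tm).val ev = 1 := rfl
theorem Tm.val_l {G : Type*} [Group G] (ev : ℕ → G) (x : ℕ) : (Tm.l x).val ev = ev x := rfl

namespace HN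
abbrev tf : Tm := Tm.l 0
noncomputable abbrev bf : B := P.ev 0
abbrev tx : Tm := Tm.l 6
noncomputable abbrev bx : B := P.ev 6
abbrev ty : Tm := Tm.l 8
noncomputable abbrev by' : B := P.ev 8
abbrev tz : Tm := Tm.l 10
noncomputable abbrev bz : B := P.ev 10
abbrev tu : Tm := Tm.l 12
noncomputable abbrev bu : B := P.ev 12
abbrev tv : Tm := Tm.l 14
noncomputable abbrev bv : B := P.ev 14
abbrev tp : Tm := Tm.l 16
noncomputable abbrev bp : B := P.ev 16
abbrev tq : Tm := Tm.l 18
noncomputable abbrev bq : B := P.ev 18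
abbrev ti : Tm := Tm.l 20
noncomputable abbrev bi : B := P.ev 20
abbrev tg : Tm := Tm.l 22
noncomputable abbrev bg : B := P.ev 22
abbrev ta : Tm := Tm.l 24
noncomputable abbrev ba : B := P.ev 24
abbrev tb : Tm := Tm.l 26
noncomputable abbrev bb : B := P.ev 26
abbrev tj : Tm := Tm.l 28
noncomputable abbrev bj : B := P.ev 28
abbrev tt : Tm := Tm.l 30
noncomputable abbrev bt : B := P.ev 30
abbrev te : Tm := Tm.l 32
noncomputable abbrev be : B := P.ev 32
abbrev tn : Tm := Tm.l 34
noncomputable abbrev bn : B := P.ev 34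
abbrev tm : Tm := Tm.l 36
noncomputable abbrev bm : B := P.ev 36
noncomputable abbrev tW (k : ℕ) : Tm := Tm.w 6 40 k
noncomputable abbrev bW (k : ℕ) : B := (tW k).val P.ev

theorem cardB : Nat.card B = 177408000 := HSD.card
theorem ex : bx = HSB.el 0 := mul_one _
theorem ey : by' = HSB.el 2 := mul_one _
theorem ez : bz = HSB.el 4 := mul_one _
theorem eX : bx⁻¹ = HSB.el 1 := by rw [ex]; exact (HSB.hinv 0 (by decide)).symm
theorem eY : by'⁻¹ = HSB.el 3 := by rw [ey]; exact (HSB.hinv 2 (by decide)).symm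

theorem top_of {K : Subgroup B} (h1 : bx ∈ K) (h2 : by' ∈ K) (h3 : bz ∈ K) : K = ⊤ := by
  rw [eq_top_iff, ← HSB.htop]
  refine gensub_le fun x hx => ?_
  interval_cases x
  exacts [ex ▸ h1, eX ▸ K.inv_mem h1, ey ▸ h2, eY ▸ K.inv_mem h2, ez ▸ h3]

theorem xx : bx * bx = bt := P.E (tx * tx) tt
theorem tt1 : bt * bt = 1 := P.E (tt * tt) 1
theorem t_ne : bt ≠ 1 := P.N tt 1
theorem t_comm (g : B) : bt * g = g * bt := by
  have : Cx(bt) = ⊤ := top_of (mem_Cx.2 (P.E (tx * tt) (tt * tx))) (mem_Cx.2 (P.E (ty * tt) (tt * ty)))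
    (mem_Cx.2 (P.E (tz * tt) (tt * tz)))
  exact (mem_Cx.1 (this ▸ mem_top g)).symm

theorem ex_sgn : ∃ s : B →* ℤˣ, ∀ x < 5, s (HSB.el x) = if x = 4 then -1 else 1 :=
  HSB.hhom _ (by decide) (by decide)
noncomputable def sgn : B →* ℤˣ := ex_sgn.choose
theorem sgn_x : sgn bx = 1 := by rw [ex]; exact ex_sgn.choose_spec 0 (by decide)
theorem sgn_y : sgn by' = 1 := by rw [ey]; exact ex_sgn.choose_spec 2 (by decide)
theorem sgn_z : sgn bz = -1 := by rw [ez]; exact ex_sgn.choose_spec 4 (by decide)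
noncomputable abbrev K0 : Subgroup B := sgn.ker

noncomputable def hb : ℕ := nat_lit 0x33e0f3fe4241c91780028081fe3cf26800de48000294077f000e82a80568ff34fff33cce84847ede46000c03d87bc7cf7f9007b91bc7bea8ff2b3f93c90d9be724001b5e47efdfcf7f9007be46f1fbea8ff2b3f924c90d9bf539080036df23fbfdfd79f437cfefcaee3f260378c1b7f9fdcbfd79fa1be7fbf2bb8fe49006f06036ff3af7d4e5440e19c49106c21e20a50e5440e19c49106c21e20a5088a5036c00c45281b600460eaa3075577ddffe8

theorem half (g : B) (i : P.r.Pt) : bitN hb (g⁻¹ • i).1 = xor (bitN hb i.1) (decide (sgn g = -1)) := by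
  let K : Subgroup B := subOf (fun g => ∀ i : P.r.Pt, bitN hb (g⁻¹ • i).1 = xor (bitN hb i.1) (decide (sgn g = -1)))
    (fun i => by simp) fun a b ha hb i => by
      rw [mul_inv_rev, mul_smul, hb, ha, map_mul]
      rcases Int.units_eq_one_or (sgn a) with h | h <;> rcases Int.units_eq_one_or (sgn b) with k | k <;> simp [h, k]
  have key : ∀ (x : ℕ) (s : Bool), (Nat.blt x P.T.nc && allN (fun i => bitN hb (P.T.R x i) == xor (bitN hb i) s) P.T.N) = true →
      decide (sgn (P.ev x) = -1) = s → P.ev x ∈ K := fun x s h e i => by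
    rw [Bool.and_eq_true, allN_iff] at h
    rw [← P.stepF (blt1 h.1), e]
    exact beq_iff_eq.1 (h.2 i.1 i.2)
  have : K = ⊤ := top_of (key 6 false (by decide +kernel) (by rw [sgn_x]; decide))
    (key 8 false (by decide +kernel) (by rw [sgn_y]; decide)) (key 10 true (by decide +kernel) (by rw [sgn_z]; decide))
  exact (this ▸ mem_top g : g ∈ K) i

noncomputable def inn (t : Tm) : Bool := t.ok P.T.nc && !bitN hb (t.app P.T false 0)
noncomputable def out (t : Tm) : Bool := t.ok P.T.nc && bitN hb (t.app P.T false 0)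

theorem bit_eq {t : Tm} (h : t.ok P.T.nc = true) : bitN hb (t.app P.T false 0) = decide (sgn (t.val P.ev) = -1) := by
  have := half (t.val P.ev) (P.r.pt 0)
  rw [← (P.app_eq t h _).1, show bitN hb (P.r.pt 0).1 = false by decide +kernel, Bool.false_xor] at this
  exact this

theorem of_inn {t : Tm} (h : inn t = true) : t.val P.ev ∈ K0 := by
  rw [inn, Bool.and_eq_true, bit_eq h.1] at h
  exact (Int.units_eq_one_or _).resolve_right (by simpa using h.2)

theorem of_out {t : Tm} (h : out t = true) : t.val P.ev ∉ K0 := by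
  rw [out, Bool.and_eq_true, bit_eq h.1] at h
  intro e
  have := of_decide_eq_true h.2
  rw [show sgn (t.val P.ev) = 1 from e] at this
  exact absurd this (by decide)

theorem I (t : Tm) (h : inn t = true := by decide +kernel) : t.val P.ev ∈ K0 := of_inn h
theorem O (t : Tm) (h : out t = true := by decide +kernel) : t.val P.ev ∉ K0 := of_out h

theorem mul_out {a b : B} (ha : a ∉ K0) (hb : b ∉ K0) : a * b ∈ K0 := by
  have h1 := (Int.units_eq_one_or (sgn a)).resolve_left ha
  have h2 := (Int.units_eq_one_or (sgn b)).resolve_left hb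
  rw [MonoidHom.mem_ker, map_mul, h1, h2]; decide

theorem card_K0 : Nat.card K0 = 88704000 := by
  have h1 : sgn.range = ⊤ := eq_top_iff.2 fun a _ =>
    (Int.units_eq_one_or a).elim (fun e => ⟨1, by rw [e, map_one]⟩) fun e => ⟨bz, by rw [e, sgn_z]⟩
  have h2 := K0.card_mul_index
  rw [index_ker, h1, card_top, cardB, Nat.card_eq_fintype_card (α := ℤˣ), Fintype.card_units_int] at h2
  omega

theorem card_stab : Nat.card (stabilizer B (P.r.pt 0)) = 126000 := by
  have := P.r.trans [[6], [8], [10]] (P.r.pt 0) 2 [(nat_lit 200, nat_lit 0x41900ca06083046042f917c0be85b82dd16a0b585a22d01690b245922b415b0ac45602b21548aa85422a015002e80ba28213e89f04fa22a13a09d44e4088044885840a20410287c80ea23011908b445822e11288983ea1f40fb087043a20d10c08680f207803d08444222020fc87e03f41ed0f607b43d407003907543a81d50e907343981cd053026413218c0c7062431018a0c086082a21500a905e02f21690ba05d80a205002905b42da15e0aa85502ac1490a4052428c04802504c426013109704a425012907d03b41dc10508204141e210008103f41f80fe07a83d41d40e507283681aa0d406a80f81620b005882741580ae05482a01540a10508258122091043020410008103281b00dc06903401a80c206202c81600b2044023010408004201c80e806203001900a4050029013007403801d00c80580200110060038008006000000),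 (nat_lit 200, nat_lit 0xd1268533d19c4ce06713109834c026603310af8cb265a3289940ca41b10d806c435a1a60ad1904c8064131818c85f82fe31498a4c086062fe97f8bda5ec2f69774bd05ea0d00688bc25d22e49720b945b52da16d4b4a5b02d90df46f837e2d496a4b444d926c1658b2059221681541c456d2b615b4ad45652b215989624b0258956491c5512a8154427211923a11d48b245422a90f885242a266933099a4b9264132898a4c426312f497a4ae252929094a43621890c086241d248124891248a23091808c448024091f423811e08a84548e446923411a889844d222111888244022110e4872424213108484042220c9068822410208043806a3f21f68fb07da1861f20f947c40dc06e85c82c21600b0853809c35d1ae0d746923581ad0d546a83561a68d3467c33519a0cd458c2c11600b0455a3201910c646342f11780bc86223101888c3), (nat_lit 200, nat_lit 0x520a8e6470a3811c49d94ed22a51508a94930a3451828e10511e08f286a42aa1510ac24c1272085040822242121524092248ea47123c916476a3b11dc90d486243521090a11a88d920290147aa2191ba8dc46ea3511ac8d14682349194811408204501c4f127813c4ff43691b522d51688b5458a29913a89c44ea1750a284544a2258c3a61e446a23111c25512a09544a224a43ea1f10fa86c43711b08dc865432a12109484142120e5070839414a0d106c24412320b503c81540a20590028004009fc4ff87fe27693b09dc7f53fa9fb86ca3662aa155854a07d0471f34f987cd3e51f14f887c61a08d006827bd18f1660b321dd0628c1060a2e91720b9459c2b915c9be0df46f537a1bd8ddc6c53621b18dca6e43729b80dc41910c91b64db26cd3251ad4d686b53561ab8d526a83551a88b8a5c42e297087023801c096b89aa4d63449a2),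 (nat_lit 200, nat_lit 0x47ea6dd35f1ae4d74d2969519f4cf867d1ff0c2061262e3089840c201aa2ea9750bac31561c30e186cc3061930a4eb2bdc5eeb061834c1560b303581c76d3b61db580c0b55ff2fe57f0bf95a01d257a0bd25e49df0efabc05e08ef077cbb95291cb5482a493949c89450a2a24a1255730b9a4d8a6c13648ba5c8ae41724b815c02e056e0b7233a19d96d4ae55722b9873839e55aaad156c7603b0a794b7a8c5224ad28caab2d1d50cb465c3a11d10bd05ec2e0170acc16646443232ca5652b0958298f0c7c63531aabe55e4ac15602b0557aab2554aaa15527803c12a55528a96546aa394faa7c53f0e5072aa881c90e24714a6d53629b14bc73652aa955488a4638c1c6947aa3e3889c40e22a355189c90e4c71d38ea89943aa1c50f1c54e2871624c1264fd27a83d519a4cd280a06683383c21e14fd27d53e89f64f6a7b13da9ea1428a1), (nat_lit 200, nat_lit 0x4b005812001005f48fa673839c5f8d031818bc8940aa0450304d9e22f10788a69134aee529a14d60447913c81e45d348ac4571574a2a8754d537f5bf8dfd6e693f92cad9544c9865e80f4079f3ce1e74f317763bb5e50f2a792bc99e3af1e4c6a63131af16084bc39e12f08784b9812daee07713b6533899d7683b44a5852e764b6392a2d894a6a518652ea87549e60f34d2e750ba81d44e917483a45d00e824502289cf4e097043828a1850e6f4b7a1bd269d570b9a912449d28911908cc450228b941ca48804413925c52e2543c21e90e287170cb849beadf46fab7c5bccddd6ee37753409a26e8b741ba4dc96e536e5b70dba2821410a044f927d36a5b50da86cd2569b22d916c2361927893e6bf24d52689356bcb5d529094a4a0a505ad2d6249ca4e1274324192a71138a5f52cf048424413d09eb509a7ad3c69f34d5a68d356990fd),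 (nat_lit 200, nat_lit 0x5cad3e59f2cf74a82e4171b38b5c58e2d9eacf0a7713aa7df4e8674053150a285a7313999c8bfea7113889c0cdd52d295d4aa25526f33707cf3e566c51e48f33095ed2e5880cab69540aa11dc0ee594cb596634ce6672c116a43529802c006008f166629b84dcae28d0068131c9e25592a911c71d054b266d93b2b364d92728dac9a9a88d458ef2ab64ab25d926b431a183b654eaa7a48b24691ea99a474a7a8c8c6463dcc4962533c59e01be3ba9dd611d05c82f32058dd1f08f8c094a7853e77e3bf8a8a54575747a23d51d88ecc7223931c55be2df96eb1c13ec9996332b4d3b30eb4c4b17959eacda2931498a08f407a2b2158b2c35618b0d898c40a1f10ea65f43861c03c16ac356a1a30d0868c3259f50c086042e615274539c9cc0e630ac8574296148c9e64ac21470d06883531e58c2b3929414a9a32d1868ca615404b615b02d8), (nat_lit 200, nat_lit 0x265d5c4a54c0097435f6833388264b542ac73f75a0ad019a33acaa0b506a5b321a2430094eb5486a454caa5ece762754adaa531f988a9ca62156a2b555ad902d03a24d129894c116a6b5399d8d04679511488aa735430771970d51a4825858f04789632b1aadcd6e589d2ca94e30261ab09e946ca3251ac51a96cac640120277c26b937cf867a43d24f5cf4e6a635316bd588ac4c6899b0cd934d55e2af31888c4c6097e07968a742661341c93f0c92a2e30bdaa8d5361e35298c326413229899904c86214fd87ed40f207a7b03d8b579410a09460ca96a2b012a413d55ea82651e68f565592ae71cb8e0a729d29e24f16728ad5951380693149ea16d2593fb43e6f0d2269234858064030a4cdd96ed4afa572da2a3f36da8334467a8bd404c29959b347523acc217baae78fba7dea20510a87143995a4ad650ae8c7473a164fb421a04b97),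 (nat_lit 7, nat_lit 0x4af5ab2c01a63b31e7c1456)] (by decide +kernel)
  have h := (stabilizer B (P.r.pt 0)).card_mul_index
  rw [P.r.index_stab, cardB] at h
  change _ * 1408 = _ at h
  omega

abbrev GY := SE TYe
abbrev GA := SE TAe
abbrev GX := SE TXe
noncomputable abbrev ιY : GY →* B := SE.ι TYe
noncomputable abbrev ιA : GA →* B := SE.ι TAe
noncomputable abbrev ιX : GX →* B := SE.ι TXe
noncomputable abbrev kY (n : ℕ) : GY := SE.mk TYe n
noncomputable abbrev kA (n : ℕ) : GA := SE.mk TAe n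
noncomputable abbrev kX (n : ℕ) : GX := SE.mk TXe n
noncomputable abbrev mY (a : GY) : Tm := SE.tm 0 a
noncomputable abbrev mA (a : GA) : Tm := SE.tm 16 a
noncomputable abbrev mX (a : GX) : Tm := SE.tm 24 a

theorem range_le {T : Tab} {o : ℕ} (g : Emb T fun x => P.ev (o + x)) (s : Tm)
    (h : ((List.range T.nc).all fun x => P.eq (Tm.l (o + x) * s) (s * Tm.l (o + x))) = true) :
    (SE.ι g).range ≤ Cx(s.val P.ev) := by
  rw [SE.ι_range]
  exact gensub_le fun x hx => mem_Cx.2 (P.of_eq (List.all_eq_true.1 h x (List.mem_range.2 hx)))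

theorem rangeY : ιY.range = Cx(bu) := by
  refine eq_of_le_of_card_ge (range_le TYe tu (by decide +kernel)) ?_
  have : 5775 * Nat.card Cx(bu) ≤ Nat.card B := clsu
  rw [cardB] at this
  rw [SE.card_range, show TY.N = 30720 from rfl]
  omega

theorem card_Cu : Nat.card Cx(bu) = 30720 := by rw [← rangeY, SE.card_range]; rfl

theorem inY {g : B} (h : g * bu = bu * g) : ∃ a : GY, ιY a = g := (rangeY.ge (mem_Cx.2 h) : g ∈ ιY.range)

theorem toY {g : B} {n : ℕ} (h : g ^ 2 ^ n = 1) : ∃ (a : GY) (k : B), ιY a = k * g * k⁻¹ := by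
  have hp : IsPGroup 2 (zpowers g) := by
    obtain ⟨m, -, e⟩ := (Nat.dvd_prime_pow Nat.prime_two).1 (orderOf_dvd_of_pow_eq_one h)
    exact IsPGroup.of_card (by rw [Nat.card_zpowers, e])
  obtain ⟨S, hS⟩ := hp.exists_le_sylow
  obtain ⟨Q⟩ : Nonempty (Sylow 2 Cx(bu)) := inferInstance
  have hc : Nat.card (Q.1.map Cx(bu).subtype) = 2 ^ (Nat.card B).factorization 2 := by
    rw [card_map_of_injective (subtype_injective _), Q.card_eq_multiplicity, card_Cu, cardB]
    decide +kernel
  obtain ⟨k, hk⟩ := exists_smul_eq B S (Sylow.ofCard _ hc)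
  have : k * g * k⁻¹ ∈ (Sylow.ofCard _ hc : Sylow 2 B).1 := by
    rw [← hk, Sylow.coe_subgroup_smul, Subgroup.mem_pointwise_smul_iff_inv_smul_mem]
    simpa [mul_assoc] using hS (mem_zpowers g)
  obtain ⟨a, ha⟩ := (rangeY.ge (map_subtype_le _ this) : _ ∈ ιY.range)
  exact ⟨a, k, ha⟩

end HN
end CfH1
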