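import Cfsg.Agent.OD.Pre
import Cfsg.Agent.H1.HNF
/-! Facts read off the tables of orders 960, 20160 and 30720. -/
set_option autoImplicit false
set_option maxRecDepth 100000
set_option Elab.async false
set_option linter.all false
open CfH6 CfL
namespace CfH1.HN
noncomputable abbrev xw : GX := kX 157
noncomputable abbrev xs : GX := kX 674
noncomputable abbrev xr : GX := kX 657
noncomputable abbrev xu : GX := kX 38
noncomputable abbrev xd : GX := kX 337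
theorem ixw : ιX xw = ιY yw := P.E (mX xw) (mY yw)
theorem ixs : ιX xs = ιY ys := P.E (mX xs) (mY ys)
theorem ixr : ιX xr = ιY yr := P.E (mX xr) (mY yr)
def LW : List ℕ := [9, 22, 31, 49, 65, 120, 121, 122, 123, 126, 127, 130, 131, 133, 148, 153, 157, 184, 199, 226, 249, 258, 267, 316, 332, 343, 353, 358, 360, 376, 393, 405, 408, 420, 422, 436, 448, 467, 529, 567, 591, 602, 615, 624, 636, 657, 671, 674, 695, 700, 708, 726, 766, 772, 787, 798, 808, 817, 842, 869, 878, 893, 908, 944, 952]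
theorem X1 : ∀ a : GX, a * a = 1 → a = 1 ∨ a.1 ∈ LW ∨ ∃ n, n * a * n⁻¹ = xu := by decide +kernel
theorem X2 : ∀ d : GX, (d * d).1 ∈ LW → ∃ n, n * (d * d) * n⁻¹ = xw := by decide +kernel
theorem X3 : ∀ b : GX, b.1 ∈ LW → b * xw = xw * b → (xw * b).1 ∈ LW → ∃ n, n * xw * n⁻¹ = xw ∧ n * b * n⁻¹ = xs := by
  decide +kernel
theorem X4 : ∀ c : GX, c.1 ∈ LW → c * xw = xw * c → c * xs = xs * c → (xw * c).1 ∈ LW → (xs * c).1 ∈ LW →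
    (xw * xs * c).1 ∈ LW → ∃ n, n * xw * n⁻¹ = xw ∧ n * xs * n⁻¹ = xs ∧ (n * c * n⁻¹ = xr ∨ n * c * n⁻¹ = xs * xr) := by
  decide +kernel
theorem X5 : xd * xd = xw ∧ xs * xw = xw * xs ∧ xr * xw = xw * xr ∧ xr * xs = xs * xr := by decide +kernel
theorem X6 : ∀ x < 4, ∃ p ∈ [(3, 520), (4, 900), (3, 278), (4, 24)], kX (TX.R x 0) = kX p.1 * kX p.1 * (kX p.2 * kX p.2) := by decide +kernel
theorem X7 : P.eq ((tW 2725786971550887674450737)⁻¹ * (tu * tt) * (tW 2725786971550887674450737)) (tt * mX xu) = true := by decide +kernel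
theorem X8 : P.eq ((tW 898521439220561)⁻¹ * tz * (tW 898521439220561)) (tv * mX xu) = true := by decide +kernel
theorem X9 : P.eq ((tW 4698188176751400005)⁻¹ * tz * (tW 4698188176751400005)) (tt * tv * mX xu) = true := by decide +kernel
noncomputable abbrev yh : GY := kY 745
noncomputable def pr (a0 a1 a2 a3 : GY) (c : ℕ) : GY :=
  a0 ^ (c % 2) * a1 ^ (c / 2 % 2) * a2 ^ (c / 4 % 2) * a3 ^ (c / 8 % 2) * yv ^ (c / 16 % 2)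
theorem Y1 : yh * yv * yh⁻¹ = yt * yv ∧ yh * yw * yh⁻¹ = yw ∧ yh * ys * yh⁻¹ = ys ∧ yh * yr * yh⁻¹ = ys * yr ∧
  ys * (ys * yr) = yr ∧ yv * yv = 1 := by decide +kernel
theorem Y2 : ∀ n ∈ LI, (∃ r ∈ LR, ∃ c < 32, kY n = kY r * pr yt y1 y2 y3 c) ∧
  ∃ r ∈ LR, ∃ c < 32, kY n * yv⁻¹ = kY r * pr yt y1 y2 y3 c := by decide +kernel
theorem Y3 : ∀ r ∈ LR, (∃ i < 2, ∃ j < 2, ∃ k < 2, kY r = yw ^ i * ys ^ j * yr ^ k) ∧ kY r * kY r = 1 ∧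
  kY r ≠ yt * yv ∧ kY r * yv = yv * kY r ∧ (∀ r' ∈ LR, (kY r * (kY r')⁻¹).1 ∈ LR) ∧
  ∃ n ∈ LI, kY n * yv * (kY n)⁻¹ = yv * kY r ∧ kY n * (yt * yv) * (kY n)⁻¹ = yt * yv * kY r ∧
    kY n * (y1 * yv) * (kY n)⁻¹ = kY r * y1 * yv ∧ kY n * (y1 * (yt * yv)) * (kY n)⁻¹ = kY r * y1 * (yt * yv) := by
  decide +kernel
theorem Y4 : ∀ k ∈ [k1, k2], k * yv = yv * k ∧ (k * yw * k⁻¹).1 ∈ LR ∧ (k * ys * k⁻¹).1 ∈ LR ∧ (k * yr * k⁻¹).1 ∈ LR ∧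
  ∀ r ∈ LR, ∀ c < 32, (kY r * pr yt y1 y2 y3 c * (k * y1 * k⁻¹) * (kY r * pr yt y1 y2 y3 c)⁻¹ * y1⁻¹).1 ∈ LR := by
  decide +kernel
def LJ : List (List ℕ) := [[843, 850, 867, 872, 3223, 3228, 3343, 3346, 28233, 28247, 28304, 28319, 28325, 28329, 28350, 28354],
  [8760, 8774, 8856, 8871, 16423, 16425, 16497, 16500, 16925, 16935, 16957, 16960, 28880, 28881, 29576, 29577],
  [7205, 7211, 7396, 7397, 12316, 12321, 13635, 13644, 23175, 23177, 23241, 23249, 26122, 26128, 26168, 26175]]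
theorem Y5 : ∀ r ∈ LR, ∀ c < 32, let a := kY r * pr yt y1 y2 y3 c
  (a * a = yw → a.1 ∈ LJ.getD 0 []) ∧ (a * a = ys → a.1 ∈ LJ.getD 1 []) ∧ (a * a = yr → a.1 ∈ LJ.getD 2 []) := by
  decide +kernel
theorem Y6 : y1 * y1 = yw ∧ y2 * y2 = ys ∧ y3 * y3 = yr ∧ y1 * (yt * yv) * y1⁻¹ = yw * (yt * yv) ∧
  y1 * yv * y1⁻¹ = yw * yv ∧ y2 * (yt * yv) * y2⁻¹ = ys * (yt * yv) ∧ y2 * yv * (y2 * yv) = 1 ∧
  y1 * yv * (y1 * yv) = 1 ∧ y1 * (yt * yv) * (y1 * (yt * yv)) = 1 ∧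
  (∀ y ∈ [y1, y2, y3, yv, yt], y * yw = yw * y ∧ y * ys = ys * y ∧ y * yr = yr * y) ∧
  k1 * y2 * k1⁻¹ = kY 17801 * pr yt y1 y2 y3 6 ∧ k1 * y3 * k1⁻¹ = kY 17885 * pr yt y1 y2 y3 11 ∧
  k2 * y2 * k2⁻¹ = kY 17878 * pr yt y1 y2 y3 5 ∧ k2 * y3 * k2⁻¹ = kY 904 * pr yt y1 y2 y3 10 ∧
  k1 * y1 * k1⁻¹ = y1 ∧ k2 * y1 * k2⁻¹ = y1 := by decide +kernel
theorem Y7 : ∀ n1 ∈ LJ.getD 0 [], k1 * kY n1 * k1⁻¹ = kY n1 → k2 * kY n1 * k2⁻¹ = kY n1 →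
    ∀ n2 ∈ LJ.getD 1 [], ∀ n3 ∈ LJ.getD 2 [],
    k1 * kY n2 * k1⁻¹ = kY 17801 * pr (yw * yt) (kY n1) (kY n2) (kY n3) 6 →
    k2 * kY n2 * k2⁻¹ = kY 17878 * pr (yw * yt) (kY n1) (kY n2) (kY n3) 5 →
    k1 * kY n3 * k1⁻¹ = kY 17885 * pr (yw * yt) (kY n1) (kY n2) (kY n3) 11 →
    k2 * kY n3 * k2⁻¹ = kY 904 * pr (yw * yt) (kY n1) (kY n2) (kY n3) 10 →
    ∃ p ∈ [(2, 19), (3, 18)], ∀ c < 32, pr yt y1 y2 y3 c * pr (yw * yt) (kY n1) (kY n2) (kY n3) c * yw = 1 →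
      c = 1 ∨ c = 17 ∨ c = p.1 ∨ c = p.2 := by decide +kernel
theorem Y8 : P.eq ((tW 5228606484667064567219505)⁻¹ * tz * (tW 5228606484667064567219505)) (mY (y1 * yv)) = true := by decide +kernel
theorem Y9 : P.eq ((tW 946860451628575966291)⁻¹ * tz * (tW 946860451628575966291)) (mY (y1 * (yt * yv))) = true := by decide +kernel
theorem Y10 : P.eq ((tW 101875966303673133397397813)⁻¹ * tv * (tW 101875966303673133397397813)) (mY (y2 * yv)) = true := by decide +kernel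
theorem Y11 : P.eq (tl * mY ys * tl⁻¹) (mY yw) = true ∧ P.eq (tl⁻¹ * mY yw * tl) (mY (kY 17885)) = true ∧
  P.eq (tl⁻¹ * mY ys * tl) (mY (kY 904)) = true ∧ P.eq (tl⁻¹ * mY yr * tl) (mY (kY 1036)) = true := by decide +kernel
end CfH1.HN
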