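import Cfsg.Agent.OD.Pre
import Cfsg.Agent.H1.HNF
/-! Facts read off the table of order 20160. -/
set_option autoImplicit false
set_option maxRecDepth 100000
set_option synthInstance.maxSize 4096
set_option Elab.async false
set_option linter.all false
open CfH6 CfL
namespace CfH1.HN
noncomputable abbrev aU : GA := kA 808
theorem iaU : ιA aU = Tm.val P.ev tu := P.E (mA aU) tu
noncomputable abbrev ap : GA := kA 815
theorem iap : ιA ap = Tm.val P.ev tp := P.E (mA ap) tp
noncomputable abbrev aq : GA := kA 901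
theorem iaq : ιA aq = Tm.val P.ev tq := P.E (mA aq) tq
noncomputable abbrev ai : GA := kA 2087
theorem iai : ιA ai = Tm.val P.ev ti := P.E (mA ai) ti
noncomputable abbrev ag : GA := kA 7067
theorem iag : ιA ag = Tm.val P.ev tg := P.E (mA ag) tg
noncomputable abbrev aP : GA := kA 4524
theorem iaP : ιA aP = Tm.val P.ev tP := P.E (mA aP) tP
noncomputable abbrev aW : GA := kA 685
noncomputable abbrev aR : GA := kA 6744
noncomputable abbrev ai2 : GA := kA 512
noncomputable abbrev ae0 : GA := kA 160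
noncomputable abbrev aV : GA := kA 5747
noncomputable abbrev aP2 : GA := kA 11071
def LA : List (ℕ × ℕ) := [(0, 0), (808, 0), (179, 815), (4507, 4543), (144, 901), (831, 4518), (16260, 2087), (7820, 7067), (64, 1175), (2402, 2422), (126, 959), (949, 163), (194, 2438), (11768, 13443), (4516, 2420), (825, 227), (2431, 806), (486, 1128), (15445, 3653), (9665, 2016), (4550, 791), (2455, 2436), (3157, 4883), (18650, 13452), (1230, 2646), (2068, 4340), (1428, 9375), (12670, 1088), (2995, 19944), (138, 915), (190, 4552), (171, 2454), (2412, 189), (143, 942), (5747, 7021), (180, 183), (132, 935), (178, 823), (9673, 2533), (19902, 6722), (917, 4511), (123, 809), (7723, 6737), (1742, 8372), (15215, 9520), (2611, 9451), (8343, 14507), (14477, 2049), (5989, 2530), (8017, 18929), (936, 2445), (172, 940), (2432, 232), (137, 929), (6344, 2557), (19442, 6758), (4022, 16273), (4324, 2522), (4391, 9400), (1545, 6848), (1822, 14919), (2522, 4032), (996, 17586), (7638,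 4913), (59, 16198), (8363, 14495), (5940, 2548), (13535, 18940), (810, 820), (2457, 178), (828, 4539), (3405, 6763), (182, 199), (204, 217), (18823, 3603), (124, 180), (11694, 9404), (11062, 8867), (4502, 801), (908, 176), (15469, 3627), (2120, 9483), (16145, 3), (4787, 1102), (16160, 4875), (8416, 8165), (8021, 17114), (20022, 13441), (2157, 9494), (11648, 76), (14362, 8383), (33, 8341), (11070, 8717), (2530, 7534), (763, 13287), (9407, 4373), (63, 9714), (7669, 4888), (13550, 19951), (160, 919), (176, 4559), (953, 2576), (215, 133), (162, 200), (8402, 8871), (780, 786), (18842, 3643), (14342, 9825), (7903, 57), (16435, 8219), (10720, 17150), (12682, 1791), (3587, 11375), (14512, 9819), (9413, 48), (6392, 1081), (6356, 12713), (1795, 2074), (20091, 9565), (19868, 17156), (17168, 17589), (2087, 6330), (4491, 5536), (2582, 6378), (512, 5985), (4756, 389), (5728, 8816), (15877, 12392), (4909, 7523), (731, 13273), (3169, 9814), (624, 8), (11282, 13725),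 (2952, 1876), (4527, 155), (4537, 2411), (16405, 13456), (4056, 9368), (11004, 8848), (603, 8337), (19499, 13695), (18813, 8874), (1436, 12680), (5518, 19105), (948, 2451), (5466, 9500), (11290, 7044), (1547, 19806), (11003, 8712), (4086, 12961), (7863, 2073), (16261, 502), (15223, 13683), (7709, 1620), (9938, 9844), (6862, 3916), (9589, 14882), (7821, 9079), (4418, 6395), (4352, 8343), (20017, 19850), (4443, 15319), (890, 17606), (6400, 1386), (1257, 485), (17462, 6151), (11769, 17752), (3370, 3616), (18872, 8840), (19061, 9489), (9548, 13716), (2273, 15745), (18537, 12985), (13656, 9864), (11493, 13265), (4868, 107), (888, 12978), (18649, 8211), (11160, 9848), (978, 14619), (856, 17486), (20040, 9091), (10771, 17878), (19051, 1611), (7279, 15052), (12331, 12294), (18351, 13236), (2476, 15350), (5279, 15769), (19567, 13012), (1810, 7050), (11926, 12254), (10733, 6768), (3794, 16987), (8264, 12265), (5127, 5523), (15709, 12234), (6890, 10800), (997,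 15868), (15026, 14870), (4647, 5054), (10432, 12186), (2515, 13041), (4493, 7491), (774, 15278), (2488, 18080), (5787, 18008), (17586, 19762), (6175, 19001), (5333, 5091), (15821, 6620), (685, 0), (701, 815), (751, 4543), (664, 901), (979, 4518), (6176, 2087), (17564, 7067), (15724, 1175), (4446, 2422), (15346, 8347), (18446, 9509), (661, 163), (666, 2438), (5806, 13443), (15751, 1128), (6072, 3653), (12291, 2016), (15039, 4883), (5324, 13452), (7454, 9691), (15315, 9375), (12180, 16111), (894, 219), (691, 915), (4617, 2547), (4659, 6738), (10392, 4842), (4081, 119), (10033, 6400), (12311, 19840), (15946, 8741), (671, 781), (712, 4536), (700, 942), (18309, 2054), (18478, 7021), (17520, 6722), (7278, 16146), (5429, 2530), (5126, 9614), (19680, 508), (6610, 16273), (17407, 14919), (3264, 9066), (9957, 1434), (7146, 12711), (10028, 395), (4573, 4913), (15884, 6282), (707, 235), (15684, 8837), (2469, 820), (15103, 3629), (5441, 2037), (18540, 9821),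 (5172, 17), (10634, 13538), (18534, 8182), (13585, 17141), (11460, 546), (5183, 16233), (9031, 2607), (13563, 8726), (10864, 11145), (15077, 13465), (10624, 3603), (7140, 4353), (12272, 1095), (4173, 17705), (15919, 19935), (19562, 5988), (19682, 9807), (6622, 39), (17460, 583), (11269, 3152), (11828, 18718), (10136, 8807), (4153, 4797), (8222, 14384), (9038, 7549), (5260, 608), (12181, 12660), (2898, 12276), (18570, 519), (13648, 16306), (10790, 2719), (17606, 9407), (6068, 8864), (15780, 9532), (3782, 9620), (17244, 1255), (2932, 4780), (3284, 13731), (3584, 3958), (11925, 13319), (17259, 3118), (10895, 17070), (17219, 1698), (11172, 11439), (11822, 12797), (11262, 20117), (17411, 14922), (10139, 18906), (2226, 13695), (7455, 14464)]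
def L112 : List (ℕ × ℕ) := [(4524, 0), (2451, 901), (830, 4518), (951, 2420), (784, 227), (235, 806), (237, 142), (2413, 791), (2443, 2436), (914, 4511), (809, 238), (14391, 9414), (16411, 8872), (4506, 4513), (191, 168), (2427, 8372), (927, 4535), (11649, 2052), (11071, 7068), (226, 940), (2445, 232), (4539, 929), (801, 2557), (4525, 836), (4500, 135), (2456, 2407), (815, 192), (4076, 9388), (18606, 8879), (1207, 8303), (188, 2442), (1851, 13473), (4543, 928), (2448, 4505), (54, 2058), (19865, 7038), (12699, 1187), (906, 8341), (919, 161), (530, 4900), (20008, 13468), (14467, 2678), (2449, 212), (1402, 9402), (15225, 8871), (2632, 8282), (826, 786), (7733, 3643), (205, 1108), (4796, 8389), (5491, 9525), (958, 805), (955, 4546), (222, 2044), (8430, 6775), (16263, 9409), (7816, 8850), (119, 8339), (5988, 12708), (4421, 2067), (2156, 19128), (7889, 2523), (20056, 6745), (11762, 3642), (4548, 830), (3145, 4916), (1553, 13474), (2069, 4347), (16179,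 1139), (2994, 19938), (785, 8343), (5707, 7072), (9410, 16290), (6418, 2543), (9562, 14931), (4526, 906), (6357, 9397), (19498, 8827), (1791, 401), (3366, 8804), (19036, 9489), (236, 2455), (10681, 9518), (11286, 13461), (904, 9373), (797, 1113), (8347, 12694), (4340, 375), (15459, 8776), (6861, 19125), (9691, 320), (4872, 6263), (7627, 611), (2302, 9855), (18870, 15171), (18835, 17712), (1578, 12999), (649, 1080), (8031, 18956), (2568, 4050), (13548, 18930), (9172, 11376), (7362, 17615), (11031, 6762), (8741, 9881), (9738, 12298), (424, 13188), (14885, 17790), (12767, 16850), (16617, 13031), (7067, 12189), (1175, 13967)]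
def L3 : List (ℕ × ℕ) := [(0, 0), (6744, 0), (18901, 815), (19964, 4543), (9505, 901), (8864, 4518), (9459, 2087), (19135, 2422), (18679, 959), (18327, 8347), (18273, 9509), (7184, 9477), (3920, 163), (19803, 2438), (12243, 4872), (15787, 13443), (5122, 2656), (8162, 2420), (19101, 227), (13476, 806), (4858, 1128), (13688, 791), (6768, 2436), (4808, 4883), (352, 4340), (16223, 9691), (8334, 9375), (13480, 219), (8173, 915), (5385, 4552), (9182, 2547), (10669, 6738), (3512, 4842), (16660, 153), (17594, 1087), (5792, 3625), (5228, 2012), (17383, 6400), (4612, 8387), (13278, 8364), (9934, 8031), (4191, 19840), (5670, 781), (5699, 4536), (18746, 942), (17614, 2054), (15389, 7021), (15941, 1150), (1628, 823), (5412, 2533), (15065, 6722), (5917, 4815), (17075, 512), (12596, 2545), (7228, 6861), (12265, 9072), (9108, 4511), (2209, 809), (18433, 6737), (12083, 4841), (11146, 238), (8161, 191), (2954, 9414), (9377, 8872), (8440, 8331), (19815, 4513), (19978,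 168), (2693, 8372), (16138, 16146), (9613, 14507), (2003, 2049), (8330, 2530), (15136, 2445), (18919, 940), (13154, 9490), (7497, 9445), (8778, 232), (4225, 508), (265, 16273), (2028, 9400), (4015, 4032), (11727, 1434), (4258, 12711), (14401, 395), (9472, 4913), (13488, 215), (3656, 235), (9109, 820), (1895, 178), (2980, 1126), (2524, 3629), (19900, 2037), (11107, 147), (15140, 818), (5451, 4902), (15108, 13486), (10529, 2644), (11468, 9821), (15041, 1131), (15348, 4896), (10087, 13538), (2276, 17141), (16656, 787), (18772, 4521), (12295, 2076), (15837, 7026), (18482, 1184), (12229, 16190), (11416, 14513), (15024, 2573), (17497, 7111), (12372, 18954), (12222, 13710), (15086, 4236), (3050, 9608), (10782, 2607), (2734, 17834), (18547, 79), (18079, 6393), (5450, 8354), (10602, 7997), (15813, 98), (17012, 8392), (7486, 7987), (2244, 8726), (19215, 10939), (3936, 16985), (19979, 917), (4635, 9527), (10755, 9452), (19555, 139), (9068, 2456), (6852, 4869),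 (2095, 13465), (11052, 2695), (19521, 2403), (16670, 217), (18391, 1093), (13791, 3603), (10860, 1995), (12212, 4353), (5794, 9662), (10462, 1095), (11711, 986), (4133, 2959), (13063, 17705), (12194, 19935), (18421, 16098), (18204, 14453), (1668, 4503), (1915, 156), (11547, 8349), (10661, 9483), (3427, 9434), (3793, 3), (9878, 1102), (4567, 4875), (19281, 13518), (19584, 8165), (15841, 9), (8977, 1112), (15948, 13506), (18357, 5357), (3934, 135), (4673, 13441), (13634, 2654), (2191, 4506), (20129, 944), (15779, 8370), (13094, 9494), (3292, 9430), (12323, 8160), (3939, 932), (5394, 2407), (13517, 9388), (8388, 8879), (5745, 8303), (3628, 2427), (18685, 223), (13539, 9385), (2544, 8830), (19910, 8300), (11292, 12675), (2977, 4899), (8015, 2069), (85, 9579), (6, 19095), (19115, 173), (1898, 2442), (8344, 13473), (7721, 2698), (17719, 4505), (7980, 2058), (2042, 7038), (11788, 1187), (12655, 76), (14438, 6415), (4805, 8383), (9441, 8341), (1063, 5988),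 (1711, 7534), (16097, 4373), (6247, 9714), (2036, 9408), (12654, 9807), (16232, 39), (2675, 4888), (10851, 4559), (6070, 6770), (16928, 4852), (17112, 2452), (10961, 133), (10211, 3654), (19724, 1996), (6127, 8707), (17140, 212), (10931, 200), (9568, 9402), (9365, 8871), (11328, 8282), (6035, 3152), (1728, 1791), (12642, 12713), (6274, 391), (4304, 6330), (2737, 4797), (14332, 14384), (1067, 608), (2705, 11680), (312, 12660), (16317, 13726), (16096, 519), (263, 16306), (9535, 4554), (9493, 202), (8163, 908), (8877, 205), (9426, 9407), (17702, 155), (2943, 8390), (4887, 9532), (19028, 9436), (10814, 4549), (2561, 7077), (18640, 1165), (19994, 14479), (6878, 2071), (9545, 2528), (12716, 18917), (8367, 7062), (5712, 1167), (20109, 2418), (19974, 930), (7995, 8376), (4860, 9522), (5504, 9442), (17500, 535), (19393, 16301), (17588, 2537), (4609, 9377), (4727, 2512), (6986, 6856), (19607, 14929), (19199, 9118), (17188, 9745), (2888, 283), (3548, 1255),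 (10685, 15771), (6641, 14500), (15774, 2077), (5269, 7087), (18176, 524), (10050, 16261), (13000, 9417), (6811, 6894), (17268, 3958), (12317, 14906), (14357, 13319), (10976, 2448), (2991, 8366), (9405, 9488), (20042, 9470), (18675, 125), (3890, 13470), (11821, 2642), (10001, 4329), (12159, 9687), (14180, 9416), (7973, 961), (11977, 2983), (5109, 17711), (12292, 19972), (2231, 16129), (8573, 14458), (17429, 5957), (9644, 12386), (15681, 7507), (18905, 13289), (17489, 9784), (16053, 49), (11911, 13521), (5400, 20016), (5520, 1908), (15862, 5667), (17447, 8190), (10677, 4010), (9093, 17551), (7294, 1496), (4932, 580), (12618, 6078), (9026, 1740), (11161, 12797), (7943, 14207), (3591, 2353), (7589, 13024), (2925, 2637), (15551, 16167), (18883, 538), (6380, 9101), (18831, 17877), (3715, 111), (3815, 6399), (16668, 816), (8092, 8038), (12899, 7829), (10873, 19060), (6087, 59), (5283, 2392), (1907, 13067), (7434, 100), (6090, 6408), (19728, 8000), (3192,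 19856), (3586, 11117), (19527, 6120), (3771, 20137), (17700, 158), (18302, 1100), (18471, 3610), (13836, 1984), (18713, 952), (7994, 2062), (4861, 7036), (10709, 1180), (19800, 811), (4871, 6747), (19067, 4832), (8409, 16296), (9593, 2566), (4795, 6891), (12701, 14922), (15181, 9740), (5503, 241), (4907, 6764), (10697, 4836), (15163, 237), (6887, 9368), (9368, 8848), (20093, 8337), (7164, 16170), (15879, 14462), (4584, 2060), (11397, 2534), (7561, 684), (9043, 7100), (4155, 18906), (9909, 13695), (6521, 4220), (8268, 9652), (17453, 4039), (8447, 17584), (15708, 1395), (17512, 16160), (19787, 14464), (10380, 2524), (9612, 667), (3298, 7080), (14120, 18873), (15055, 2161), (16901, 9139), (17451, 18905), (12705, 11357), (5775, 6001), (19524, 12463), (13560, 7367), (1770, 11790), (7735, 15361), (8762, 122), (9567, 4905), (4889, 13483), (11021, 2677), (19814, 921), (18757, 4557), (6067, 7046), (19670, 1195), (11470, 93), (13659, 6363), (15008, 8361),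 (15305, 8350), (6049, 745), (11844, 8002), (10122, 19806), (17933, 8712), (8660, 12620), (11266, 470), (4199, 4754), (1310, 12961), (6157, 2073), (7167, 7089), (18567, 502), (18350, 9362), (16479, 6842), (5062, 13683), (11219, 1620), (12925, 4753), (7271, 63), (5743, 12962), (11472, 16142), (5196, 14471), (10861, 7083), (10433, 18721), (5349, 805), (5396, 4546), (17653, 7025), (2907, 1140), (2870, 9079), (8764, 167), (10844, 2424), (12517, 13495), (17227, 2690), (17550, 3605), (14985, 2001), (6123, 8344), (16827, 8360), (1306, 753), (19348, 7985), (14005, 8705), (13613, 13684), (3836, 1631), (4798, 9858), (20114, 798), (13707, 165), (14564, 3612), (9042, 1991), (8029, 2559), (2574, 6775), (15197, 4854), (18866, 12708), (11797, 378), (9556, 4914), (4696, 877), (2622, 9594), (12678, 8784), (9693, 19128), (15192, 338), (5708, 6271), (13491, 4524), (3621, 812), (2212, 954), (2203, 2433), (6871, 9412), (9418, 8876), (1843, 8292), (19058, 364), (9558,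 2097), (14478, 9547), (4362, 8810), (1514, 624), (19059, 16283), (16266, 6884), (11338, 4375), (15451, 9676), (3179, 2994), (11641, 15149), (484, 17726), (17703, 4541), (5663, 923), (9390, 7078), (8426, 1155), (1670, 195), (10849, 784), (8020, 2523), (2523, 6745), (18651, 4810), (4363, 14902), (6755, 830), (9596, 4916), (2047, 13474), (7844, 2668), (18876, 4347), (13534, 1139), (517, 2999), (6397, 19938), (4016, 2386), (358, 113), (262, 6395), (8316, 8359), (552, 85), (6289, 6412), (4811, 8343), (14287, 12790), (11742, 2639), (3107, 4037), (1456, 1386), (41, 8728), (574, 12695), (14439, 374), (8873, 193), (9609, 16266), (4005, 1253), (12343, 18939), (317, 522), (16251, 16317), (15697, 13497), (8272, 2665), (17619, 8199), (7991, 2575), (2536, 6779), (19996, 4817), (1666, 4538), (4646, 7048), (11927, 1197), (18972, 18936), (15501, 11129), (13507, 9397), (2546, 8827), (20028, 8325), (8362, 8840), (1544, 8321), (15421, 401), (2975, 4876), (529, 8804),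 (1278, 5977), (6180, 7919), (248, 398), (1286, 627), (490, 8211), (1461, 11651), (7940, 7909), (14309, 7658), (4299, 6323), (6226, 7882), (9348, 14361), (7593, 4434), (11753, 1411), (4789, 5680), (3068, 602), (16189, 8212), (16254, 9688), (3111, 3156), (107, 19835), (593, 9795), (7822, 4377), (6360, 19977), (6892, 11365), (3606, 141), (8857, 2413), (13706, 2419), (2031, 9371), (17155, 795), (5285, 3600), (13711, 2416), (8293, 4919), (2687, 2057), (2072, 7050), (7694, 92), (13524, 8375), (6863, 8362), (9669, 8745), (2053, 13489), (19481, 2686), (6374, 19971), (10995, 14428), (5731, 7554), (7826, 4366), (8443, 9717), (11293, 9829), (9660, 19955), (4044, 1907), (16183, 17755), (3361, 16121), (6879, 2542), (8366, 6733), (16393, 4807), (18918, 229), (13501, 1114), (2078, 3639), (11770, 2015), (11298, 105), (15428, 6417), (1416, 8022), (87, 19859), (13, 8751), (11042, 12652), (3396, 421), (5037, 3134), (11008, 17007), (4193, 1766), (1847, 11386), (7302,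 9799), (14284, 4444), (18573, 12686), (13641, 402), (6275, 865), (16528, 9596), (3589, 7691), (2801, 18697), (620, 17608), (7150, 5374), (18481, 8797), (4065, 17845), (5165, 1293), (11652, 18889), (1848, 15816), (1953, 4681), (1389, 19074), (18624, 13106), (11097, 10481), (15295, 4355), (19894, 9816), (14485, 17145), (11000, 13290), (5160, 9707), (11045, 11382), (17534, 12716), (5112, 370), (6905, 11769), (1202, 15329), (9949, 9093), (4751, 17594), (10974, 185), (13544, 2521), (8340, 6742), (1554, 4821), (7700, 74), (19991, 6382), (6327, 7994), (116, 19813), (16279, 8735), (19459, 12609), (19469, 475), (17870, 2080), (17558, 7074), (17961, 1191), (3240, 9071), (8939, 293), (15109, 4042), (15914, 1389), (18899, 6129), (4126, 12717), (15873, 371), (6021, 860), (2882, 9573), (18591, 15478), (15902, 19134), (6394, 13051), (10271, 6274), (14345, 7846), (20010, 12422), (11247, 11766), (3246, 628), (5339, 3167), (4259, 15004), (10645, 6353), (17117, 15342),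 (6766, 7248), (14866, 16312), (11228, 1248), (10991, 15754), (11885, 15624), (18035, 18716), (3806, 1577), (19134, 3311), (6450, 16655), (4240, 18327), (10082, 1304), (2271, 2299), (10057, 14300), (14422, 18273), (3101, 17098), (11204, 7893), (4768, 9174), (16423, 18338), (11874, 4436), (1077, 4577), (7945, 14122), (13602, 7643), (2729, 5412), (17169, 7512), (13368, 1798), (18521, 12825), (5519, 2630), (1437, 5382), (18656, 14204), (5720, 12372), (11800, 9675), (4403, 17016), (16402, 5140), (11936, 2344), (4350, 17722), (18634, 13071), (16716, 16140), (18864, 515), (16289, 9103), (1550, 17857), (11154, 956), (14352, 13105), (14256, 4777), (8772, 12994), (19582, 4043), (10047, 30), (19025, 9702), (4343, 17738), (11779, 13064), (15823, 16157), (6626, 7805), (5243, 8730), (6691, 5391), (17264, 5678), (20120, 14853), (16786, 18776), (10406, 16591), (15729, 2078), (5819, 7060), (7293, 1160), (14585, 2042), (9412, 3649), (1811, 1983), (19874, 4364), (14350,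 2978), (14496, 19959), (10725, 16091), (18785, 14437), (8361, 9487), (7729, 9463), (5, 17132), (3404, 1764), (7837, 9797), (15440, 32), (4383, 13510), (1, 17126), (3135, 18679), (20099, 16207), (9697, 15797), (16434, 4720), (4377, 8217), (10688, 566), (11148, 2409), (2946, 9367), (4904, 8847), (5480, 8308), (18896, 12719), (8407, 397), (6199, 897), (7882, 9593), (105, 8799), (9701, 19122), (19489, 315), (16415, 6245), (15196, 12364), (10346, 7511), (5744, 13261), (12434, 9801), (7482, 6), (1683, 4449), (10772, 19982), (2623, 15725), (7485, 8162), (1383, 12254), (6306, 15626), (3392, 17565), (13862, 552), (4436, 7767), (15186, 6060), (11199, 6315), (11289, 5531), (2996, 7398), (17288, 4744), (13925, 6397), (2124, 13278), (6555, 9788), (5185, 36), (18496, 13501), (10740, 19501), (7856, 15488), (14461, 18345), (3120, 15750), (8357, 12140), (18822, 1468), (4390, 3392), (11781, 15670), (6888, 2092), (9392, 7071), (11304, 1172), (7736, 499), (4063, 6853),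 (14494, 9084), (10980, 9754), (18623, 245), (15355, 1104), (15674, 3619), (4114, 2023), (15159, 2431), (10104, 2670), (16424, 17820), (19709, 65), (6615, 6373), (553, 732), (19597, 7991), (14745, 84), (6169, 8345), (6190, 726), (9259, 7983), (16002, 8703), (6342, 16987), (12324, 19804), (8275, 1021), (3139, 7706), (18792, 10007), (8227, 12625), (7602, 5760), (13652, 2942), (19494, 16993), (10026, 5653), (18780, 12566), (19026, 13021), (10696, 12360), (4097, 4332), (19867, 9827), (16315, 17137), (20092, 13284), (8623, 19981), (2555, 9518), (15230, 9475), (7881, 17860), (4674, 7042), (11500, 1147), (16116, 735), (10396, 8348), (77, 6127), (4382, 12244), (16270, 16841), (15302, 2047), (15425, 1), (1382, 13554), (4346, 8188), (5463, 548), (11082, 16227), (2134, 611), (169, 9855), (7812, 491), (4424, 6881), (4752, 19881), (14505, 9074), (1248, 1594), (2618, 15171), (154, 12999), (19986, 2312), (4404, 13193), (18837, 2752), (1432, 8407), (941, 17798),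 (655, 9549), (509, 8792), (1501, 306), (11654, 12290), (7695, 4360), (16163, 2956), (632, 1590), (18892, 9818), (795, 11385), (7902, 16584), (5983, 2196), (5651, 186), (13543, 1096), (2040, 3630), (11095, 1980), (9668, 19967), (8036, 8378), (2081, 9534), (19447, 9473), (1059, 4490), (3156, 13534), (90, 8192), (16303, 17157), (2101, 560), (604, 18691), (167, 17624), (8420, 16271), (25, 6875), (16140, 14897), (10982, 4050), (11785, 14466), (1231, 7107), (4335, 18930), (1719, 2590), (6053, 2371), (14808, 17719), (9500, 825), (11686, 11138), (12674, 8201), (1498, 11693), (14076, 13720), (4708, 1776), (13230, 19974), (10905, 262), (9549, 4879), (4908, 13457), (11005, 2683), (11220, 16102), (18877, 12668), (6396, 19131), (5958, 1600), (4274, 6310), (1454, 11697), (6376, 13687), (4057, 1633), (3985, 1258), (7909, 19521), (11827, 6352), (1767, 5389), (4717, 1408), (14483, 8748), (602, 10931), (2666, 2560), (12697, 18932), (15420, 9692), (528, 17745), (5632,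 6732), (8116, 6726), (2116, 2390), (4558, 13055), (19995, 6389), (11330, 103), (15449, 6379), (67, 19821), (151, 6155), (511, 14924), (1744, 15399), (2126, 4047), (3364, 1417), (2419, 6131), (2610, 9169), (3175, 2188), (921, 13045), (1746, 7837), (135, 12446), (20038, 14), (12715, 8195), (18799, 595), (19493, 16241), (11611, 8842), (19895, 16155), (14484, 13699), (1537, 2357), (15214, 2608), (5943, 10954), (1761, 11106), (4059, 9964), (20044, 11752), (152, 5784), (1805, 1242), (18618, 7264), (2144, 12170), (5834, 1244), (13432, 641), (16416, 12285), (9020, 10855), (10721, 16832), (14343, 5559), (1200, 7430), (17171, 1580), (7915, 12419), (5973, 5133), (16319, 1812), (20090, 10231), (7639, 15190), (16152, 14927), (18755, 230), (18428, 8854), (7730, 9803), (19033, 51), (1218, 13532), (16159, 8206), (9713, 17125), (1803, 558), (1538, 16249), (7642, 19035), (4058, 10965), (1226, 10016), (17567, 4371), (15759, 1137), (6605, 2997), (5117, 17729), (5245,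 16093), (5306, 14431), (5512, 9885), (17190, 7747), (14679, 8775), (11670, 13011), (17222, 325), (637, 8418), (3374, 17772), (2143, 4078), (622, 1658), (10156, 14360), (7838, 11393), (18625, 3121), (19720, 11795), (12717, 5552), (10690, 3116), (6300, 1853), (6302, 19546), (6354, 16909), (5729, 11646), (4757, 9146), (7883, 18741), (3177, 6177), (1849, 2396), (1203, 2198), (2159, 14011), (19063, 412), (4338, 8812), (20066, 12401), (1238, 17023), (1839, 5134), (9933, 11641), (643, 18701), (11099, 12974), (12054, 8405), (3307, 2195), (17804, 9719), (232, 17631), (7640, 18855), (1779, 9178), (924, 11398), (7633, 11810), (153, 15402), (20061, 7874), (11090, 4794), (168, 13014), (14361, 8436), (1764, 3915), (6328, 10835), (2630, 11437), (5995, 1670), (155, 9875), (7871, 19879), (942, 17060), (19876, 12706), (11693, 9570), (55, 19110), (5465, 327), (3394, 6251), (11679, 15162), (816, 17787), (3384, 7237), (19899, 12980), (16, 9869), (2586, 19892), (15447,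 17041), (1743, 15144), (4262, 15748), (13614, 15643), (2584, 8956), (4398, 8498), (7850, 15936), (8421, 9709), (16141, 17730), (1519, 13043), (532, 17724), (5961, 6148), (18782, 13802), (5501, 17583), (19467, 7200), (7651, 11451), (6322, 13955), (15229, 4740), (5987, 1677), (4510, 17077), (133, 16850), (174, 12205), (1435, 5370), (7622, 18745), (7659, 16609), (128, 12571), (2459, 12582), (2447, 7447), (7678, 5499), (121, 14247), (11775, 14491), (127, 15776), (2590, 7105), (16154, 18911), (6391, 13692), (11656, 9132), (14393, 8035), (16388, 12614), (4551, 13315), (195, 5576), (1414, 11358), (3128, 18680), (14386, 19029), (9704, 9090), (4025, 7814), (4770, 15158), (5951, 2177), (7865, 10820), (136, 5446), (173, 17879), (811, 17030), (131, 14865), (2433, 5456), (839, 13988), (4073, 1678), (134, 17096), (213, 13785), (156, 7414), (4535, 12166), (238, 15504), (147, 18324)]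
def L4 : List ℕ := [0, 12180, 10033, 12311]
def LC : List ℕ := [0, 4524, 815, 4543, 16263, 7816, 119, 11762, 785, 8347, 4340, 15459, 6861, 9691, 4872, 18870, 8031, 8741, 9738, 424, 14885, 7067, 1175, 13476, 19815, 19978, 2693, 9472, 9109, 2977, 8344, 7721, 7980, 2042, 11788, 12655, 14438, 16096, 263, 9535, 17702, 2943, 4887, 19028, 19059, 16266, 4363, 18876, 517, 6397, 107, 7822, 6360, 6892, 2072, 7694, 9669, 795, 167, 15420, 528, 4558, 151]
def LS : List ℕ := [7067, 14885, 8741, 9172, 16617, 1578]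
def Laj : List ℕ := [0, 2488, 17586, 15821, 5787, 15709, 4647, 5333]
def LP : List (List ℕ × List ℕ) := [([], []),
  ([2, 4, 1, 2], [2, 2, 4, 2, 1, 4]),
  ([1, 2], [2, 2, 4, 2, 2, 0]),
  ([2, 2], [2, 2, 4, 2]),
  ([2], [2, 2, 4, 2, 2]),
  ([], [2, 2, 4, 3, 3]),
  ([3], [2, 2, 4, 3]),
  ([3, 3], [2, 2, 4]),
  ([2, 4, 1, 2], [2, 2, 4, 2, 1, 4]),
  ([], []),
  ([2, 2], [2, 2, 4, 2]),
  ([1, 2], [2, 2, 4, 2, 2, 0]),
  ([1, 2, 2], [2, 2, 4, 2, 1]),
  ([1, 4, 2, 0, 3], [3, 0]),
  ([4, 0, 3], [3, 4, 2, 0]),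
  ([1, 3, 3], [3, 3, 4, 0, 3]),
  ([1, 2], [2, 2, 4, 2, 2, 0]),
  ([2, 2], [2, 2, 4, 2]),
  ([], []),
  ([2, 4, 1, 2], [2, 2, 4, 2, 1, 4]),
  ([2], [2, 1, 3, 3, 0, 4, 2, 0]),
  ([2, 0, 3], [3, 0, 4, 0]),
  ([0, 3], [3, 0, 2, 4, 0]),
  ([3, 3], [3, 0, 4, 3, 3, 0]),
  ([2, 2], [2, 2, 4, 2]),
  ([1, 2], [2, 2, 4, 2, 2, 0]),
  ([2, 4, 1, 2], [2, 2, 4, 2, 1, 4]),
  ([], []),
  ([2], [2, 2, 4, 2, 2, 4]),
  ([2, 4, 3], [3, 4]),
  ([3], [3, 0, 2, 0]),
  ([1, 3, 3], [3, 3, 0, 3]),
  ([2], [2, 2, 4, 2, 2]),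
  ([0, 2, 2], [2, 2, 4, 2, 0]),
  ([0, 4, 1, 2], [2, 2, 4, 2, 2]),
  ([2, 2], [2, 1, 3, 1, 3]),
  ([], []),
  ([0, 2, 0, 3], [3]),
  ([4, 3], [3, 4, 2]),
  ([3, 3], [3, 0, 2, 0, 2]),
  ([], [2, 2, 4, 3, 3]),
  ([1, 2], [2, 1, 3, 4, 0]),
  ([1, 4, 1, 2], [2, 1, 3]),
  ([4, 2], [2, 4, 3]),
  ([2], [2, 1, 3, 1]),
  ([], []),
  ([3, 0, 2, 0, 3], []),
  ([2, 1, 3, 1, 2], []),
  ([3], [2, 2, 4, 3]),
  ([3, 1, 2], [2, 1, 4, 0]),
  ([4, 3, 1, 2], [2, 4, 0]),
  ([1, 3, 1, 2], [2]),
  ([3, 4, 2], [2, 4]),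
  ([], [2, 1, 3, 1, 2]),
  ([], []),
  ([3, 3], [3, 4, 3, 3, 4]),
  ([3, 3], [2, 2, 4]),
  ([2, 1, 4, 2, 2], [2, 2, 0]),
  ([1, 2, 2, 4, 1, 2], [2, 2]),
  ([2, 1, 2, 2], [2, 2, 0]),
  ([2, 2, 4, 3], [3, 4, 3]),
  ([], [3, 0, 2, 0, 3]),
  ([3], [2, 1, 3, 1, 2, 2]),
  ([], [])]
def LG : List (List ℕ) := [[0, 2, 1, 0, 2],
  [0, 1, 2, 0, 1],
  [1, 4, 2, 5, 3, 1, 4],
  [1, 3, 5, 2, 4, 1, 3],
  [0, 1, 2, 2, 1],
  [0, 1, 2, 2, 1],
  [0],
  [0, 0]]
noncomputable def sA (k : ℕ) : GA := kA (LS.getD k 0)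
noncomputable def aj (k : ℕ) : GA := kA (Laj.getD k 0)
noncomputable def g7 (k : ℕ) : GA := [ap, ap⁻¹, aq, aq⁻¹, ai].getD k 1
theorem chkA {Q : GA → Prop} (h0 : ∀ a : GA, a.1 / 2520 = 0 → Q a) (h1 : ∀ a : GA, a.1 / 2520 = 1 → Q a) (h2 : ∀ a : GA, a.1 / 2520 = 2 → Q a) (h3 : ∀ a : GA, a.1 / 2520 = 3 → Q a) (h4 : ∀ a : GA, a.1 / 2520 = 4 → Q a) (h5 : ∀ a : GA, a.1 / 2520 = 5 → Q a) (h6 : ∀ a : GA, a.1 / 2520 = 6 → Q a) (h7 : ∀ a : GA, a.1 / 2520 = 7 → Q a) (a : GA) : Q a := by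
  have : a.1 < 20160 := a.2
  obtain e | e | e | e | e | e | e | e : a.1 / 2520 = 0 ∨ a.1 / 2520 = 1 ∨ a.1 / 2520 = 2 ∨ a.1 / 2520 = 3 ∨ a.1 / 2520 = 4 ∨ a.1 / 2520 = 5 ∨ a.1 / 2520 = 6 ∨ a.1 / 2520 = 7 := by omega
  exacts [h0 a e, h1 a e, h2 a e, h3 a e, h4 a e, h5 a e, h6 a e, h7 a e]
theorem A1_0 : ∀ a : GA, a.1 / 2520 = 0 → a * a = 1 → ∃ p ∈ LA, a.1 = p.1 := by decide +kernel
theorem A1_1 : ∀ a : GA, a.1 / 2520 = 1 → a * a = 1 → ∃ p ∈ LA, a.1 = p.1 := by decide +kernel
theorem A1_2 : ∀ a : GA, a.1 / 2520 = 2 → a * a = 1 → ∃ p ∈ LA, a.1 = p.1 := by decide +kernel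
theorem A1_3 : ∀ a : GA, a.1 / 2520 = 3 → a * a = 1 → ∃ p ∈ LA, a.1 = p.1 := by decide +kernel
theorem A1_4 : ∀ a : GA, a.1 / 2520 = 4 → a * a = 1 → ∃ p ∈ LA, a.1 = p.1 := by decide +kernel
theorem A1_5 : ∀ a : GA, a.1 / 2520 = 5 → a * a = 1 → ∃ p ∈ LA, a.1 = p.1 := by decide +kernel
theorem A1_6 : ∀ a : GA, a.1 / 2520 = 6 → a * a = 1 → ∃ p ∈ LA, a.1 = p.1 := by decide +kernel
theorem A1_7 : ∀ a : GA, a.1 / 2520 = 7 → a * a = 1 → ∃ p ∈ LA, a.1 = p.1 := by decide +kernel
theorem A1 : ∀ a : GA, a * a = 1 → ∃ p ∈ LA, a.1 = p.1 :=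
  chkA A1_0 A1_1 A1_2 A1_3 A1_4 A1_5 A1_6 A1_7
theorem A2 : ∀ p ∈ LA, p.1 = 0 ∨ kA p.2 * kA p.1 * (kA p.2)⁻¹ = aU ∨ kA p.2 * kA p.1 * (kA p.2)⁻¹ = aW := by
  decide +kernel
theorem A3_0 : ∀ a : GA, a.1 / 2520 = 0 → a * a * a = 1 → (∃ p ∈ L112, a.1 = p.1) ∨ ∃ p ∈ L3, a.1 = p.1 := by decide +kernel
theorem A3_1 : ∀ a : GA, a.1 / 2520 = 1 → a * a * a = 1 → (∃ p ∈ L112, a.1 = p.1) ∨ ∃ p ∈ L3, a.1 = p.1 := by decide +kernel
theorem A3_2 : ∀ a : GA, a.1 / 2520 = 2 → a * a * a = 1 → (∃ p ∈ L112, a.1 = p.1) ∨ ∃ p ∈ L3, a.1 = p.1 := by decide +kernel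
theorem A3_3 : ∀ a : GA, a.1 / 2520 = 3 → a * a * a = 1 → (∃ p ∈ L112, a.1 = p.1) ∨ ∃ p ∈ L3, a.1 = p.1 := by decide +kernel
theorem A3_4 : ∀ a : GA, a.1 / 2520 = 4 → a * a * a = 1 → (∃ p ∈ L112, a.1 = p.1) ∨ ∃ p ∈ L3, a.1 = p.1 := by decide +kernel
theorem A3_5 : ∀ a : GA, a.1 / 2520 = 5 → a * a * a = 1 → (∃ p ∈ L112, a.1 = p.1) ∨ ∃ p ∈ L3, a.1 = p.1 := by decide +kernel
theorem A3_6 : ∀ a : GA, a.1 / 2520 = 6 → a * a * a = 1 → (∃ p ∈ L112, a.1 = p.1) ∨ ∃ p ∈ L3, a.1 = p.1 := by decide +kernel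
theorem A3_7 : ∀ a : GA, a.1 / 2520 = 7 → a * a * a = 1 → (∃ p ∈ L112, a.1 = p.1) ∨ ∃ p ∈ L3, a.1 = p.1 := by decide +kernel
theorem A3 : ∀ a : GA, a * a * a = 1 → (∃ p ∈ L112, a.1 = p.1) ∨ ∃ p ∈ L3, a.1 = p.1 :=
  chkA A3_0 A3_1 A3_2 A3_3 A3_4 A3_5 A3_6 A3_7
theorem A4 : ∀ p ∈ L3, p.1 = 0 ∨ kA p.2 * kA p.1 * (kA p.2)⁻¹ = aR := by decide +kernel
theorem A5 : ∀ p ∈ L112, kA p.2 * kA p.1 * (kA p.2)⁻¹ = aP := by decide +kernel
theorem A6_0 : ∀ c : GA, c.1 / 2520 = 0 → c * aR = aR * c → c * c = 1 → c.1 ∈ L4 := by decide +kernel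
theorem A6_1 : ∀ c : GA, c.1 / 2520 = 1 → c * aR = aR * c → c * c = 1 → c.1 ∈ L4 := by decide +kernel
theorem A6_2 : ∀ c : GA, c.1 / 2520 = 2 → c * aR = aR * c → c * c = 1 → c.1 ∈ L4 := by decide +kernel
theorem A6_3 : ∀ c : GA, c.1 / 2520 = 3 → c * aR = aR * c → c * c = 1 → c.1 ∈ L4 := by decide +kernel
theorem A6_4 : ∀ c : GA, c.1 / 2520 = 4 → c * aR = aR * c → c * c = 1 → c.1 ∈ L4 := by decide +kernel
theorem A6_5 : ∀ c : GA, c.1 / 2520 = 5 → c * aR = aR * c → c * c = 1 → c.1 ∈ L4 := by decide +kernel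
theorem A6_6 : ∀ c : GA, c.1 / 2520 = 6 → c * aR = aR * c → c * c = 1 → c.1 ∈ L4 := by decide +kernel
theorem A6_7 : ∀ c : GA, c.1 / 2520 = 7 → c * aR = aR * c → c * c = 1 → c.1 ∈ L4 := by decide +kernel
theorem A6 : ∀ c : GA, c * aR = aR * c → c * c = 1 → c.1 ∈ L4 :=
  chkA A6_0 A6_1 A6_2 A6_3 A6_4 A6_5 A6_6 A6_7
theorem A6a : ∀ n ∈ L4, ∀ n' ∈ L4, kA n * kA n' = kA n' * kA n → n = 0 ∨ n' = 0 ∨ n = n' := by decide +kernel
theorem A7_0 : ∀ a : GA, a.1 / 2520 = 0 → a * aP = aP * a → a * a * a = 1 → a.1 ∈ LC := by decide +kernel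
theorem A7_1 : ∀ a : GA, a.1 / 2520 = 1 → a * aP = aP * a → a * a * a = 1 → a.1 ∈ LC := by decide +kernel
theorem A7_2 : ∀ a : GA, a.1 / 2520 = 2 → a * aP = aP * a → a * a * a = 1 → a.1 ∈ LC := by decide +kernel
theorem A7_3 : ∀ a : GA, a.1 / 2520 = 3 → a * aP = aP * a → a * a * a = 1 → a.1 ∈ LC := by decide +kernel
theorem A7_4 : ∀ a : GA, a.1 / 2520 = 4 → a * aP = aP * a → a * a * a = 1 → a.1 ∈ LC := by decide +kernel
theorem A7_5 : ∀ a : GA, a.1 / 2520 = 5 → a * aP = aP * a → a * a * a = 1 → a.1 ∈ LC := by decide +kernel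
theorem A7_6 : ∀ a : GA, a.1 / 2520 = 6 → a * aP = aP * a → a * a * a = 1 → a.1 ∈ LC := by decide +kernel
theorem A7_7 : ∀ a : GA, a.1 / 2520 = 7 → a * aP = aP * a → a * a * a = 1 → a.1 ∈ LC := by decide +kernel
theorem A7 : ∀ a : GA, a * aP = aP * a → a * a * a = 1 → a.1 ∈ LC :=
  chkA A7_0 A7_1 A7_2 A7_3 A7_4 A7_5 A7_6 A7_7
theorem A8_0 : ∀ p ∈ L112, p.1 % 8 = 0 → kA p.1 * aP = aP * kA p.1 → ∀ q ∈ L112, kA q.1 * aP = aP * kA q.1 →
    kA p.1 * kA q.1 * (kA p.1 * kA q.1) = 1 → kA p.1 * kA q.1 ≠ kA q.1 * kA p.1 →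
    ∃ n ∈ LC, kA p.1 * kA n * (kA p.1 * kA n) = 1 ∧ kA q.1 * kA n * (kA q.1 * kA n) = 1 ∧
      kA n * kA n * kA n = 1 ∧ kA n * aP = aP * kA n ∧
      (∀ n' ∈ LC, kA p.1 * kA n' * (kA p.1 * kA n') = 1 → kA q.1 * kA n' * (kA q.1 * kA n') = 1 → n' = n) ∧
      ∀ r ∈ LA, kA r.1 * kA p.1 = kA p.1 * kA r.1 → kA r.1 * kA q.1 = kA q.1 * kA r.1 → r.1 = 0 ∨
        kA n * kA r.1 * kA n * kA r.1 * (kA n * kA r.1 * kA n * kA r.1) = 1 := by decide +kernel
theorem A8_1 : ∀ p ∈ L112, p.1 % 8 = 1 → kA p.1 * aP = aP * kA p.1 → ∀ q ∈ L112, kA q.1 * aP = aP * kA q.1 →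
    kA p.1 * kA q.1 * (kA p.1 * kA q.1) = 1 → kA p.1 * kA q.1 ≠ kA q.1 * kA p.1 →
    ∃ n ∈ LC, kA p.1 * kA n * (kA p.1 * kA n) = 1 ∧ kA q.1 * kA n * (kA q.1 * kA n) = 1 ∧
      kA n * kA n * kA n = 1 ∧ kA n * aP = aP * kA n ∧
      (∀ n' ∈ LC, kA p.1 * kA n' * (kA p.1 * kA n') = 1 → kA q.1 * kA n' * (kA q.1 * kA n') = 1 → n' = n) ∧
      ∀ r ∈ LA, kA r.1 * kA p.1 = kA p.1 * kA r.1 → kA r.1 * kA q.1 = kA q.1 * kA r.1 → r.1 = 0 ∨
        kA n * kA r.1 * kA n * kA r.1 * (kA n * kA r.1 * kA n * kA r.1) = 1 := by decide +kernel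
theorem A8_2 : ∀ p ∈ L112, p.1 % 8 = 2 → kA p.1 * aP = aP * kA p.1 → ∀ q ∈ L112, kA q.1 * aP = aP * kA q.1 →
    kA p.1 * kA q.1 * (kA p.1 * kA q.1) = 1 → kA p.1 * kA q.1 ≠ kA q.1 * kA p.1 →
    ∃ n ∈ LC, kA p.1 * kA n * (kA p.1 * kA n) = 1 ∧ kA q.1 * kA n * (kA q.1 * kA n) = 1 ∧
      kA n * kA n * kA n = 1 ∧ kA n * aP = aP * kA n ∧
      (∀ n' ∈ LC, kA p.1 * kA n' * (kA p.1 * kA n') = 1 → kA q.1 * kA n' * (kA q.1 * kA n') = 1 → n' = n) ∧
      ∀ r ∈ LA, kA r.1 * kA p.1 = kA p.1 * kA r.1 → kA r.1 * kA q.1 = kA q.1 * kA r.1 → r.1 = 0 ∨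
        kA n * kA r.1 * kA n * kA r.1 * (kA n * kA r.1 * kA n * kA r.1) = 1 := by decide +kernel
theorem A8_3 : ∀ p ∈ L112, p.1 % 8 = 3 → kA p.1 * aP = aP * kA p.1 → ∀ q ∈ L112, kA q.1 * aP = aP * kA q.1 →
    kA p.1 * kA q.1 * (kA p.1 * kA q.1) = 1 → kA p.1 * kA q.1 ≠ kA q.1 * kA p.1 →
    ∃ n ∈ LC, kA p.1 * kA n * (kA p.1 * kA n) = 1 ∧ kA q.1 * kA n * (kA q.1 * kA n) = 1 ∧
      kA n * kA n * kA n = 1 ∧ kA n * aP = aP * kA n ∧
      (∀ n' ∈ LC, kA p.1 * kA n' * (kA p.1 * kA n') = 1 → kA q.1 * kA n' * (kA q.1 * kA n') = 1 → n' = n) ∧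
      ∀ r ∈ LA, kA r.1 * kA p.1 = kA p.1 * kA r.1 → kA r.1 * kA q.1 = kA q.1 * kA r.1 → r.1 = 0 ∨
        kA n * kA r.1 * kA n * kA r.1 * (kA n * kA r.1 * kA n * kA r.1) = 1 := by decide +kernel
theorem A8_4 : ∀ p ∈ L112, p.1 % 8 = 4 → kA p.1 * aP = aP * kA p.1 → ∀ q ∈ L112, kA q.1 * aP = aP * kA q.1 →
    kA p.1 * kA q.1 * (kA p.1 * kA q.1) = 1 → kA p.1 * kA q.1 ≠ kA q.1 * kA p.1 →
    ∃ n ∈ LC, kA p.1 * kA n * (kA p.1 * kA n) = 1 ∧ kA q.1 * kA n * (kA q.1 * kA n) = 1 ∧
      kA n * kA n * kA n = 1 ∧ kA n * aP = aP * kA n ∧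
      (∀ n' ∈ LC, kA p.1 * kA n' * (kA p.1 * kA n') = 1 → kA q.1 * kA n' * (kA q.1 * kA n') = 1 → n' = n) ∧
      ∀ r ∈ LA, kA r.1 * kA p.1 = kA p.1 * kA r.1 → kA r.1 * kA q.1 = kA q.1 * kA r.1 → r.1 = 0 ∨
        kA n * kA r.1 * kA n * kA r.1 * (kA n * kA r.1 * kA n * kA r.1) = 1 := by decide +kernel
theorem A8_5 : ∀ p ∈ L112, p.1 % 8 = 5 → kA p.1 * aP = aP * kA p.1 → ∀ q ∈ L112, kA q.1 * aP = aP * kA q.1 →
    kA p.1 * kA q.1 * (kA p.1 * kA q.1) = 1 → kA p.1 * kA q.1 ≠ kA q.1 * kA p.1 →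
    ∃ n ∈ LC, kA p.1 * kA n * (kA p.1 * kA n) = 1 ∧ kA q.1 * kA n * (kA q.1 * kA n) = 1 ∧
      kA n * kA n * kA n = 1 ∧ kA n * aP = aP * kA n ∧
      (∀ n' ∈ LC, kA p.1 * kA n' * (kA p.1 * kA n') = 1 → kA q.1 * kA n' * (kA q.1 * kA n') = 1 → n' = n) ∧
      ∀ r ∈ LA, kA r.1 * kA p.1 = kA p.1 * kA r.1 → kA r.1 * kA q.1 = kA q.1 * kA r.1 → r.1 = 0 ∨
        kA n * kA r.1 * kA n * kA r.1 * (kA n * kA r.1 * kA n * kA r.1) = 1 := by decide +kernel
theorem A8_6 : ∀ p ∈ L112, p.1 % 8 = 6 → kA p.1 * aP = aP * kA p.1 → ∀ q ∈ L112, kA q.1 * aP = aP * kA q.1 →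
    kA p.1 * kA q.1 * (kA p.1 * kA q.1) = 1 → kA p.1 * kA q.1 ≠ kA q.1 * kA p.1 →
    ∃ n ∈ LC, kA p.1 * kA n * (kA p.1 * kA n) = 1 ∧ kA q.1 * kA n * (kA q.1 * kA n) = 1 ∧
      kA n * kA n * kA n = 1 ∧ kA n * aP = aP * kA n ∧
      (∀ n' ∈ LC, kA p.1 * kA n' * (kA p.1 * kA n') = 1 → kA q.1 * kA n' * (kA q.1 * kA n') = 1 → n' = n) ∧
      ∀ r ∈ LA, kA r.1 * kA p.1 = kA p.1 * kA r.1 → kA r.1 * kA q.1 = kA q.1 * kA r.1 → r.1 = 0 ∨
        kA n * kA r.1 * kA n * kA r.1 * (kA n * kA r.1 * kA n * kA r.1) = 1 := by decide +kernel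
theorem A8_7 : ∀ p ∈ L112, p.1 % 8 = 7 → kA p.1 * aP = aP * kA p.1 → ∀ q ∈ L112, kA q.1 * aP = aP * kA q.1 →
    kA p.1 * kA q.1 * (kA p.1 * kA q.1) = 1 → kA p.1 * kA q.1 ≠ kA q.1 * kA p.1 →
    ∃ n ∈ LC, kA p.1 * kA n * (kA p.1 * kA n) = 1 ∧ kA q.1 * kA n * (kA q.1 * kA n) = 1 ∧
      kA n * kA n * kA n = 1 ∧ kA n * aP = aP * kA n ∧
      (∀ n' ∈ LC, kA p.1 * kA n' * (kA p.1 * kA n') = 1 → kA q.1 * kA n' * (kA q.1 * kA n') = 1 → n' = n) ∧
      ∀ r ∈ LA, kA r.1 * kA p.1 = kA p.1 * kA r.1 → kA r.1 * kA q.1 = kA q.1 * kA r.1 → r.1 = 0 ∨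
        kA n * kA r.1 * kA n * kA r.1 * (kA n * kA r.1 * kA n * kA r.1) = 1 := by decide +kernel
theorem A8 : ∀ p ∈ L112, kA p.1 * aP = aP * kA p.1 → ∀ q ∈ L112, kA q.1 * aP = aP * kA q.1 →
    kA p.1 * kA q.1 * (kA p.1 * kA q.1) = 1 → kA p.1 * kA q.1 ≠ kA q.1 * kA p.1 →
    ∃ n ∈ LC, kA p.1 * kA n * (kA p.1 * kA n) = 1 ∧ kA q.1 * kA n * (kA q.1 * kA n) = 1 ∧
      kA n * kA n * kA n = 1 ∧ kA n * aP = aP * kA n ∧
      (∀ n' ∈ LC, kA p.1 * kA n' * (kA p.1 * kA n') = 1 → kA q.1 * kA n' * (kA q.1 * kA n') = 1 → n' = n) ∧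
      ∀ r ∈ LA, kA r.1 * kA p.1 = kA p.1 * kA r.1 → kA r.1 * kA q.1 = kA q.1 * kA r.1 → r.1 = 0 ∨
        kA n * kA r.1 * kA n * kA r.1 * (kA n * kA r.1 * kA n * kA r.1) = 1 := fun p hp => by
  obtain e | e | e | e | e | e | e | e : p.1 % 8 = 0 ∨ p.1 % 8 = 1 ∨ p.1 % 8 = 2 ∨ p.1 % 8 = 3 ∨ p.1 % 8 = 4 ∨ p.1 % 8 = 5 ∨ p.1 % 8 = 6 ∨ p.1 % 8 = 7 := by omega
  exacts [A8_0 p hp e, A8_1 p hp e, A8_2 p hp e, A8_3 p hp e, A8_4 p hp e, A8_5 p hp e, A8_6 p hp e, A8_7 p hp e]
theorem A9_0 : ∀ a : GA, a.1 / 2520 = 0 → a * aq = aq * a → a * ag = ag * a → a * ai = ai * a → a = 1 := by decide +kernel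
theorem A9_1 : ∀ a : GA, a.1 / 2520 = 1 → a * aq = aq * a → a * ag = ag * a → a * ai = ai * a → a = 1 := by decide +kernel
theorem A9_2 : ∀ a : GA, a.1 / 2520 = 2 → a * aq = aq * a → a * ag = ag * a → a * ai = ai * a → a = 1 := by decide +kernel
theorem A9_3 : ∀ a : GA, a.1 / 2520 = 3 → a * aq = aq * a → a * ag = ag * a → a * ai = ai * a → a = 1 := by decide +kernel
theorem A9_4 : ∀ a : GA, a.1 / 2520 = 4 → a * aq = aq * a → a * ag = ag * a → a * ai = ai * a → a = 1 := by decide +kernel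
theorem A9_5 : ∀ a : GA, a.1 / 2520 = 5 → a * aq = aq * a → a * ag = ag * a → a * ai = ai * a → a = 1 := by decide +kernel
theorem A9_6 : ∀ a : GA, a.1 / 2520 = 6 → a * aq = aq * a → a * ag = ag * a → a * ai = ai * a → a = 1 := by decide +kernel
theorem A9_7 : ∀ a : GA, a.1 / 2520 = 7 → a * aq = aq * a → a * ag = ag * a → a * ai = ai * a → a = 1 := by decide +kernel
theorem A9 : ∀ a : GA, a * aq = aq * a → a * ag = ag * a → a * ai = ai * a → a = 1 :=
  chkA A9_0 A9_1 A9_2 A9_3 A9_4 A9_5 A9_6 A9_7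
theorem A11 : (∀ i < 6, sA i * sA i * sA i = 1 ∧ ∀ j < 6, i ≠ j → sA i * sA j * (sA i * sA j) = 1) ∧
  ∀ x < 8, kA (TA.R x 0) = evw sA (LG.getD x []) ∧ ∀ y ∈ LG.getD x [], y < 6 := by decide +kernel
theorem A12 : ∀ i < 8, ∀ j < 8, i ≠ j →
  (aj i)⁻¹ * aj j = evw g7 (LP.getD (8 * i + j) ([], [])).1 * aV * evw g7 (LP.getD (8 * i + j) ([], [])).2 := by
  decide +kernel
theorem A10 : ∀ x < 8, ∃ p ∈ [(0, 752), (0, 609), (0, 2436), (0, 806), (0, 80), (0, 80), (0, 1154), (0, 3614)], kA (TA.R x 0) = kA p.1 * kA p.1 * (kA p.2 * kA p.2) := by decide +kernel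
theorem A13 : kA 6330 * ai * (kA 6330)⁻¹ = aU ∧ kA 5985 * ai2 * (kA 5985)⁻¹ = aU ∧ kA 919 * ae0 * (kA 919)⁻¹ = aU ∧ kA 1386 * (ai * ai2) * (kA 1386)⁻¹ = aU ∧ kA 4539 * (aU * ae0) * (kA 4539)⁻¹ = aU ∧
  ai * ai2 = ai2 * ai ∧ aU * ae0 = ae0 * aU := by decide +kernel
theorem A14 : P.eq ((tW 23145462292878013268)⁻¹ * tu * (tW 23145462292878013268)) (tt * mA aW) = true := by decide +kernel
theorem A15 : P.eq ((tW 26076857032757631314964059217)⁻¹ * tz * (tW 26076857032757631314964059217)) (tz * mA aW) = true := by decide +kernel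
theorem A16 : P.eq ((tW 64305720158775688721281876)⁻¹ * tv * (tW 64305720158775688721281876)) (tz * mA aU) = true := by decide +kernel
theorem A17 : ap⁻¹ * ai * ap = ai2 ∧
  ap⁻¹ * ai2 * ap = ai * ai2 ∧
  ap⁻¹ * aP * ap = aP ∧
  aU⁻¹ * ai * aU = ai2 ∧
  aU⁻¹ * ai2 * aU = ai ∧
  aU⁻¹ * aP * aU = aP⁻¹ := by decide +kernel
theorem A18 : aP * aP * aP = 1 ∧ aP2 * aP2 * aP2 = 1 ∧ aP * aP2 = aV ∧ aV * aV = 1 ∧ aP2 * aP * (aP2 * aP) = 1 ∧
  aV * (aP2 * aP) = aP2 * aP * aV ∧ aV ≠ 1 ∧ aP2 * aP ≠ 1 ∧ aV ≠ aP2 * aP ∧ aP * ai = ai * aP ∧ aP * ai2 = ai2 * aP ∧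
  aP2 * ai = ai * aP2 ∧ aP2 * ai2 = ai2 * aP2 ∧ aP ≠ 1 := by decide +kernel
theorem A19 : aP = evw g7 [2, 1, 3, 1, 2] ∧ aU = evw g7 [0, 3, 0, 3, 1, 2, 2] := by decide +kernel
theorem A20 : P.eq (tm * tp * tm⁻¹) (mA (kA 811)) = true ∧ P.eq (tm * tq * tm⁻¹) (mA (kA 4529)) = true := by decide +kernel
theorem A21 : (aj 1)⁻¹ * ap * aj 1 = evw g7 [1] ∧ (aj 1)⁻¹ * aq * aj 1 = evw g7 [2, 1] ∧ aj 0 = 1 ∧ aj 1 * aj 1 = 1 := by
  decide +kernel
theorem A22 : ∀ x < 8, P.eq (te * Tm.l (16 + x) * te⁻¹) (mA (kA ([815, 4543, 901, 4518, 2952, 2952, 1175, 7067].getD x 0))) = true := by decide +kernel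
end CfH1.HN
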