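import Cfsg.Agent.OD.Pre
import Cfsg.Agent.H1.HNF
import Cfsg.Agent.H1.AL2
/-! Facts about the normal 2-subgroup of the table of order 30720. -/
set_option autoImplicit false
set_option maxRecDepth 100000
set_option Elab.async false
set_option linter.all false
open CfH6 CfL
namespace CfH1.HN
noncomputable def qs : List GY := [yt, kY 728, kY 1785, kY 1792, kY 1798, kY 2593, kY 24993]
noncomputable def rp (j : ℕ) : GY := kY ([728, 1785, 1792, 1798, 2593, 2602, 24993, 24998, 26319, 26324].getD j 0)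
def LN : List (ℕ × ℕ) := [(196, 12), (203, 24), (209, 20), (728, 2), (888, 1), (1014, 1), (1041, 24), (1053, 20), (1054, 12), (1785, 4), (1792, 8), (1798, 16), (1832, 5), (1840, 9), (1846, 17), (2000, 3), (2175, 3), (2248, 2), (2593, 32), (2602, 44), (2882, 33), (2890, 45), (4424, 33), (4431, 45), (4447, 32), (4455, 44), (7037, 35), (7040, 47), (7612, 5), (7620, 9), (7629, 17), (7827, 4), (7836, 8), (7845, 16), (8646, 47), (8662, 35), (9120, 103), (16976, 109), (16977, 117), (17806, 68), (17865, 81), (17903, 81), (17909, 68), (18513, 126), (23025, 109), (23039, 117), (24581, 103), (24608, 126), (24993, 64), (24998, 84), (26050, 65), (26054, 85), (26319, 111), (26324, 119), (26584, 110), (26588, 118), (26718, 41), (26736, 36), (26935, 36), (28224, 67), (28245, 87), (28327, 67), (28342, 87), (28738, 110), (28747, 118), (28762, 111), (28771, 119), (29499, 84), (29513, 64), (29670, 85), (29681,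 65), (29782, 41)]
def NC : List ℕ := [1, 2, 3, 4, 5, 8, 9, 12, 16, 17, 20, 24, 32, 33, 35, 36, 41, 44, 45, 47, 64, 65, 67, 68, 81, 84, 85, 87, 103, 109, 110, 111, 117, 118, 119, 126]
def LQ : List (ℕ × ℕ) := [(0, 0), (196, 12), (203, 24), (209, 20), (725, 14), (728, 2), (731, 22), (738, 26), (843, 31), (846, 7), (850, 11), (863, 19), (867, 30), (870, 6), (872, 10), (887, 18), (888, 1), (890, 13), (899, 25), (904, 21), (1014, 1), (1017, 25), (1029, 21), (1030, 13), (1036, 0), (1041, 24), (1053, 20), (1054, 12), (1785, 4), (1790, 28), (1792, 8), (1798, 16), (1832, 5), (1838, 29), (1840, 9), (1846, 17), (1997, 15), (2000, 3), (2003, 23), (2011, 27), (2161, 23), (2174, 27), (2175, 3), (2176, 15), (2234, 22), (2247, 26), (2248, 2), (2249, 14), (2593, 32), (2602, 44), (2603, 56), (2613, 52), (2882, 33), (2890, 45), (2891, 57), (2901, 53), (3223, 10), (3224, 18), (3228, 30), (3238, 6), (3343, 11),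 (3346, 31), (3352, 19), (3358, 7), (4424, 33), (4431, 45), (4435, 53), (4438, 57), (4447, 32), (4455, 44), (4459, 52), (4462, 56), (6532, 34), (6536, 54), (6537, 46), (6540, 58), (7037, 35), (7040, 47), (7043, 59), (7047, 55), (7612, 5), (7620, 9), (7629, 17), (7631, 29), (7827, 4), (7836, 8), (7845, 16), (7847, 28), (8641, 59), (8646, 47), (8662, 35), (8663, 55), (9120, 103), (9129, 127), (9142, 115), (9143, 107), (9724, 113), (9728, 101), (9737, 105), (9740, 125), (9744, 112), (9753, 100), (9761, 104), (9765, 124), (9890, 58), (9894, 46), (9910, 34), (9911, 54), (14407, 105), (14411, 113), (14415, 125), (14416, 101), (14502, 104), (14507, 112), (14511, 124), (14512, 100), (15410, 70), (15418, 94), (15422, 74), (15425, 82), (15435, 71), (15442, 95), (15447, 75), (15449, 83), (15699, 120), (15702, 96), (15703, 108), (15714, 116), (16519, 71), (16520, 75), (16531, 83), (16532, 95), (16543,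 70), (16544, 74), (16555, 82), (16557, 94), (16972, 121), (16975, 97), (16976, 109), (16977, 117), (17774, 50), (17776, 38), (17777, 42), (17778, 62), (17786, 92), (17793, 72), (17801, 80), (17806, 68), (17846, 51), (17849, 39), (17850, 43), (17852, 63), (17858, 93), (17865, 81), (17866, 73), (17878, 69), (17885, 69), (17886, 73), (17892, 93), (17903, 81), (17909, 68), (17911, 72), (17917, 92), (17927, 80), (18504, 102), (18513, 126), (18526, 114), (18527, 106), (22739, 108), (22741, 120), (22750, 96), (22751, 116), (23025, 109), (23027, 121), (23038, 97), (23039, 117), (23117, 50), (23119, 42), (23121, 38), (23128, 62), (23188, 51), (23191, 43), (23193, 39), (23199, 63), (24578, 107), (24581, 103), (24584, 127), (24595, 115), (24604, 106), (24606, 102), (24608, 126), (24617, 114), (24993, 64), (24998, 84), (25000, 88), (25002, 76), (26050, 65), (26054, 85), (26056, 89), (26058, 77), (26308,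 99), (26319, 111), (26324, 119), (26325, 123), (26573, 98), (26584, 110), (26588, 118), (26590, 122), (26714, 37), (26718, 41), (26721, 61), (26733, 49), (26736, 36), (26741, 40), (26746, 60), (26757, 48), (26935, 36), (26939, 60), (26947, 48), (26950, 40), (28224, 67), (28233, 91), (28245, 87), (28247, 79), (28298, 66), (28304, 90), (28315, 86), (28319, 78), (28325, 79), (28327, 67), (28329, 91), (28342, 87), (28350, 78), (28351, 66), (28354, 90), (28366, 86), (28736, 98), (28738, 110), (28740, 122), (28747, 118), (28760, 99), (28762, 111), (28765, 123), (28771, 119), (29499, 84), (29505, 76), (29513, 64), (29518, 88), (29670, 85), (29672, 77), (29681, 65), (29684, 89), (29766, 37), (29772, 61), (29778, 49), (29782, 41)]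
def sgl : List ℕ := [0, 0, 28, 28, 2, 2, 30, 30, 66, 66, 94, 94, 64, 64, 92, 92, 34, 34, 62, 62, 32, 32, 60, 60, 96, 96, 124, 124, 98, 98, 126, 126, 80, 80, 76, 76, 82, 82, 78, 78, 18, 18, 14, 14, 16, 16, 12, 12, 114, 114, 110, 110, 112, 112, 108, 108, 48, 48, 44, 44, 50, 50, 46, 46, 40, 40, 52, 52, 42, 42, 54, 54, 106, 106, 118, 118, 104, 104, 116, 116, 10, 10, 22, 22, 8, 8, 20, 20, 72, 72, 84, 84, 74, 74, 86, 86, 120, 120, 100, 100, 122, 122, 102, 102, 58, 58, 38, 38, 56, 56, 36, 36, 90, 90, 70, 70, 88, 88, 68, 68, 24, 24, 4, 4, 26, 26, 6, 6]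
def sqb : List ℕ := [0, 0, 0, 0, 0, 0, 1, 1, 0, 0, 1, 1, 0, 0, 0, 0, 0, 0, 1, 1, 0, 0, 0, 0, 0, 0, 0, 0, 0, 0, 1, 1, 0, 0, 0, 0, 0, 0, 1, 1, 0, 0, 1, 1, 0, 0, 0, 0, 1, 1, 0, 0, 1, 1, 1, 1, 1, 1, 1, 1, 1, 1, 0, 0, 0, 0, 0, 0, 0, 0, 1, 1, 1, 1, 0, 0, 1, 1, 1, 1, 0, 0, 1, 1, 0, 0, 0, 0, 1, 1, 1, 1, 1, 1, 0, 0, 1, 1, 1, 1, 1, 1, 0, 0, 0, 0, 1, 1, 0, 0, 0, 0, 0, 0, 1, 1, 0, 0, 0, 0, 1, 1, 1, 1, 1, 1, 0, 0]
def L24 : List (ℕ × ℕ × ℕ) := [(3, 0, 0), (11, 29103, 84), (19, 11668, 44), (25, 4599, 125), (27, 6102, 121), (31, 23239, 3), (33, 11879, 16), (35, 27773, 20), (49, 4636, 61), (55, 20601, 67), (61, 1760, 18), (63, 22992, 23), (65, 20285, 8), (67, 27650, 12), (73, 19677, 93), (79, 2117, 35), (93, 10424, 10), (95, 30319, 15), (97, 18190, 28), (101, 13219, 103), (103, 10499, 98), (109, 19171, 51), (117, 8594, 75), (125, 23591, 30)]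
def LM : List (ℕ × ℕ × ℕ) := [(1, 728, 2), (5, 1832, 5), (7, 1832, 5), (9, 28747, 118), (13, 24993, 64), (15, 1798, 16), (17, 28738, 110), (21, 2593, 32), (23, 1792, 8), (29, 728, 2), (37, 24993, 64), (39, 26054, 85), (41, 2602, 44), (43, 1840, 9), (45, 1798, 16), (47, 26054, 85), (51, 28771, 119), (53, 28738, 110), (57, 2602, 44), (59, 2882, 33), (69, 2593, 32), (71, 2890, 45), (75, 28762, 111), (77, 28747, 118), (81, 24998, 84), (83, 1846, 17), (85, 1792, 8), (87, 2890, 45), (89, 24998, 84), (91, 26050, 65), (99, 2000, 3), (105, 1840, 9), (107, 2882, 33), (111, 28762, 111), (113, 1846, 17), (115, 26050, 65), (119, 28771, 119), (121, 1785, 4), (123, 1785, 4), (127, 2000, 3)]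
def inN (a : GY) : Prop := ∃ p ∈ LN, a.1 = p.1
instance (a : GY) : Decidable (inN a) := inferInstanceAs (Decidable (∃ p ∈ LN, a.1 = p.1))
def tg' (l : List ℕ) (a : GY) : Prop := ∃ r ∈ reps, (cj a)⁻¹ * a * cj a = kY r.1 ∧ r.2.1 ∈ l
noncomputable instance (l : List ℕ) (a : GY) : Decidable (tg' l a) :=
  inferInstanceAs (Decidable (∃ r ∈ reps, (cj a)⁻¹ * a * cj a = kY r.1 ∧ r.2.1 ∈ l))
def Pl (a b : GY) : Prop := b = a ∨ b = a * yw ∨ b = a * yt ∨ b = a * yt * yw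
noncomputable instance (a b : GY) : Decidable (Pl a b) :=
  inferInstanceAs (Decidable (b = a ∨ b = a * yw ∨ b = a * yt ∨ b = a * yt * yw))
def pm (i j : ℕ) : Bool := Nat.testBit 1146155627861760964929874295793 (10 * i + j)
def Q1 (a : GY) : Prop := a * a = 1 → inN a ∨ tg' [0, 3, 5] a ∨ tg' [0, 3, 5] (a * yw)
noncomputable instance (a : GY) : Decidable (Q1 a) :=
  inferInstanceAs (Decidable (a * a = 1 → inN a ∨ tg' [0, 3, 5] a ∨ tg' [0, 3, 5] (a * yw)))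
theorem N1_0 : ∀ a : GY, a.1 / 3840 = 0 → Q1 a := by decide +kernel
theorem N1_1 : ∀ a : GY, a.1 / 3840 = 1 → Q1 a := by decide +kernel
theorem N1_2 : ∀ a : GY, a.1 / 3840 = 2 → Q1 a := by decide +kernel
theorem N1_3 : ∀ a : GY, a.1 / 3840 = 3 → Q1 a := by decide +kernel
theorem N1_4 : ∀ a : GY, a.1 / 3840 = 4 → Q1 a := by decide +kernel
theorem N1_5 : ∀ a : GY, a.1 / 3840 = 5 → Q1 a := by decide +kernel
theorem N1_6 : ∀ a : GY, a.1 / 3840 = 6 → Q1 a := by decide +kernel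
theorem N1_7 : ∀ a : GY, a.1 / 3840 = 7 → Q1 a := by decide +kernel
theorem N1 (a : GY) : a * a = 1 → inN a ∨ tg' [0, 3, 5] a ∨ tg' [0, 3, 5] (a * yw) := by
  have : a.1 < 30720 := a.2
  obtain e | e | e | e | e | e | e | e : a.1 / 3840 = 0 ∨ a.1 / 3840 = 1 ∨ a.1 / 3840 = 2 ∨ a.1 / 3840 = 3 ∨ a.1 / 3840 = 4 ∨ a.1 / 3840 = 5 ∨ a.1 / 3840 = 6 ∨ a.1 / 3840 = 7 := by omega
  exacts [N1_0 a e, N1_1 a e, N1_2 a e, N1_3 a e, N1_4 a e, N1_5 a e, N1_6 a e, N1_7 a e]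
theorem N2 : ∀ p ∈ LN, tg' [1, 2, 4] (kY p.1) ∧ tg' [1, 2, 4] (kY p.1 * yw) ∧ p.2 ∈ NC ∧
  (kY p.1 = pl qs p.2 ∨ kY p.1 = pl qs p.2 * yw) := by decide +kernel
theorem N3 : ∀ c < 128, inN (pl qs c) ↔ c ∈ LD := by decide +kernel
theorem N4 : ∀ p ∈ LN, ∀ q ∈ LN, kY p.1 * kY q.1 = kY q.1 * kY p.1 ∨ kY p.1 * kY q.1 = kY q.1 * kY p.1 * yw := by
  decide +kernel
theorem N5 : ∀ p ∈ LN, ∀ q ∈ LN, kY p.1 * kY q.1 = kY q.1 * kY p.1 ∨ ∃ j < 10, ∃ e < 2,
  rp j * yt ^ e * kY p.1 = kY p.1 * (rp j * yt ^ e) ∧ rp j * yt ^ e * kY q.1 = kY q.1 * (rp j * yt ^ e) := by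
  decide +kernel
theorem N6 : ∀ j < 10, ∀ e < 2, inN (rp j * yt ^ e) ∧ inN (rp j * yt ^ e * yt) := by decide +kernel
theorem N7 : ∀ p ∈ LN, inN (kY p.1 * yt) → ∃ j < 10, Pl (rp j) (kY p.1) := by decide +kernel
theorem N8 : ∀ i < 10, ∀ j < 10, (rp i * rp j = rp j * rp i ↔ pm i j = true) ∧ (Pl (rp i) (rp j) → i = j) := by
  decide +kernel
def Q9 (y : GY) : Prop := (∀ i < 6, y * qs.getD (i + 1) 1 * y⁻¹ = qs.getD (i + 1) 1 ∨
  y * qs.getD (i + 1) 1 * y⁻¹ = qs.getD (i + 1) 1 * yw) → ∃ p ∈ LQ, y.1 = p.1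
noncomputable instance (y : GY) : Decidable (Q9 y) := inferInstanceAs (Decidable ((∀ i < 6,
  y * qs.getD (i + 1) 1 * y⁻¹ = qs.getD (i + 1) 1 ∨ y * qs.getD (i + 1) 1 * y⁻¹ = qs.getD (i + 1) 1 * yw) →
  ∃ p ∈ LQ, y.1 = p.1))
theorem N9_0 : ∀ a : GY, a.1 / 3840 = 0 → Q9 a := by decide +kernel
theorem N9_1 : ∀ a : GY, a.1 / 3840 = 1 → Q9 a := by decide +kernel
theorem N9_2 : ∀ a : GY, a.1 / 3840 = 2 → Q9 a := by decide +kernel
theorem N9_3 : ∀ a : GY, a.1 / 3840 = 3 → Q9 a := by decide +kernel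
theorem N9_4 : ∀ a : GY, a.1 / 3840 = 4 → Q9 a := by decide +kernel
theorem N9_5 : ∀ a : GY, a.1 / 3840 = 5 → Q9 a := by decide +kernel
theorem N9_6 : ∀ a : GY, a.1 / 3840 = 6 → Q9 a := by decide +kernel
theorem N9_7 : ∀ a : GY, a.1 / 3840 = 7 → Q9 a := by decide +kernel
theorem N9 (a : GY) (h : ∀ i < 7, a * qs.getD i 1 * a⁻¹ = qs.getD i 1 ∨ a * qs.getD i 1 * a⁻¹ = qs.getD i 1 * yw) :
    ∃ p ∈ LQ, a.1 = p.1 := by
  have : a.1 < 30720 := a.2
  have h' := fun i (hi : i < 6) => h (i + 1) (by omega)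
  obtain e | e | e | e | e | e | e | e : a.1 / 3840 = 0 ∨ a.1 / 3840 = 1 ∨ a.1 / 3840 = 2 ∨ a.1 / 3840 = 3 ∨ a.1 / 3840 = 4 ∨ a.1 / 3840 = 5 ∨ a.1 / 3840 = 6 ∨ a.1 / 3840 = 7 := by omega
  exacts [N9_0 a e h', N9_1 a e h', N9_2 a e h', N9_3 a e h', N9_4 a e h', N9_5 a e h', N9_6 a e h', N9_7 a e h']
theorem N9b : ∀ p ∈ LQ, p.2 < 128 ∧ (kY p.1 = pl qs p.2 ∨ kY p.1 = pl qs p.2 * yw) := by decide +kernel
theorem N10 : ∀ c < 128, (∀ i < 7, pl qs c * qs.getD i 1 * (pl qs c)⁻¹ = qs.getD i 1 * yw ^ (sgl.getD c 0 / 2 ^ i % 2)) ∧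
  pl qs c * pl qs c = yw ^ sqb.getD c 0 ∧ (pl qs c = 1 ∨ pl qs c = yw → c = 0) := by decide +kernel
theorem N11 : ∀ m ∈ L24, 128 + m.2.2 ∈ LD ∧ ∀ i < 7,
  (∃ p ∈ LQ, ((kY m.2.1)⁻¹ * qs.getD i 1 * kY m.2.1).1 = p.1 ∧ par 7 3 p.2 % 2 = m.1 / 2 ^ i % 2) ∧
  ∃ p ∈ LQ, ((kY m.2.1)⁻¹⁻¹ * qs.getD i 1 * (kY m.2.1)⁻¹).1 = p.1 ∧ par 7 m.1 p.2 % 2 = 3 / 2 ^ i % 2 := by decide +kernel
theorem N12 : ∀ p ∈ LN, kY p.1 = yt ∨ kY p.1 = yt * yw ∨ ∃ q ∈ LN, kY p.1 * kY q.1 ≠ kY q.1 * kY p.1 := by decide +kernel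
theorem N13 : ∀ l < 128, l % 2 = 0 ∨ (∃ m ∈ L24, m.1 = l) ∨ ∃ m ∈ LM, m.1 = l := by decide +kernel
theorem N14 : ∀ m ∈ LM, m.2 ∈ LN ∧ par 7 m.1 m.2.2 % 2 = 0 ∧ ∀ p ∈ LN, par 7 m.1 p.2 % 2 = 0 →
  ¬ inN (kY p.1 * kY m.2.1) := by decide +kernel
theorem N15 : ∀ m ∈ L24, ∀ c < 128, (∀ i < 7, m.1 / 2 ^ i % 2 = (3 / 2 ^ i % 2 + sgl.getD c 0 / 2 ^ i % 2) % 2) →
  (sqb.getD c 0 + par 7 3 c) % 2 = 0 → c = m.2.2 := by decide +kernel
theorem N16 : (∀ c < 128, 128 + c ∈ LD → ∃ m ∈ L24, m.2.2 = c) ∧ (∀ i < 7, i = 0 ∨ ∃ j < 10, qs.getD i 1 = rp j) ∧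
  (∀ m ∈ L24, m.1 % 2 = 1) ∧ (∀ c < 128, sgl.getD c 0 % 2 = 0) ∧ ∀ a ∈ qs, inN a := by
  decide +kernel
end CfH1.HN
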