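import Cfsg.Agent.OD.Pre
import Cfsg.Agent.H1.Primitive
import Cfsg.Agent.L.CD2

/-! Products of subgroups: conjugate factors, permutability, Kegel's lemma, Itô's theorems. -/

set_option autoImplicit false

namespace CfH1

open Cfsg Subgroup
open scoped Pointwise commutatorElement

universe u

variable {G : Type*} [Group G]

/-- `G = H K`. -/
def Fac (H K : Subgroup G) : Prop := ∀ g : G, ∃ a ∈ H, ∃ b ∈ K, g = a * b

namespace Fac

variable {H K : Subgroup G}

theorem symm (h : Fac H K) : Fac K H := forall_exists_mul_symm h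

theorem smul (h : Fac H K) (g : G) : Fac (MulAut.conj g • H) (MulAut.conj g • K) := by
  intro z
  obtain ⟨a, ha, b, hb, e⟩ := h (g⁻¹ * z * g)
  refine ⟨_, conj_mem_conj_smul g ha, _, conj_mem_conj_smul g hb, ?_⟩
  calc z = g * (g⁻¹ * z * g) * g⁻¹ := by group
    _ = _ := by rw [e]; group

theorem exists_conj (h : Fac H K) (x y : G) :
    ∃ g : G, MulAut.conj x • H = MulAut.conj g • H ∧ MulAut.conj y • K = MulAut.conj g • K := by
  obtain ⟨a, ha, b, hb, e⟩ := h (x⁻¹ * y)
  refine ⟨x * a, ?_, ?_⟩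
  · rw [← conj_smul_conj_smul, conj_smul_eq_iff.2 (le_normalizer ha)]
  · have : y = x * a * b := by rw [mul_assoc, ← e]; group
    rw [this, ← conj_smul_conj_smul, conj_smul_eq_iff.2 (le_normalizer hb)]

theorem conj (h : Fac H K) (x y : G) : Fac (MulAut.conj x • H) (MulAut.conj y • K) := by
  obtain ⟨g, e1, e2⟩ := h.exists_conj x y
  rw [e1, e2]; exact h.smul g

theorem conj_right (h : Fac H K) (y : G) : Fac H (MulAut.conj y • K) := by
  have := h.conj 1 y
  rwa [conj_one_smul] at this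

theorem conj_left (h : Fac H K) (x : G) : Fac (MulAut.conj x • H) K := by
  have := h.conj x 1
  rwa [conj_one_smul] at this

theorem mono {H' K' : Subgroup G} (h : Fac H K) (h1 : H ≤ H') (h2 : K ≤ K') : Fac H' K' := by
  intro g
  obtain ⟨a, ha, b, hb, e⟩ := h g
  exact ⟨a, h1 ha, b, h2 hb, e⟩

theorem map {G' : Type*} [Group G'] (h : Fac H K) {f : G →* G'} (hf : Function.Surjective f) :
    Fac (H.map f) (K.map f) := by
  intro g
  obtain ⟨g, rfl⟩ := hf g
  obtain ⟨a, ha, b, hb, rfl⟩ := h g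
  exact ⟨_, mem_map_of_mem f ha, _, mem_map_of_mem f hb, map_mul f a b⟩

theorem sup_eq_top (h : Fac H K) : H ⊔ K = ⊤ := sup_eq_top_of_forall_exists_mul h

theorem subgroupOf_of_forall {L : Subgroup G}
    (h : ∀ g ∈ L, ∃ a ∈ H ⊓ L, ∃ b ∈ K ⊓ L, g = a * b) : Fac (H.subgroupOf L) (K.subgroupOf L) := by
  intro g
  obtain ⟨a, ha, b, hb, e⟩ := h g g.2
  exact ⟨⟨a, ha.2⟩, ha.1, ⟨b, hb.2⟩, hb.1, Subtype.ext e⟩

theorem subgroupOf_left (h : Fac H K) {L : Subgroup G} (hL : H ≤ L) :
    Fac (H.subgroupOf L) (K.subgroupOf L) := by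
  refine subgroupOf_of_forall (fun g hg => ?_)
  obtain ⟨a, ha, b, hb, rfl⟩ := h g
  exact ⟨a, ⟨ha, hL ha⟩, b, ⟨hb, (mul_mem_cancel_left (hL ha)).1 hg⟩, rfl⟩

theorem eq_top_of_conj {g : G} (h : Fac H (MulAut.conj g • H)) : H = ⊤ := by
  have := (h.conj_right g⁻¹).sup_eq_top
  rwa [conj_inv_smul_conj_smul, sup_idem] at this

theorem index_dvd [Finite G] (h : Fac H K) : H.index ∣ Nat.card K := by
  rw [← relIndex_eq_index_of_forall h]
  exact relIndex_dvd_card _ _

/-- Subgroups normalised by the factors can be put into a common conjugate. -/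
theorem exists_le_conj (h : Fac H K) {A B R : Subgroup G} (hA : H ≤ normalizer (A : Set G))
    (hB : K ≤ normalizer (B : Set G)) (h1 : A ≤ R) {g : G} (h2 : B ≤ MulAut.conj g • R) :
    ∃ x : G, A ≤ MulAut.conj x • R ∧ B ≤ MulAut.conj x • R := by
  obtain ⟨k, hk, a, ha, rfl⟩ := h.symm g
  refine ⟨a, ?_, ?_⟩
  · rw [← conj_smul_eq_iff.2 (hA ha)]; exact conj_smul_mono _ h1
  · rwa [← conj_smul_conj_smul, le_conj_smul_iff, conj_smul_eq_iff.2 (hB (inv_mem hk))] at h2

theorem normalizer_sup [Finite G] (h : Fac H K) {A B : Subgroup G}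
    (hA : H ≤ normalizer (A : Set G)) (hB : K ≤ normalizer (B : Set G)) {g : G}
    (hg : g ∈ normalizer ((A ⊔ B : Subgroup G) : Set G)) :
    ∃ a ∈ normalizer ((A ⊔ B : Subgroup G) : Set G) ⊓ H,
      ∃ b ∈ normalizer ((A ⊔ B : Subgroup G) : Set G) ⊓ K, g = a * b := by
  obtain ⟨a, ha, b, hb, rfl⟩ := h g
  have e := conj_smul_eq_iff.2 hg
  rw [← conj_smul_conj_smul, conj_smul_eq_comm] at e
  have hb' : b ∈ normalizer ((A ⊔ B : Subgroup G) : Set G) := by
    rw [← conj_smul_eq_iff]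
    refine (Subgroup.eq_of_le_of_card_ge (sup_le ?_ ?_) (by rw [card_smul])).symm
    · rw [← e, le_conj_smul_iff, inv_inv, conj_smul_eq_iff.2 (hA ha)]
      exact le_sup_left
    · rw [le_conj_smul_iff, conj_smul_eq_iff.2 (hB (inv_mem hb))]
      exact le_sup_right
  exact ⟨a, ⟨(mul_mem_cancel_right hb').1 hg, ha⟩, b, ⟨hb', hb⟩, rfl⟩

theorem exists_sylow [Finite G] (h : Fac H K) (p : ℕ) [hp : Fact p.Prime] :
    ∃ (P : Sylow p H) (Q : Sylow p K) (R : Sylow p G), ((R : Subgroup G) : Set G) =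
      (((P : Subgroup H).map H.subtype : Subgroup G) : Set G) *
        (((Q : Subgroup K).map K.subtype : Subgroup G) : Set G) := by
  obtain ⟨P₀, hP₀⟩ := CfH9.exists_sylIn p H
  obtain ⟨Q₀, hQ₀⟩ := CfH9.exists_sylIn p K
  obtain ⟨R₀, h1⟩ := hP₀.pgrp.exists_le_sylow
  obtain ⟨R₁, h2⟩ := hQ₀.pgrp.exists_le_sylow
  obtain ⟨g, rfl⟩ := MulAction.exists_smul_eq G R₀ R₁
  obtain ⟨k, hk, a, ha, rfl⟩ := h.symm g
  obtain ⟨P, hP⟩ := CfH9.sylIn_iff_exists_sylow.1 (hP₀.cj_of_mem ha)
  obtain ⟨Q, hQ⟩ := CfH9.sylIn_iff_exists_sylow.1 (hQ₀.cj_of_mem (inv_mem hk))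
  refine ⟨P, Q, a • R₀, coe_eq_mul_of_card_le ?_ ?_ ?_⟩
  · rw [hP, CfH9.coe_sylow_smul]; exact CfH9.cj_mono a h1
  · rw [hQ, CfH9.coe_sylow_smul, ← CfH9.le_cj_iff, ← CfH9.cj_mul, ← CfH9.coe_sylow_smul]
    exact h2
  · have e := card_mul_card_inf_of_forall h
    have e2 := congrArg (fun n => n.factorization p) e
    simp only [Nat.factorization_mul Nat.card_pos.ne' Nat.card_pos.ne', Finsupp.add_apply] at e2
    obtain ⟨j, hj⟩ := ((P.isPGroup'.map H.subtype).to_inf_left
      (K := (Q : Subgroup K).map K.subtype)).exists_card_eq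
    have h3 : p ^ j ∣ Nat.card (H ⊓ K : Subgroup G) :=
      hj ▸ card_dvd_of_le (inf_le_inf (map_subtype_le _) (map_subtype_le _))
    have h4 := (hp.out.pow_dvd_iff_le_factorization Nat.card_pos.ne').1 h3
    rw [hj, card_subtype, card_subtype, Sylow.card_eq_multiplicity, Sylow.card_eq_multiplicity,
      Sylow.card_eq_multiplicity, ← pow_add, ← pow_add]
    exact Nat.pow_le_pow_right hp.out.pos (by omega)

/-- Hall subgroups of `G` normal in the factors permute (solvable case). -/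
theorem exists_hall_mul [Finite G] [Group.IsSolvable G] (h : Fac H K) {A B : Subgroup G}
    (hA : H ≤ normalizer (A : Set G)) (hB : K ≤ normalizer (B : Set G))
    (hAh : (Nat.card A).Coprime A.index) (hBh : (Nat.card B).Coprime B.index) :
    ∃ S : Subgroup G, (S : Set G) = (A : Set G) * (B : Set G) := by
  set π : Set ℕ := {p | p ∣ Nat.card A} ∪ {p | p ∣ Nat.card B} with hπ
  obtain ⟨R, hR, h1⟩ := exists_hall_ge (π := π) (K := A) ((IsPiNum.self _).mono Set.subset_union_left)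
  obtain ⟨g, h2⟩ := hall_le_conj hR (K := B) ((IsPiNum.self _).mono Set.subset_union_right)
  obtain ⟨x, h3, h4⟩ := h.exists_le_conj hA hB h1 h2
  have hR' := PiHall.smul (MulAut.conj x) hR
  refine ⟨MulAut.conj x • R, Set.Subset.antisymm (fun z hz => ?_) ?_⟩
  · have hc : (A.relIndex (MulAut.conj x • R)).Coprime (B.relIndex (MulAut.conj x • R)) := by
      refine Nat.coprime_of_dvd (fun r hr d1 d2 => ?_)
      rcases PiHall.card hR' r hr (d1.trans (relIndex_dvd_card _ _)) with h5 | h5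
      · exact hr.ne_one (Nat.eq_one_of_dvd_coprimes hAh h5
          (d1.trans (relIndex_dvd_index_of_le h3)))
      · exact hr.ne_one (Nat.eq_one_of_dvd_coprimes hBh h5
          (d2.trans (relIndex_dvd_index_of_le h4)))
    obtain ⟨a, ha, b, hb, e⟩ := exists_mul_of_coprime_relIndex hc hz
    exact ⟨a, ha.1, b, hb.1, e.symm⟩
  · rintro _ ⟨a, ha, b, hb, rfl⟩
    exact mul_mem (h3 ha) (h4 hb)

end Fac

/-- `B A ⊆ A B`. -/
def Permutes (A B : Subgroup G) : Prop := ∀ b ∈ B, ∀ a ∈ A, ∃ a' ∈ A, ∃ b' ∈ B, b * a = a' * b'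

namespace Permutes

variable {A B : Subgroup G}

theorem of_coe_eq {S : Subgroup G} (h : (S : Set G) = (A : Set G) * (B : Set G)) : Permutes A B := by
  intro b hb a ha
  have h1 : a ∈ S := by
    change a ∈ (S : Set G); rw [h]; exact ⟨a, ha, 1, one_mem _, mul_one a⟩
  have h2 : b ∈ S := by
    change b ∈ (S : Set G); rw [h]; exact ⟨1, one_mem _, b, hb, one_mul b⟩
  have h3 : b * a ∈ (S : Set G) := mul_mem h2 h1
  rw [h] at h3
  obtain ⟨a', ha', b', hb', e⟩ := h3
  exact ⟨a', ha', b', hb', e.symm⟩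

theorem mem_sup (h : Permutes A B) {x : G} : x ∈ A ⊔ B ↔ ∃ a ∈ A, ∃ b ∈ B, x = a * b := by
  let S : Subgroup G :=
    { carrier := {x | ∃ a ∈ A, ∃ b ∈ B, x = a * b}
      one_mem' := ⟨1, one_mem _, 1, one_mem _, (mul_one 1).symm⟩
      mul_mem' := by
        rintro _ _ ⟨a, ha, b, hb, rfl⟩ ⟨c, hc, d, hd, rfl⟩
        obtain ⟨a', ha', b', hb', e⟩ := h b hb c hc
        refine ⟨a * a', mul_mem ha ha', b' * d, mul_mem hb' hd, ?_⟩
        calc a * b * (c * d) = a * (b * c) * d := by group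
          _ = _ := by rw [e]; group
      inv_mem' := by
        rintro _ ⟨a, ha, b, hb, rfl⟩
        rw [mul_inv_rev]
        exact h _ (inv_mem hb) _ (inv_mem ha) }
  constructor
  · intro hx
    have : A ⊔ B ≤ S := sup_le (fun a ha => ⟨a, ha, 1, one_mem _, (mul_one a).symm⟩)
      (fun b hb => ⟨1, one_mem _, b, hb, (one_mul b).symm⟩)
    exact this hx
  · rintro ⟨a, ha, b, hb, rfl⟩
    exact mul_mem_sup ha hb

theorem coe_sup (h : Permutes A B) : ((A ⊔ B : Subgroup G) : Set G) = (A : Set G) * (B : Set G) := by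
  ext x
  rw [SetLike.mem_coe, h.mem_sup]
  exact ⟨fun ⟨a, ha, b, hb, e⟩ => ⟨a, ha, b, hb, e.symm⟩,
    fun ⟨a, ha, b, hb, e⟩ => ⟨a, ha, b, hb, e.symm⟩⟩

theorem smul (h : Permutes A B) (g : G) : Permutes (MulAut.conj g • A) (MulAut.conj g • B) := by
  intro b0 hb0 a0 ha0
  obtain ⟨b, hb, rfl⟩ := mem_conj_smul_iff_exists.1 hb0
  obtain ⟨a, ha, rfl⟩ := mem_conj_smul_iff_exists.1 ha0
  obtain ⟨a', ha', b', hb', e⟩ := h b hb a ha
  refine ⟨_, conj_mem_conj_smul g ha', _, conj_mem_conj_smul g hb', ?_⟩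
  calc g * b * g⁻¹ * (g * a * g⁻¹) = g * (b * a) * g⁻¹ := by group
    _ = _ := by rw [e]; group

theorem iSup {ι : Sort*} {X : ι → Subgroup G} (h : ∀ i, Permutes (X i) B) :
    Permutes (⨆ i, X i) B := by
  intro b hb a ha
  induction ha using Subgroup.iSup_induction' generalizing b with
  | hp i x hx =>
    obtain ⟨a', ha', b', hb', e⟩ := h i b hb x hx
    exact ⟨a', mem_iSup_of_mem i ha', b', hb', e⟩
  | h1 => exact ⟨1, one_mem _, b, hb, by group⟩
  | hmul x y _ _ ihx ihy =>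
    obtain ⟨a', ha', b', hb', e⟩ := ihx b hb
    obtain ⟨a'', ha'', b'', hb'', e'⟩ := ihy b' hb'
    refine ⟨a' * a'', mul_mem ha' ha'', b'', hb'', ?_⟩
    rw [← mul_assoc, e, mul_assoc, e', mul_assoc]

theorem card_sup_dvd (h : Permutes A B) :
    Nat.card (A ⊔ B : Subgroup G) ∣ Nat.card A * Nat.card B :=
  Dvd.intro _ (card_mul_card_inf_of_coe_eq h.coe_sup)

theorem fac (h : Permutes A B) (ht : A ⊔ B = ⊤) : Fac A B :=
  fun g => h.mem_sup.1 (ht ▸ mem_top g)

end Permutes

/-- Kegel's maximality argument. -/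
theorem exists_normalized_of_permutes [Finite G] {A B : Subgroup G}
    (h : ∀ x : G, Permutes A (MulAut.conj x • B)) (P : Subgroup G → Prop) (hA : P A)
    (hstep : ∀ X Y : Subgroup G, P X → (∀ x : G, Permutes X (MulAut.conj x • B)) →
      (∀ x : G, Permutes Y (MulAut.conj x • B)) → ∀ x : G, Y ≤ X ⊔ MulAut.conj x • B → P Y) :
    ∃ X : Subgroup G, A ≤ X ∧ P X ∧ normalClosure (B : Set G) ≤ normalizer (X : Set G) := by
  obtain ⟨X, hAX, hX⟩ := exists_maximal_ge_of_wellFoundedGT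
    (fun X : Subgroup G => P X ∧ ∀ x : G, Permutes X (MulAut.conj x • B)) A ⟨hA, h⟩
  refine ⟨X, hAX, hX.1.1, ?_⟩
  rw [normalClosure_eq_iSup_conj_smul, iSup_le_iff]
  intro x b hb
  set Y : Subgroup G := ⨆ c : (MulAut.conj x • B : Subgroup G), MulAut.conj (c : G) • X with hY
  have h1 : ∀ y : G, Permutes Y (MulAut.conj y • B) := fun y => Permutes.iSup (fun c => by
    have := (hX.1.2 ((c : G)⁻¹ * y)).smul c
    rwa [conj_smul_conj_smul, mul_inv_cancel_left] at this)
  have h2 : Y ≤ X ⊔ MulAut.conj x • B :=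
    iSup_le (fun c => conj_smul_le_of_mem le_sup_left (mem_sup_right c.2))
  have h3 : X ≤ Y := by
    refine le_trans ?_ (le_iSup _ (1 : (MulAut.conj x • B : Subgroup G)))
    rw [OneMemClass.coe_one, conj_one_smul]
  have h4 : Y ≤ X := hX.2 ⟨hstep X Y hX.1.1 hX.1.2 h1 x h2, h1⟩ h3
  rw [← conj_smul_eq_iff]
  refine Subgroup.eq_of_le_of_card_ge ?_ (by rw [card_smul])
  exact (le_iSup (fun c : (MulAut.conj x • B : Subgroup G) => MulAut.conj (c : G) • X)
    ⟨b, hb⟩).trans h4

/-- Kegel's non-simplicity criterion. -/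
theorem kegel [Finite G] {A B : Subgroup G} (h : ∀ x : G, Permutes A (MulAut.conj x • B))
    (hne : ∀ x : G, A ⊔ MulAut.conj x • B ≠ ⊤) :
    ∃ N : Subgroup G, N.Normal ∧ N ≠ ⊤ ∧ (A ≤ N ∨ B ≤ N) := by
  obtain ⟨X, hAX, hX, hn⟩ := exists_normalized_of_permutes h
    (fun X => ∀ x : G, X ⊔ MulAut.conj x • B ≠ ⊤) hne (by
      intro X Y hX _ hY x hle y ht
      have h1 := (((hY y).fac ht).conj_right (x * y⁻¹)).sup_eq_top
      rw [conj_smul_conj_smul, inv_mul_cancel_right] at h1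
      exact hX x (top_le_iff.1 (h1 ▸ sup_le hle le_sup_right)))
  by_cases ht : normalClosure (B : Set G) = ⊤
  · rw [ht, top_le_iff, normalizer_eq_top_iff] at hn
    exact ⟨X, hn, fun e => hX 1 (by rw [e, top_sup_eq]), Or.inl hAX⟩
  · exact ⟨_, inferInstance, ht, Or.inr le_normalClosure⟩

/-- If a `p`-subgroup `A` permutes with all conjugates of the `p`-subgroup `B` then
`[A, B^G] ≤ O_p(G)`. -/
theorem commutator_le_pCore_of_permutes [Finite G] {p : ℕ} [Fact p.Prime] {A B : Subgroup G}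
    (hA : IsPGroup p A) (hB : IsPGroup p B) (h : ∀ x : G, Permutes A (MulAut.conj x • B)) :
    ⁅A, normalClosure (B : Set G)⁆ ≤ pCore p G := by
  obtain ⟨X, hAX, hX, hn⟩ := exists_normalized_of_permutes h (fun X => IsPGroup p X) hA (by
    intro X Y hX hp _ x hle
    refine IsPGroup.to_le ?_ hle
    obtain ⟨a, ha⟩ := hX.exists_card_eq
    obtain ⟨b, hb⟩ := hB.exists_card_eq
    have := (hp x).card_sup_dvd
    rw [card_smul, ha, hb, ← pow_add] at this
    obtain ⟨c, -, hc⟩ := (Nat.dvd_prime_pow Fact.out).1 this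
    exact IsPGroup.of_card hc)
  have h1 : ⁅A, normalClosure (B : Set G)⁆ ≤ X ⊓ normalClosure (B : Set G) :=
    le_inf ((commutator_mono hAX le_rfl).trans (le_normalizer_iff_commutator_le_left.1 hn))
      (commutator_le_right _ _)
  refine h1.trans (CfH7.le_pCore_of_subnormal ?_ hX.to_inf_left)
  exact (CfH7.subnIn_of_normal inf_le_right (le_normalizer_inf hn le_normalizer)).isSubnormal
    (Subgroup.Normal.isSubnormal inferInstance)

theorem isMulCommutative_commutator_of_fac {A B : Subgroup G} [hA : IsMulCommutative A]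
    [hB : IsMulCommutative B] (h : Fac A B) : IsMulCommutative (commutator G) := by
  haveI : (⁅A, B⁆ : Subgroup G).Normal :=
    normal_of_sup_le_normalizer h.sup_eq_top (normalizer_commutator_ge_left A B)
      (normalizer_commutator_ge_right A B)
  have h1 : commutator G ≤ ⁅A, B⁆ := by
    have e1 : ⁅A, A⁆ ≤ ⁅A, B⁆ := by
      rw [commutator_eq_bot_iff_le_centralizer.2 (le_centralizer A)]; exact bot_le
    have e2 : ⁅B, B⁆ ≤ ⁅A, B⁆ := by
      rw [commutator_eq_bot_iff_le_centralizer.2 (le_centralizer B)]; exact bot_le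
    rw [_root_.commutator, ← h.sup_eq_top]
    refine CfH7.commutator_sup_le_of_normal ?_ ?_
    · rw [commutator_comm]
      exact CfH7.commutator_sup_le_of_normal e1 (commutator_comm B A).le
    · rw [commutator_comm]
      exact CfH7.commutator_sup_le_of_normal le_rfl e2
  have hW : ((⊤ : Subgroup G) : Set G) = (A : Set G) * (B : Set G) := by
    ext x
    obtain ⟨a, ha, b, hb, e⟩ := h x
    exact ⟨fun _ => ⟨a, ha, b, hb, e.symm⟩, fun _ => trivial⟩
  haveI : IsMulCommutative (⁅A, B⁆ : Subgroup G) := by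
    rw [← le_centralizer_iff_isMulCommutative, commutator_le]
    intro a ha b hb
    have : ⁅A, B⁆ ≤ centralizer {⁅a, b⁆} := by
      rw [commutator_le]
      intro c hc d hd
      rw [mem_centralizer_singleton_iff]
      have := (CfL.ito_commute hA hB hW hd hb (inv_mem hc) (inv_mem ha)).eq
      simpa only [inv_inv, commutatorElement_def, mul_assoc] using this
    intro x hx
    exact mem_centralizer_singleton_iff.1 (this hx)
  exact isMulCommutative_of_le h1

theorem exists_normal_le_of_fac [Finite G] [Nontrivial G] {A B : Subgroup G} [IsMulCommutative A]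
    [IsMulCommutative B] (h : Fac A B) : ∃ N : Subgroup G, N.Normal ∧ N ≠ ⊥ ∧ (N ≤ A ∨ N ≤ B) := by
  by_contra hc
  push Not at hc
  have hab := isMulCommutative_commutator_of_fac h
  -- elements of a factor centralising the other factor are trivial
  have c0 : ∀ {A B : Subgroup G} [IsMulCommutative A] [IsMulCommutative B], Fac A B →
      (∀ N : Subgroup G, N.Normal → N ≠ ⊥ → ¬ N ≤ A ∧ ¬ N ≤ B) →
      ∀ b ∈ B, b ∈ centralizer (A : Set G) → b = 1 := by
    intro A B _ _ h hc b hb hb'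
    by_contra hne
    refine (hc (zpowers b) (normal_of_le_center (zpowers_le.2 ?_)) (by simpa using hne)).2
      (zpowers_le.2 hb)
    rw [mem_center_iff]
    intro g
    obtain ⟨x, hx, y, hy, rfl⟩ := h g
    rw [mul_assoc, mul_comm_of_mem hy hb, ← mul_assoc, hb' x hx, mul_assoc]
  have c1 : ∀ {A B : Subgroup G} [IsMulCommutative A] [IsMulCommutative B], Fac A B →
      (∀ N : Subgroup G, N.Normal → N ≠ ⊥ → ¬ N ≤ A ∧ ¬ N ≤ B) →
      ∀ a ∈ A, a ∈ centralizer (commutator G : Set G) → a = 1 := by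
    intro A B _ _ h hc a ha ha'
    haveI : (A ⊔ commutator G).Normal := Subgroup.Normal.of_commutator_le _ le_sup_right
    by_contra hne
    refine (hc (centralizer ((A ⊔ commutator G : Subgroup G) : Set G)) inferInstance ?_).1 ?_
    · intro e
      have : a ∈ centralizer ((A ⊔ commutator G : Subgroup G) : Set G) := by
        rw [CfH7.centralizer_sup]; exact ⟨le_centralizer A ha, ha'⟩
      rw [e, mem_bot] at this
      exact hne this
    · intro c hc'
      rw [CfH7.centralizer_sup] at hc'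
      obtain ⟨x, hx, y, hy, rfl⟩ := h c
      rw [c0 h hc y hy ((mul_mem_cancel_left (le_centralizer A hx)).1 hc'.1), mul_one]
      exact hx
  have hc' : ∀ N : Subgroup G, N.Normal → N ≠ ⊥ → ¬ N ≤ B ∧ ¬ N ≤ A :=
    fun N h1 h2 => (hc N h1 h2).symm
  have hAB : A ⊓ B = ⊥ := by
    rw [eq_bot_iff]
    intro x hx
    exact mem_bot.2 (c0 h hc x hx.2 (le_centralizer A hx.1))
  have hD : commutator G ≠ ⊥ := by
    intro e
    have hA : A = ⊥ := by
      rw [eq_bot_iff]
      intro a ha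
      refine mem_bot.2 (c1 h hc a ha ?_)
      rw [e]; intro y hy; rw [mem_bot.1 hy, one_mul, mul_one]
    have hB : B = ⊥ := by
      rw [eq_bot_iff]
      intro a ha
      refine mem_bot.2 (c1 h.symm hc' a ha ?_)
      rw [e]; intro y hy; rw [mem_bot.1 hy, one_mul, mul_one]
    have := h.sup_eq_top
    rw [hA, hB, sup_idem] at this
    exact bot_ne_top this
  have hDF : commutator G ≤ fittingSubgroup G :=
    CfH7.le_fitting inferInstance (CfH7.isNilpotent_of_isMulCommutative hab)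
  haveI := (Subgroup.nontrivial_iff_ne_bot _).2 hD
  obtain ⟨p, hp, hpd, -⟩ := exists_max_prime_dvd_card (commutator G)
  haveI := Fact.mk hp
  set V := pCore p G with hV
  have hVp : IsPGroup p V := CfH7.isPGroup_pCore p G
  have hVne : V ≠ ⊥ := by
    obtain ⟨Q, hQ, hQp, hQne⟩ := CfH9.dvd_card_iff_exists.1 hpd
    exact fun e => hQne (le_bot_iff.1 (e ▸ CfH7.le_pCore_of_le_fitting hQp (hQ.trans hDF)))
  set X := (V ⊔ A) ⊓ (V ⊔ B) with hX
  have hVX : V ≤ X := le_inf le_sup_left le_sup_left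
  have hXf : ∀ x ∈ X, ∃ a ∈ A ⊓ X, ∃ b ∈ B ⊓ X, x = a * b := by
    intro x hx
    obtain ⟨a, ha, b, hb, rfl⟩ := h x
    have hbX : b ∈ X := ⟨(mul_mem_cancel_left (mem_sup_right ha)).1 hx.1, mem_sup_right hb⟩
    exact ⟨a, ⟨ha, (mul_mem_cancel_right hbX).1 hx⟩, b, ⟨hb, hbX⟩, rfl⟩
  have hXc : Nat.card X = Nat.card (A ⊓ X : Subgroup G) * Nat.card (B ⊓ X : Subgroup G) := by
    have := card_mul_card_inf_of_coe_eq (H := A ⊓ X) (K := B ⊓ X) (L := X) (by
      ext x
      constructor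
      · intro hx
        obtain ⟨a, ha, b, hb, e⟩ := hXf x hx
        exact ⟨a, ha, b, hb, e.symm⟩
      · rintro ⟨a, ha, b, hb, rfl⟩
        exact mul_mem ha.2 hb.2)
    rwa [show A ⊓ X ⊓ (B ⊓ X) = ⊥ from le_bot_iff.1 (hAB ▸ inf_le_inf inf_le_left inf_le_left),
      card_bot, mul_one] at this
  have d1 : Nat.card X ∣ Nat.card V * Nat.card (A ⊓ X : Subgroup G) := by
    have e := dedekind_left (H := A) (N := V) le_normalizer_of_normal hVX
    rw [inf_eq_right.2 (inf_le_left : X ≤ V ⊔ A)] at e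
    have := card_sup_mul_card_inf (N := V) (H := A ⊓ X) le_normalizer_of_normal
    rw [← e] at this
    exact Dvd.intro _ this
  have d2 : Nat.card X ∣ Nat.card V * Nat.card (B ⊓ X : Subgroup G) := by
    have e := dedekind_left (H := B) (N := V) le_normalizer_of_normal hVX
    rw [inf_eq_right.2 (inf_le_right : X ≤ V ⊔ B)] at e
    have := card_sup_mul_card_inf (N := V) (H := B ⊓ X) le_normalizer_of_normal
    rw [← e] at this
    exact Dvd.intro _ this
  have hXp : IsPGroup p X := by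
    obtain ⟨k, hk⟩ := hVp.exists_card_eq
    rw [hXc] at d1 d2
    have a1 := Nat.dvd_of_mul_dvd_mul_right Nat.card_pos d2
    rw [mul_comm (Nat.card V)] at d1
    have a2 := Nat.dvd_of_mul_dvd_mul_left Nat.card_pos d1
    have := mul_dvd_mul a1 a2
    rw [← hXc, hk, ← pow_add] at this
    obtain ⟨c, -, hc⟩ := (Nat.dvd_prime_pow hp).1 this
    exact IsPGroup.of_card hc
  have hXn : X.Normal := by
    have key : ∀ C : Subgroup G, IsMulCommutative C → X ≤ V ⊔ C → C ≤ normalizer (X : Set G) := by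
      intro C _ hle
      rw [le_normalizer_iff_commutator_le_left]
      refine le_trans (commutator_mono hle le_rfl) (le_trans ?_ hVX)
      refine CfH7.commutator_sup_le_of_normal (commutator_le_left _ _) ?_
      rw [commutator_eq_bot_iff_le_centralizer.2 (le_centralizer C)]; exact bot_le
    exact normal_of_sup_le_normalizer h.sup_eq_top (key A inferInstance inf_le_left)
      (key B inferInstance inf_le_right)
  have hXF : X ≤ fittingSubgroup G := CfH7.le_fitting hXn hXp.isNilpotent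
  have c2 : ∀ a ∈ X, a ∈ centralizer (X : Set G) → a ∈ centralizer (commutator G : Set G) := by
    intro a ha hac g hg
    obtain ⟨u, hu, w, hw, ⟨k, hk⟩, hwo, rfl⟩ := CfH7.exists_pPart_mul_pPrimePart (p := p) g
    have hu' : u ∈ V := CfH7.le_pCore_of_le_fitting (CfH9.isPGroup_zpowers hk)
      (zpowers_le.2 (hDF (zpowers_le.2 hg hu))) (mem_zpowers u)
    have e1 := hac u (hVX hu')
    have e2 : Commute w a := by
      refine commute_of_mem_of_coprime (H := fittingSubgroup G) inferInstance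
        (hDF (zpowers_le.2 hg hw)) (hXF ha) ?_
      obtain ⟨m, hm⟩ := CfH9.isPGroup_iff_mem.1 hXp a ha
      exact Nat.Coprime.coprime_dvd_right (orderOf_dvd_of_pow_eq_one hm) (hwo.pow_right _)
    rw [mul_assoc, e2.eq, ← mul_assoc, e1, mul_assoc]
  obtain ⟨z, hz, hz1, hzc⟩ := exists_mem_centralizer_of_isNilpotent (H := X) (N := X)
    hXp.isNilpotent le_rfl le_normalizer (fun e => hVne (le_bot_iff.1 (e ▸ hVX)))
  obtain ⟨a, ha, b, hb, rfl⟩ := hXf z hz
  have hac : a ∈ centralizer (X : Set G) := by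
    intro x hx
    obtain ⟨a', ha', b', hb', rfl⟩ := hXf x hx
    have e1 := hzc b' hb'.2
    have e2 : b' * a = a * b' := by
      rw [← mul_assoc, mul_assoc a, mul_comm_of_mem hb.1 hb'.1, ← mul_assoc] at e1
      exact mul_right_cancel e1
    rw [mul_assoc, e2, ← mul_assoc, mul_comm_of_mem ha'.1 ha.1, mul_assoc]
  have hbc : b ∈ centralizer (X : Set G) := (mul_mem_cancel_left hac).1 hzc
  exact hz1 (by rw [c1 h hc a ha.1 (c2 a ha.2 hac), c1 h.symm hc' b hb.1 (c2 b hb.2 hbc), one_mul])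

end CfH1
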