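import Cfsg.Agent.H1.Fact
import Cfsg.Agent.H9.AlpGold

/-! Control of fusion in `S₄`-free groups. -/

set_option autoImplicit false
set_option linter.unusedSectionVars false

namespace CfH1

open Cfsg Subgroup CfH9 CfH7 CfH8
open scoped Pointwise commutatorElement

universe u

def SecCK (G : Type u) [Group G] : Prop :=
  ∀ (K : Subgroup G) (X : Type u) [Group X] (f : K →* X), Function.Surjective f → Cz(pCore 2 X) ≤ pCore 2 X → CK X

variable {G : Type u} [Group G] [Finite G]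

theorem SecCK.sub (h : SecCK G) (H : Subgroup G) : SecCK H := fun K X _ f hf =>
  h _ X (f.comp (K.equivMapOfInjective _ H.subtype_injective).symm.toMonoidHom) (hf.comp (MulEquiv.surjective _))

theorem SecCK.quot (h : SecCK G) (N : Subgroup G) [N.Normal] : SecCK (G ⧸ N) := fun K X _ f hf =>
  h _ X (f.comp ((QuotientGroup.mk' N).subgroupComap K))
    (hf.comp ((QuotientGroup.mk' N).subgroupComap_surjective_of_surjective K (QuotientGroup.mk'_surjective N)))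

theorem secCK_of (h : ∀ (K R : Subgroup G) [(R.subgroupOf K).Normal],
    Cz(pCore 2 (K ⧸ R.subgroupOf K)) ≤ pCore 2 (K ⧸ R.subgroupOf K) →
      IsCompositionKGroupWith IsSuzukiOrPSL2OddPowerThree (K ⧸ R.subgroupOf K)) : SecCK G := fun K X _ f hf hc => by
  have e0 : (f.ker.map K.subtype).subgroupOf K = f.ker := subgroupOf_map_subtype_self _ _
  haveI : ((f.ker.map K.subtype).subgroupOf K).Normal := e0.symm ▸ inferInstance
  have e := (QuotientGroup.quotientMulEquivOfEq e0).trans (QuotientGroup.quotientKerEquivOfSurjective f hf)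
  refine (ck_of (h K _ ?_)).of_surj e.toMonoidHom e.surjective
  rw [← comap_Cz_map (f := (e : _ →* X)) e.injective, map_pCore_equiv, ← comap_pCore_equiv e]
  exact comap_mono hc

theorem charP_quot {S T : Subgroup G} [hT : T.Normal] (hp : IsPGroup 2 T) (hS : SylIn 2 S ⊤) (hc : S ⊓ Cz(T) ≤ T) :
    Cz(pCore 2 (G ⧸ pPrimeCore 2 G)) ≤ pCore 2 (G ⧸ pPrimeCore 2 G) := by
  haveI : Fact (Nat.Prime 2) := ⟨Nat.prime_two⟩
  have h1 := le_pCore (hT.map _ (QuotientGroup.mk'_surjective (pPrimeCore 2 G))) (hp.map _)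
  refine (Cz_anti h1).trans (le_trans ?_ h1)
  have h2 := pResidualOf_Cz_le_of_centric
    (by rwa [normalizer_eq_top, inf_top_eq, inf_top_eq] : SylIn 2 (S ⊓ Nm(T)) (⊤ ⊓ Nm(T))) hc
  rw [normalizer_eq_top, inf_top_eq, top_inf_eq, pPrimeCoreOf_top] at h2
  rw [← map_centralizer_quotient (coprime_card_of_isPGroup' hp (coprime_card_pPrimeCore 2 G)).symm
    (Or.inl (isSolvable_of_isPGroup hp)), Subgroup.map_le_map_iff, QuotientGroup.ker_mk',
    ← sylIn_pResidualOf_sup (hS.inf_normal' (le_Nm_normal _ Cz(T)) le_top), sup_comm]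
  exact sup_le_sup hc h2

theorem SecCK.ck (h : SecCK G) {S T : Subgroup G} [T.Normal] (hp : IsPGroup 2 T) (hS : SylIn 2 S ⊤)
    (hc : S ⊓ Cz(T) ≤ T) : CK G :=
  CK.ext (QuotientGroup.mk' (pPrimeCore 2 G)) (QuotientGroup.mk'_surjective _) (by
    rw [QuotientGroup.ker_mk']
    exact ck_of_odd ((Nat.Prime.coprime_iff_not_dvd Nat.prime_two).1 (coprime_card_pPrimeCore 2 G).symm))
    (h ⊤ _ ((QuotientGroup.mk' _).comp (⊤ : Subgroup G).subtype) ((QuotientGroup.mk'_surjective _).comp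
      fun x => ⟨⟨x, mem_top x⟩, rfl⟩) (charP_quot hp hS hc))

theorem SecCK.hb (h : SecCK G) {V H : Subgroup G} (hV : IsElementaryAbelian 2 V) (hVH : V ≤ H) (hn : H ≤ Nm(V)) :
    CK (hb V H) := by
  haveI : Fact (Nat.Prime 2) := ⟨Nat.prime_two⟩
  obtain ⟨T, hT, hVT⟩ := exists_sylIn_ge (elemAb_isPGroup hV) (le_inf hVH (elemAb_le_Cz hV))
  have hTM : T ≤ H ⊓ Nm(T) := le_inf (hT.le.trans inf_le_left) le_normalizer
  have e : CfH8.hb V H = CfH8.hb V (H ⊓ Nm(T)) := le_antisymm ((hb_le_hb_iff hn (inf_le_left.trans hn)).2 (by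
    conv_lhs => rw [← hT.frattini_sup (CfH7.le_normalizer_inf le_normalizer (hn.trans (Nm_le_Nm_Cz V))) inf_le_left]
    exact sup_le (inf_le_right.trans le_sup_right) le_sup_left)) (hb_mono inf_le_left)
  rw [e]
  haveI : (T.subgroupOf (H ⊓ Nm(T))).Normal := normal_subgroupOf_of_le_normalizer inf_le_right
  obtain ⟨S, hS⟩ := exists_sylIn 2 (H ⊓ Nm(T))
  refine ((h.sub _).ck (isPGroup_subgroupOf hT.pgrp _) hS.subgroupOf_top ?_).hb (inf_le_left.trans hn)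
  rw [← subgroupOf_Cz hTM, ← CfH8.subgroupOf_inf]
  exact comap_mono (hT.le_of_le_Nm' hS.pgrp.to_inf_left (inf_le_inf (hS.le.trans inf_le_left) (Cz_anti hVT))
    (inf_le_right.trans (Cz_le_Nm _)))

/-- the conjugacy functor -/
def WW (T : Subgroup G) : Subgroup G := T ⊓ sylowCenterClosure 2 Nm(JJ 2 T)

theorem Nm_le_Nm_WW (T : Subgroup G) : Nm(T) ≤ Nm(WW T) := by
  haveI : Fact (Nat.Prime 2) := ⟨Nat.prime_two⟩
  obtain ⟨S, hS⟩ := exists_sylIn 2 Nm(JJ 2 T)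
  refine CfH7.le_normalizer_inf le_rfl ((Nm_le_Nm_J (p := 2) T).trans ?_)
  rw [sylowCenterClosure_eq_nclo hS]
  exact right_le_Nm_nclo _ _

theorem WW_spec (h4 : ¬ Involves (Equiv.Perm (Fin 4)) G) (h : SecCK G) {T H : Subgroup G} (hT : SylIn 2 T H)
    (hc : Cz(T) ≤ H) : WW T = sylowCenterClosure 2 Nm(JJ 2 T) ∧ WW T ≤ OZ 2 (JH T) ∧ Nm(JJ 2 T) ≤ Nm(WW T) ∧
      (T ≠ ⊥ → WW T ≠ ⊥) := by
  haveI : Fact (Nat.Prime 2) := ⟨Nat.prime_two⟩
  obtain ⟨S, hS, hTS⟩ := exists_sylIn_ge hT.pgrp (le_Nm_J T)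
  have h1 : OZ 2 S ≤ Cz(T) := (OZ_le_Cz S).trans (Cz_anti hTS)
  have h2 : OZ 2 S ≤ OZ 2 (JJ 2 T) := le_OZ_J (hT.le_of_le_Nm' (elemAb_isPGroup (elemAb_OZ S)) (h1.trans hc)
    (h1.trans (Cz_le_Nm _))) (elemAb_OZ S) (h1.trans (Cz_anti (J_le T)))
  have h3 : nclo (OZ 2 S) Nm(JJ 2 T) ≤ OZ 2 (JJ 2 T) := nclo_le (Nm_le_Nm_OZ _) h2
  have h5 := h3.trans ((OZ_le _).trans (J_le T))
  have h6 := elemAb_of_le h3 (elemAb_OZ _)
  have h7 := right_le_Nm_nclo (OZ 2 S) Nm(JJ 2 T)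
  rw [WW, sylowCenterClosure_eq_nclo hS, inf_of_le_right h5]
  exact ⟨rfl, le_OZ_JH h6 h5 ((le_Nm_J T).trans h7) fun R hR => pp_of_red h4 h6 h7
    ((redOn_of_le_Cz (le_Cz_OZ S)).nclo hS le_rfl hS.le) (h.hb h6 (h5.trans (le_Nm_J T)) h7) (hR.trans (le_Nm_J T)),
    h7, fun e => ne_bot_of_le (le_nclo _ _) (OZ_ne_bot hS.pgrp (ne_bot_of_le hTS e))⟩

theorem ctrlFus_s4 (G : Type u) [Group G] [Finite G] : ¬ Involves (Equiv.Perm (Fin 4)) G → SecCK G →
    ∀ S V : Subgroup G, SylIn 2 S ⊤ → V ≤ OZ 2 (JH S) → Nm(JJ 2 S) ≤ Nm(V) → CtrlFus ⊤ S Nm(V) := by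
  haveI : Fact (Nat.Prime 2) := ⟨Nat.prime_two⟩
  refine group_induction (P := fun G _ _ => ¬ Involves (Equiv.Perm (Fin 4)) G → SecCK G →
    ∀ S V : Subgroup G, SylIn 2 S ⊤ → V ≤ OZ 2 (JH S) → Nm(JJ 2 S) ≤ Nm(V) → CtrlFus ⊤ S Nm(V))
    (fun G _ _ ih h4 hK S V hS hV hN => ?_) G
  have hsub : ∀ H T U : Subgroup G, H ≠ ⊤ → SylIn 2 T H → U ≤ OZ 2 (JH T) → Nm(JJ 2 T) ≤ Nm(U) →
      CtrlFus H T (H ⊓ Nm(U)) := fun H T U hH hT hU hn => ctrlFus_of_subgroupOf hT.le (by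
    have hi := H.subtype_injective
    have hUH := hU.trans ((OZ_le _).trans ((JH_le T).trans hT.le))
    rw [subgroupOf_normalizer_eq hUH]
    refine ih H (card_lt_of_ne_top hH) (fun e => h4 (Involves.of_subgroup e)) (hK.sub H) _ _ hT.subgroupOf_top ?_ ?_
    · rwa [← map_le_map_iff_of_injective hi, map_OZ_of_injective hi, map_JH hi, map_subgroupOf_eq_of_le hT.le,
        map_subgroupOf_eq_of_le hUH]
    · rw [← map_le_map_iff_of_injective hi, map_subtype_Nm, map_subtype_Nm, map_J_of_injective _ hi,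
        map_subgroupOf_eq_of_le hT.le, map_subgroupOf_eq_of_le hUH]
      exact inf_le_inf_left _ hn)
  have hsub' : ∀ H : Subgroup G, H ≠ ⊤ → S ≤ H → CtrlFus H S Nm(V) := fun H hH hSH =>
    (hsub H S V hH (hS.mono hSH le_top) hV hN).mono inf_le_right
  set Q := pCore 2 G with hQd
  have hQp : IsPGroup 2 Q := isPGroup_pCore 2 G
  have hQS : Q ≤ S := hS.le_of_le_Nm hQp le_top le_normalizer_of_normal
  have hNm : ∀ X : Subgroup G, X ≤ S → ¬ X ≤ Q → Nm(X) ≠ ⊤ := fun X h1 h2 h =>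
    h2 (le_pCore (normal_iff_top_le_Nm.2 h.ge) (hS.pgrp.to_le h1))
  by_cases hSQ : S ≤ Q
  · refine (ctrlFus_refl _ _).mono (le_trans ?_ ((Nm_le_Nm_J S).trans hN))
    rw [le_antisymm hSQ hQS]; exact le_Nm_normal _ _
  by_cases hQ : Q = ⊥
  · have key : ∀ U, U ≤ S → SylIn 2 (S ⊓ Nm(U)) (⊤ ⊓ Nm(U)) → _ := fun U hU hfn =>
      WW_spec h4 hK hfn (le_inf le_top ((Cz_anti (le_inf hU le_normalizer)).trans (Cz_le_Nm U)))
    refine ((ctrlFus_of_functor WW (fun _ => inf_le_left) Nm_le_Nm_WW hS (sc_self _ _) (· ≠ ⊥) (fun _ _ _ h => h)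
      (fun U hU hU1 hfn _ h _ _ => cj_ne_bot ((key U hU hfn).2.2.2 (ne_bot_of_le (le_inf hU le_normalizer) hU1)))
      fun U hU hU1 hfn => ?_).mono inf_le_right).trans (hsub' _ (hNm _ inf_le_left fun e => ?_)
        (le_normalizer.trans (Nm_le_Nm_WW S)))
    · refine (hsub _ _ _ ?_ hfn (key U hU hfn).2.1 (key U hU hfn).2.2.1).mono (inf_le_inf_right _ inf_le_left)
      rw [top_inf_eq]
      exact hNm U hU fun e => hU1 (eq_bot_iff.2 (hQ ▸ e))
    · exact (WW_spec h4 hK hS le_top).2.2.2 (fun e => hSQ (e ▸ bot_le)) (eq_bot_iff.2 (hQ ▸ e))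
  by_cases hr : S ⊓ Cz(Q) ≤ Q
  · set φ := QuotientGroup.mk' (pPrimeCore 2 G)
    have hφ := QuotientGroup.mk'_surjective (pPrimeCore 2 G)
    have hO := coprime_card_pPrimeCore 2 G
    have hd : ∀ X, X ≤ S → X ⊓ φ.ker = ⊥ := fun X hX => by
      rw [QuotientGroup.ker_mk']; exact (disjoint_of_isPGroup_of_coprime (hS.pgrp.to_le hX) hO).eq_bot
    have hc : ∀ X, X ≤ S → (Nat.card X).Coprime (Nat.card (pPrimeCore 2 G)) ∧
        (Group.IsSolvable X ∨ Group.IsSolvable (pPrimeCore 2 G)) := fun X hX =>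
      ⟨(coprime_card_of_isPGroup' (hS.pgrp.to_le hX) hO).symm, Or.inl (isSolvable_of_isPGroup (hS.pgrp.to_le hX))⟩
    refine ctrlFus_of_sup_coprime hS ((le_Nm_J S).trans hN) le_top hO (le_Nm_normal _ _) le_top fun g _ => ?_
    obtain ⟨c, h1, n, h2, e⟩ := exists_fact (hS.map_surj hφ) (fact_c _ (charP_quot hQp hS hr)
      (fun e => h4 (Involves.of_quotient e)) ((hK.ck hQp hS hr).quot _) _ (hS.map_surj hφ)) (mem_top (φ g))
    have h5 := (OZ_le (p := 2) _).trans (JH_le S)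
    rw [← map_JH_of_disjoint (hd S le_rfl), ← map_OZ_of_disjoint (hd _ (JH_le S)),
      ← map_centralizer_quotient (hc _ h5).1 (hc _ h5).2] at h1
    rw [show JJ 2 _ = _ from (map_TJ_of_disjoint (hd S le_rfl)).symm, ← map_normalizer_quotient (hc _ (J_le S)).1 (hc _ (J_le S)).2] at h2
    rw [sup_comm, ← QuotientGroup.ker_mk' (pPrimeCore 2 G), ← comap_map_eq, mem_comap, e]
    exact mul_mem (map_mono ((Cz_anti hV).trans (Cz_le_Nm _)) h1) (map_mono hN h2)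
  by_cases hC : S ⊔ Cz(Q) = ⊤
  swap
  · have hSR : S ≤ Nm(S ⊓ Cz(Q)) := CfH7.le_normalizer_inf le_normalizer (le_Nm_normal _ _)
    refine ctrlFus_of_prod hS le_sup_left hSR le_top (fun g _ => ?_) (hsub' _ hC le_sup_left)
      (hsub' _ (hNm _ inf_le_left hr) hSR)
    obtain ⟨x, hx, y, hy, rfl⟩ := (hS.inf_normal' (le_Nm_normal _ Cz(Q)) le_top).frattini' (mem_Nm_of_normal g _)
    exact ⟨x, hx, y, mem_sup_right hy, rfl⟩
  let f := QuotientGroup.mk' Q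
  have hf : Function.Surjective f := QuotientGroup.mk'_surjective Q
  have h4' : ¬ Involves (Equiv.Perm (Fin 4)) (G ⧸ Q) := fun h => h4 (Involves.of_quotient h)
  obtain ⟨-, w1, w2, w3⟩ := WW_spec h4' (hK.quot Q) (hS.map_surj hf) le_top
  have h1 := ih (G ⧸ Q) (card_quot_lt hQ) h4' (hK.quot Q) _ _ (hS.map_surj hf) w1 w2
  have hSM : S ≤ (Nm(WW (S.map f))).comap f := map_le_iff_le_comap.1 ((le_Nm_J _).trans w2)
  refine (ctrlFus_of_quotient hS hQp (pResidual_le_of_sup_eq_top hS.pgrp (by rwa [sup_comm])) hSM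
    (by rwa [map_comap_eq_self_of_surjective hf])).trans (hsub' _ (fun h => ?_) hSM)
  have h2 : (WW (S.map f)).Normal := normal_iff_top_le_Nm.2 (by
    rw [← map_comap_eq_self_of_surjective hf Nm(WW (S.map f)), h, map_top_of_surjective f hf])
  refine w3 (fun h => hSQ ?_) (eq_bot_of_normal_of_pCore_eq_bot (pCore_quotient_pCore 2 G) h2
    ((hS.pgrp.map f).to_le inf_le_left))
  rwa [Subgroup.map_eq_bot_iff, QuotientGroup.ker_mk'] at h

theorem s4_free_sc (h4 : ¬ Involves (Equiv.Perm (Fin 4)) G) (hK : SecCK G) {S : Subgroup G} (hS : SylIn 2 S ⊤) :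
    nclo (OZ 2 S) Nm(JJ 2 S) ≤ OZ 2 (JH S) ∧ CtrlFus ⊤ S Nm(nclo (OZ 2 S) Nm(JJ 2 S)) := by
  haveI : Fact (Nat.Prime 2) := ⟨Nat.prime_two⟩
  obtain ⟨w0, w1, w2, -⟩ := WW_spec h4 hK hS le_top
  rw [w0, sylowCenterClosure_eq_nclo (hS.mono (le_Nm_J S) le_top)] at w1 w2
  exact ⟨w1, ctrlFus_s4 G h4 hK S _ hS w1 w2⟩

end CfH1
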